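import Cfsg.Agent.J3U.YEl

/-!
All relators of the amalgam hold in a group with one class of involutions.
-/

set_option autoImplicit false
set_option maxRecDepth 100000

namespace CfsgLib.J3U

open CfsgLib.Coset CfsgLib.J2U

/-- The base data together with all relators of the amalgam. -/
structure Amal {G : Type*} [Group G] (z : G) (b : Fin 5 → G) (S w x y : G) : Prop where
  base : Base z b S w x y
  relA : ∀ u ∈ relsA, ev (LGof z b S w x y) u = 1

variable {G : Type*} [Group G] {z : G} {b : Fin 5 → G} {S w x y : G}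

namespace Base

variable (B : Base z b S w x y)

include B

theorem eqC {u v : List Nat} (h : sameT TC.Tb 10 u v = true) :
    ev (LCof z b S w x) u = ev (LCof z b S w x) v := B.core.eqC h

theorem exC {c : G} (hc : c * z = z * c) :
    ∃ i < 1920, c = ev (LCof z b S w x) (wdC i) ∧ ∀ l ∈ wdC i, l < 10 := B.core.exC hc

theorem neC {u v : List Nat} (h : ev (LCof z b S w x) u = ev (LCof z b S w x) v)
    (hu : ∀ l ∈ u, l < 10) (hv : ∀ l ∈ v, l < 10) : eqT u v = true := B.core.neC h hu hv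

/-- Small facts from the table. -/
theorem facts : b 0 * b 0 = 1 ∧ b 4 * b 4 = 1 ∧ w * w = 1 ∧ z * z = 1 ∧ z * b 0 = b 0 * z ∧
    b 4 * z = z * b 4 ∧ b 4 * x = x * b 4 ∧ b 4 * b 0 * b 4 = z * b 0 ∧
    x * b 0 = b 0 * x ∧ w * b 0 = b 0 * w ∧ w * z = z * w ∧ x * z = z * x := by
  have e := fun u v (h : sameT TC.Tb 10 u v = true) => B.eqC (u := u) (v := v) h
  refine ⟨?_, ?_, ?_, ?_, ?_, ?_, ?_, ?_, ?_, ?_, ?_, ?_⟩
  · simpa [LCof, fl] using e [0, 0] [] (by decide +kernel)
  · simpa [LCof, fl] using e [4, 4] [] (by decide +kernel)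
  · simpa [LCof, fl] using e [6, 6] [] (by decide +kernel)
  · simpa [LCof, fl] using e [9, 9] [] (by decide +kernel)
  · simpa [LCof, fl] using e [9, 0] [0, 9] (by decide +kernel)
  · simpa [LCof, fl] using e [4, 9] [9, 4] (by decide +kernel)
  · simpa [LCof, fl] using e [4, 7] [7, 4] (by decide +kernel)
  · simpa [LCof, fl, mul_assoc] using e [4, 0, 4] [9, 0] (by decide +kernel)
  · simpa [LCof, fl] using e [7, 0] [0, 7] (by decide +kernel)
  · simpa [LCof, fl] using e [6, 0] [0, 6] (by decide +kernel)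
  · simpa [LCof, fl] using e [6, 9] [9, 6] (by decide +kernel)
  · simpa [LCof, fl] using e [7, 9] [9, 7] (by decide +kernel)

theorem y_zb : y * (z * b 0) * y⁻¹ = b 0 * (z * b 0) := by
  calc y * (z * b 0) * y⁻¹ = (y * z * y⁻¹) * (y * b 0 * y⁻¹) := by group
    _ = _ := by rw [B.yz, B.yb]

theorem y_zb' : y * (z * b 0) * y⁻¹ = z := by
  obtain ⟨b00, -, -, -, hzb, -⟩ := B.facts
  rw [B.y_zb, ← mul_assoc, ← hzb, mul_assoc, b00, mul_one]

/-- The product `y b₄ y b₄`. -/
theorem y_sq : y * b 4 * y * b 4 = x ∨ y * b 4 * y * b 4 = x * (z * b 0) := by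
  obtain ⟨b00, b44, w2, zz, hzb, b4z, b4x, b40, xb0, wb0, wz, xz⟩ := B.facts
  have hd := B.y_d
  set L := LCof z b S w x with hL
  set g := y * b 4 * y * b 4 with hg
  have b4i : (b 4)⁻¹ = b 4 := inv_eq_of_mul_eq_one_right b44
  have hb4z : b 4 * z * (b 4)⁻¹ = z := mul_inv_eq_iff_eq_mul.2 b4z
  have hb40 : b 4 * b 0 * (b 4)⁻¹ = z * b 0 := by rw [b4i, b40]
  have hgz : g * z = z * g := by
    refine mul_inv_eq_iff_eq_mul.1 ?_
    calc g * z * g⁻¹ = y * (b 4 * (y * (b 4 * z * (b 4)⁻¹) * y⁻¹) * (b 4)⁻¹) * y⁻¹ := by rw [hg]; group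
      _ = z := by rw [hb4z, B.yz, hb40, B.y_zb']
  obtain ⟨i, hi, hgi, hl⟩ := B.exC hgz
  have hg0 : g * b 0 = b 0 * g := by
    refine mul_inv_eq_iff_eq_mul.1 ?_
    calc g * b 0 * g⁻¹ = y * (b 4 * (y * (b 4 * b 0 * (b 4)⁻¹) * y⁻¹) * (b 4)⁻¹) * y⁻¹ := by rw [hg]; group
      _ = b 0 := by rw [hb40, B.y_zb', hb4z, B.yz]
  have hgx : g * x = x * g :=
    (((Commute.mul_left (show Commute y x from B.yx) (show Commute (b 4) x from b4x)).mul_left B.yx).mul_left
      b4x).eq
  have hyw : y * w * y⁻¹ = w := mul_inv_eq_iff_eq_mul.2 B.yw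
  have hyx : y * x * y⁻¹ = x := mul_inv_eq_iff_eq_mul.2 B.yx
  have hgd : g * (b 1 * b 2) * g⁻¹ = ev L [8, 6, 7, 4, 1, 8, 6, 7] := by
    have h4d : b 4 * (b 1 * b 2) * (b 4)⁻¹ = b 1 * b 2 := by
      rw [b4i]; simpa [hL, LCof, fl, mul_assoc] using B.eqC (u := [4, 1, 2, 4]) (v := [1, 2]) (by decide +kernel)
    have hu : b 4 * ev L [1, 4, 8, 6, 7] * (b 4)⁻¹ = ev L [2, 1, 8, 6, 7] := by
      rw [b4i]
      simpa [hL, LCof, fl, mul_assoc] using
        B.eqC (u := [4, 1, 4, 8, 6, 7, 4]) (v := [2, 1, 8, 6, 7]) (by decide +kernel)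
    have hinv : b 2 * b 1 = (b 1 * b 2)⁻¹ := by
      refine (inv_eq_of_mul_eq_one_right ?_).symm
      simpa [hL, LCof, fl, mul_assoc] using B.eqC (u := [1, 2, 2, 1]) (v := []) (by decide +kernel)
    have hei : (ev L [1, 4, 8, 6, 7])⁻¹ = ev L [8, 6, 7, 4, 1] := by
      refine inv_eq_of_mul_eq_one_right ?_
      rw [← ev_append, B.eqC (u := _) (v := []) (by decide +kernel)]; rfl
    calc g * (b 1 * b 2) * g⁻¹
        = y * (b 4 * (y * (b 4 * (b 1 * b 2) * (b 4)⁻¹) * y⁻¹) * (b 4)⁻¹) * y⁻¹ := by rw [hg]; group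
      _ = y * ((b 1 * b 2)⁻¹ * (x⁻¹ * w * x)) * y⁻¹ := by
          rw [h4d, hd, hu, ← hinv]
          simp [hL, LCof, fl, mul_assoc]
      _ = (y * (b 1 * b 2) * y⁻¹)⁻¹ * ((y * x * y⁻¹)⁻¹ * (y * w * y⁻¹) * (y * x * y⁻¹)) := by group
      _ = _ := by
          rw [hd, hyx, hyw, hei]
          simp [hL, LCof, fl, mul_assoc]
  have h1 : eqT (wdC i ++ [0]) ([0] ++ wdC i) = true := by
    refine B.neC ?_ (by intro l hm; simp only [List.mem_append, List.mem_cons, List.not_mem_nil, or_false] at hm; repeat' first | exact hl l hm | omega | rcases hm with hm | hm) (by intro l hm; simp only [List.mem_append, List.mem_cons, List.not_mem_nil, or_false] at hm; repeat' first | exact hl l hm | omega | rcases hm with hm | hm)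
    rw [ev_append, ev_append, ← hgi]
    simpa [hL, LCof, fl] using hg0
  have h2 : eqT (wdC i ++ [7]) ([7] ++ wdC i) = true := by
    refine B.neC ?_ (by intro l hm; simp only [List.mem_append, List.mem_cons, List.not_mem_nil, or_false] at hm; repeat' first | exact hl l hm | omega | rcases hm with hm | hm) (by intro l hm; simp only [List.mem_append, List.mem_cons, List.not_mem_nil, or_false] at hm; repeat' first | exact hl l hm | omega | rcases hm with hm | hm)
    rw [ev_append, ev_append, ← hgi]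
    simpa [hL, LCof, fl] using hgx
  have h3 : eqT (wdC i ++ [1, 2]) ([8, 6, 7, 4, 1, 8, 6, 7] ++ wdC i) = true := by
    refine B.neC ?_ (by intro l hm; simp only [List.mem_append, List.mem_cons, List.not_mem_nil, or_false] at hm; repeat' first | exact hl l hm | omega | rcases hm with hm | hm) (by intro l hm; simp only [List.mem_append, List.mem_cons, List.not_mem_nil, or_false] at hm; repeat' first | exact hl l hm | omega | rcases hm with hm | hm)
    rw [ev_append, ev_append, ← hgi, ← hgd]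
    simp [LCof, fl, mul_assoc]
  have ht := of_allBelow gTest_all i hi
  unfold gTest at ht
  rw [h1, h2, h3] at ht
  simp only [cond_true, Bool.or_eq_true] at ht
  -- conjugation by `b₄` agrees with conjugation by `y⁻¹`
  have hC2 : b 4 * g * b 4 = y⁻¹ * g * y := by
    calc b 4 * g * b 4 = b 4 * y * b 4 * y * (b 4 * b 4) := by rw [hg]; group
      _ = _ := by rw [b44, hg]; group
  have yiz : y⁻¹ * z * y = z * b 0 := by
    calc y⁻¹ * z * y = y⁻¹ * (y * (z * b 0) * y⁻¹) * y := by rw [B.y_zb']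
      _ = _ := by group
  have yib : y⁻¹ * b 0 * y = z := by rw [← B.yz]; group
  have yix : y⁻¹ * x * y = x := by rw [mul_assoc, ← B.yx]; group
  rcases ht with ((h | h) | h) | h <;> have hv := B.core.of_eq hl (by simp) h <;> rw [← hL, ← hgi] at hv
  · left; simpa [hL, LCof, fl] using hv
  · exfalso
    have hv' : g = x * z := by simpa [hL, LCof, fl] using hv
    have hh : ev L [4, 7, 9, 4] = ev L [7, 9, 0] := by
      calc ev L [4, 7, 9, 4] = b 4 * (x * z) * b 4 := by simp [hL, LCof, fl, mul_assoc]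
        _ = (y⁻¹ * x * y) * (y⁻¹ * z * y) := by rw [← hv', hC2, hv']; group
        _ = ev L [7, 9, 0] := by rw [yix, yiz]; simp [hL, LCof, fl, mul_assoc]
    exact absurd (B.neC hh (by simp) (by simp)) (by decide +kernel)
  · exfalso
    have hv' : g = x * b 0 := by simpa [hL, LCof, fl] using hv
    have hh : ev L [4, 7, 0, 4] = ev L [7, 9] := by
      calc ev L [4, 7, 0, 4] = b 4 * (x * b 0) * b 4 := by simp [hL, LCof, fl, mul_assoc]
        _ = (y⁻¹ * x * y) * (y⁻¹ * b 0 * y) := by rw [← hv', hC2, hv']; group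
        _ = ev L [7, 9] := by rw [yix, yib]; simp [hL, LCof, fl, mul_assoc]
    exact absurd (B.neC hh (by simp) (by simp)) (by decide +kernel)
  · right; simpa [hL, LCof, fl, mul_assoc] using hv

end Base

/-- After an adjustment all relators of the amalgam hold. -/
theorem exists_amal (B : Base z b S w x y) : ∃ y', Amal z b S w x y' := by
  obtain ⟨b00, b44, w2, zz, hzb, b4z, b4x, b40, xb0, wb0, wz, xz⟩ := B.facts
  obtain ⟨y', B', hsq⟩ : ∃ y', Base z b S w x y' ∧ y' * b 4 * y' * b 4 = x := by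
    rcases B.y_sq with h | h
    · exact ⟨y, B, h⟩
    · have b0i : (b 0)⁻¹ = b 0 := inv_eq_of_mul_eq_one_right b00
      refine ⟨b 0 * y * b 0, ⟨B.core, ?_, ?_, ?_, ?_, ?_, ?_⟩, ?_⟩
      · rw [show b 0 * y * b 0 = b 0 * y * (b 0)⁻¹ by rw [b0i], conj_pow, B.y3]; group
      · exact (((show Commute (b 0) x from xb0.symm).mul_left B.yx).mul_left xb0.symm).eq
      · exact (((show Commute (b 0) w from wb0.symm).mul_left B.yw).mul_left wb0.symm).eq
      · rw [mul_inv_rev, mul_inv_rev, b0i, show b 0 * y * b 0 * z * (b 0 * (y⁻¹ * b 0)) =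
          b 0 * (y * (b 0 * z * b 0) * y⁻¹) * b 0 by group, ← hzb, mul_assoc z, b00, mul_one, B.yz, b00,
          one_mul]
      · rw [mul_inv_rev, mul_inv_rev, b0i, show b 0 * y * b 0 * b 0 * (b 0 * (y⁻¹ * b 0)) =
          b 0 * (y * (b 0 * b 0 * b 0) * y⁻¹) * b 0 by group, b00, one_mul, B.yb, ← mul_assoc, ← hzb,
          mul_assoc z, b00, mul_one]
      · have hd0 : b 0 * (b 1 * b 2) * b 0 = b 1 * b 2 := by
          simpa [LCof, fl, mul_assoc] using B.eqC (u := [0, 1, 2, 0]) (v := [1, 2]) (by decide +kernel)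
        rw [mul_inv_rev, mul_inv_rev, b0i, show b 0 * y * b 0 * (b 1 * b 2) * (b 0 * (y⁻¹ * b 0)) =
          b 0 * (y * (b 0 * (b 1 * b 2) * b 0) * y⁻¹) * b 0 by group, hd0, B.y_d]
        simpa [LCof, fl, mul_assoc] using
          B.eqC (u := [0, 1, 4, 8, 6, 7, 0]) (v := [1, 4, 8, 6, 7]) (by decide +kernel)
      · have h1 : b 0 * b 4 = z * b 4 * b 0 := by
          have := congrArg (fun u => b 4 * u) (show b 0 * b 4 = b 4 * (b 4 * b 0 * b 4) by
            rw [← mul_assoc, ← mul_assoc, b44, one_mul])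
          rw [b40] at this
          have h2 := congrArg (fun u => b 4 * u) this
          simp only [← mul_assoc, b44, one_mul] at h2
          rw [h2, b4z]
        have h2 : y * z = b 0 * y := mul_inv_eq_iff_eq_mul.1 B.yz
        calc b 0 * y * b 0 * b 4 * (b 0 * y * b 0) * b 4
            = b 0 * y * (b 0 * b 4) * b 0 * y * b 0 * b 4 := by group
          _ = b 0 * (y * z) * b 4 * (b 0 * b 0) * y * (b 0 * b 4) := by nth_rewrite 1 [h1]; group
          _ = (y * b 4 * y * z) * b 4 * b 0 := by rw [h2, b00, h1, ← mul_assoc (b 0) (b 0), b00]; group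
          _ = (y * b 4 * y * b 4) * (z * b 0) := by rw [mul_assoc (y * b 4 * y) z, ← b4z]; group
          _ = x := by
            rw [h, mul_assoc, show z * b 0 * (z * b 0) = z * (b 0 * z) * b 0 by group, ← hzb, ← mul_assoc z z, zz,
              one_mul, b00, mul_one]
  refine ⟨y', B', ?_⟩
  have hd := B'.y_d
  intro u hu
  simp only [relsA, List.mem_append, List.mem_map] at hu
  rcases hu with ⟨v, hv, rfl⟩ | hu
  · rw [← ev_subL (show (LGof z b S w x y').length = 12 from rfl) v]
    exact B'.core.relC v hv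
  · have hy3 : y' * y' * y' = 1 := by rw [← B'.y3]; simp [pow_succ, mul_assoc]
    have hyx : y' * x * y'⁻¹ = x := mul_inv_eq_iff_eq_mul.2 B'.yx
    have hyw : y' * w * y'⁻¹ = w := mul_inv_eq_iff_eq_mul.2 B'.yw
    simp only [relsY, List.mem_cons, List.not_mem_nil, or_false] at hu
    rcases hu with rfl | rfl | rfl | rfl | rfl | rfl | rfl | rfl | rfl
    all_goals simp only [LGof, fl, ev_cons, ev_nil, mul_one, List.getD_eq_getElem?_getD,
      List.getElem?_cons_succ, List.getElem?_cons_zero, Option.getD_some]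
    · exact mul_inv_cancel _
    · exact inv_mul_cancel _
    · rw [← mul_assoc]; exact hy3
    · simp only [← mul_assoc]; rw [hyx, mul_inv_cancel]
    · simp only [← mul_assoc]; rw [hyw, w2]
    · simp only [← mul_assoc]; rw [B'.yz, b00]
    · simp only [← mul_assoc]; rw [B'.yb, mul_assoc z (b 0), b00, mul_one]
      exact zz
    · simp only [← mul_assoc]
      rw [mul_assoc y' (b 1) (b 2), hd]
      have := B'.eqC (u := [1, 4, 8, 6, 7, 8, 6, 7, 4, 1]) (v := []) (by decide +kernel)
      simpa [LCof, fl, mul_assoc] using this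
    · simp only [← mul_assoc]; rw [hsq, mul_inv_cancel]

end CfsgLib.J3U
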