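import Cfsg.Agent.Coset.Prim

/-!
Relators of the subgroup generated by the chosen element of order five and part of the centraliser.
-/

set_option autoImplicit false

namespace CfsgLib.J3U

/-- Letters: the central involution, an involution, an element of order three, its inverse, one of order five, its inverse. -/
def ivK (x : Nat) : Nat := ([0, 1, 3, 2, 5, 4] : List Nat).getD x x

/-- Letters of the smaller part. -/
def ivH (x : Nat) : Nat := ([0, 1, 3, 2] : List Nat).getD x x

/-- Relators of the smaller part. -/
def relsH : List (List Nat) :=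
  [[0, 0], [1, 1], [2, 3], [3, 2], [2, 2, 2], [0, 1, 0, 1], [0, 2, 0, 3], [1, 2, 1, 2, 1, 2, 1, 2, 1, 2]]

/-- An element of the smaller part inverting the element of order three. -/
def invX : List Nat := [1, 2, 1, 2, 2, 1, 2, 1, 2, 2, 1]

/-- The relator of one of the two candidates. -/
def rK (n : Nat) : List Nat :=
  let u := if n = 0 then [3, 1, 3, 1, 2, 1, 2] else [3, 1, 2, 1, 3, 1, 2]
  let b := if n = 0 then 1 else 2
  u ++ [4] ++ List.replicate b 2 ++ u ++ List.replicate b 3 ++ [4] ++ u ++ [5, 5]

/-- All relators. -/
def relsK (n : Nat) : List (List Nat) :=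
  relsH ++ [[4, 5], [5, 4], [4, 2, 5, 3], [4, 4, 4, 4, 4], [0, 4, 0, 4], rK n,
    invX ++ [4] ++ (invX.map ivK).reverse ++ [4]]

end CfsgLib.J3U
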