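import Cfsg.Agent.Coset.Table
import Cfsg.Agent.J3U.KDefs
import Cfsg.Agent.J3U.KHData

set_option autoImplicit false
set_option maxRecDepth 100000

namespace CfsgLib.J3U.KH

open CfsgLib.Coset

theorem hR : checkRules relsH subs R = true := by decide +kernel
theorem hdefs : checkDefs E 4 7 120 = true := by decide +kernel
theorem hsteps : checkChunks E ivH R 4 1 120 2 C = true := by decide +kernel
theorem htable : checkTable E ivH (120 + chunk * 2) 120 4 7 2 Rep Ref Tb = true := by decide +kernel

end CfsgLib.J3U.KH
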