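import Cfsg.Agent.Coset.Table
import Cfsg.Agent.J3U.KDefs
import Cfsg.Agent.J3U.KT0Data

set_option autoImplicit false
set_option maxRecDepth 100000

namespace CfsgLib.J3U.KT0

open CfsgLib.Coset

theorem hR : checkRules (relsK 0) subs R = true := by decide +kernel
theorem hdefs : checkDefs E 6 8 177 = true := by decide +kernel
theorem hsteps : checkChunks E ivK R 6 3 177 7 C = true := by decide +kernel
theorem htable : checkTable E ivK (177 + chunk * 7) 68 6 7 3 Rep Ref Tb = true := by decide +kernel

end CfsgLib.J3U.KT0
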