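import Cfsg.Agent.J2U.Letters

/-!
Relators for deciding how an element of order five moves an invariant four-group.
-/

set_option autoImplicit false

namespace CfsgLib.J3U

open CfsgLib.J2U

/-- The chosen element of order five as a word in the letters of the centraliser of the element of order three. -/
def twR (e : Nat) : List Nat := [4, 6, 3, 5] ++ ([[8], [7], []] : List (List Nat)).getD e []

/-- The same in all letters. -/
def tG (e : Nat) : List Nat := expR (twR e)

/-- The eight candidates: a word of an involution and an exponent. -/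
def vCases : List (List Nat × Nat) := [([8, 5, 8, 5, 7, 5, 7], 1), ([8, 5, 8, 5, 7, 5, 7], 2), ([8, 5, 7, 5, 8, 5, 7], 1), ([8, 5, 7, 5, 8, 5, 7], 2), ([0, 7, 5, 7, 5, 8, 5, 0, 8], 1), ([0, 7, 5, 7, 5, 8, 5, 0, 8], 2), ([5, 8, 5, 0, 5, 0, 5, 7, 5], 1), ([5, 8, 5, 0, 5, 0, 5, 7, 5], 2)]

/-- The relator of one candidate. -/
def rWord (e n : Nat) : List Nat :=
  let u := (vCases.getD n ([], 0)).1
  let b := (vCases.getD n ([], 0)).2
  u ++ tG e ++ List.replicate b 7 ++ u ++ List.replicate b 8 ++ tG e ++ u ++ invG (tG e) ++ invG (tG e)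

/-- All relators of one candidate. -/
def relsX (e n : Nat) : List (List Nat) :=
  relsA ++ [expR (qPow 4 e), rWord e n, (List.replicate 5 (tG e)).flatten,
    tG e ++ [7] ++ invG (tG e) ++ [8], [11] ++ tG e ++ ([11] ++ tG e)]

/-- The generators of the subgroup of index 18468. -/
def subsK (e : Nat) : List (List Nat) := [[11], [5], [7], tG e]

end CfsgLib.J3U
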