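import Cfsg.Agent.Coset.Blocks
import Cfsg.Agent.J3U.TabDefs
import Cfsg.Agent.J3U.X23Data

set_option autoImplicit false
set_option maxRecDepth 100000
set_option Elab.async false

namespace CfsgLib.J3U.X23

open CfsgLib.Coset CfsgLib.J2U

theorem hsteps4 : belowBlock 8 1784 (chunkAt E ivG R 12 23898 C) 4 = true := by decide +kernel
theorem hsteps5 : belowBlock 8 1784 (chunkAt E ivG R 12 23898 C) 5 = true := by decide +kernel
theorem hsteps6 : belowBlock 8 1784 (chunkAt E ivG R 12 23898 C) 6 = true := by decide +kernel
theorem hsteps7 : belowBlock 8 1784 (chunkAt E ivG R 12 23898 C) 7 = true := by decide +kernel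

end CfsgLib.J3U.X23
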