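import Cfsg.Agent.J3U.X23Steps0
import Cfsg.Agent.J3U.X23Steps1
import Mathlib.Tactic.IntervalCases

set_option autoImplicit false
set_option maxRecDepth 100000
set_option Elab.async false

namespace CfsgLib.J3U.X23

open CfsgLib.Coset CfsgLib.J2U

theorem hR : checkRules (relsX 2 3) subs R = true := by decide +kernel
theorem hdefs : checkDefs E 12 15 23898 = true := by decide +kernel
theorem hsteps : checkChunks E ivG R 12 (8 + 3) 23898 1784 C = true :=
  checkChunks_of_blocks (by decide +kernel) fun b hb => by
    have : b < 8 := hb
    interval_cases b
    · exact hsteps0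
    · exact hsteps1
    · exact hsteps2
    · exact hsteps3
    · exact hsteps4
    · exact hsteps5
    · exact hsteps6
    · exact hsteps7

theorem htable : checkTable E ivG (23898 + chunk * 1784) 18468 12 15 4 Rep Ref Tb = true := by decide +kernel

end CfsgLib.J3U.X23
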