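import Cfsg.Agent.J3U.Conj
import Cfsg.Agent.J3U.TabDefs
import Cfsg.Agent.J3U.X20
import Cfsg.Agent.J3U.X23
import Cfsg.Agent.J3U.KT0
import Cfsg.Agent.J3U.KT3
import Cfsg.Agent.J3U.KH

/-!
Twelve elements satisfying the relators generate a group of order at most three times 50232960.
-/

set_option autoImplicit false
set_option maxRecDepth 100000

namespace CfsgLib.J3U

open CfsgLib.Coset CfsgLib.J2U

/-- The six letters of the subgroup in the twelve. -/
def kG : List (List Nat) := [[11], [5], [7], [8], tG 2, invG (tG 2)]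

/-- The relator saying that an element inverting the element of order three inverts that of order five. -/
def invRel : List Nat := subW kG (invX ++ [4] ++ (invX.map ivK).reverse ++ [4])

/-- The final relators. -/
def relsJ (n : Nat) : List (List Nat) := relsX 2 n ++ [invRel]

theorem relsK_sub : ([0, 3].all fun n => (relsK n).all fun r =>
    (relsJ n).contains (subW kG r) || r == [4, 5] || r == [5, 4]) = true := by decide +kernel

theorem relsJ_inv : ([0, 3].all fun n => (List.range 12).all fun a => (relsJ n).contains [a, ivG a]) = true := by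
  decide +kernel

theorem subsK_ok : X20.subs = subsK 2 ∧ X23.subs = subsK 2 := ⟨by decide +kernel, by decide +kernel⟩

theorem kSubs_ok : KT0.subs = [[0], [1], [2]] ∧ KT3.subs = [[0], [1], [2]] ∧ KH.subs = [] :=
  ⟨by decide +kernel, by decide +kernel, by decide +kernel⟩

/-- The bound. -/
theorem bound {X : Type*} [Group X] {L : List X} {n : Nat} (hn : n = 0 ∨ n = 3) (hL : L.length = 12)
    (hrel : ∀ r ∈ relsJ n, ev L r = 1) :
    Finite (Subgroup.closure {v | v ∈ L} : Subgroup X) ∧
      Nat.card (Subgroup.closure {v | v ∈ L} : Subgroup X) ≤ 150698880 := by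
  have hn' : n ∈ [0, 3] := by simp; exact hn
  have hiv := inv_of_rels hL hrel (List.all_eq_true.mp relsJ_inv n hn') ivG_out
  set LK := kG.map (ev L) with hLK
  have hlK : LK.length = 6 := rfl
  have hK : ∀ r ∈ relsK n, ev LK r = 1 := by
    intro r hr
    rw [hLK, ← ev_subW]
    have hs := List.all_eq_true.mp (List.all_eq_true.mp relsK_sub n hn') r hr
    simp only [Bool.or_eq_true, beq_iff_eq] at hs
    rcases hs with (h | rfl) | rfl
    · exact hrel _ (List.contains_iff_mem.mp h)
    · rw [ev_subW]; simp [kG, fl, invG, ev_inv_word hiv]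
    · rw [ev_subW]; simp [kG, fl, invG, ev_inv_word hiv]
  set LH := LK.take 4 with hLH
  have hH : ∀ r ∈ relsH, ev LH r = 1 := by
    intro r hr
    have h : ev LH r = ev LK r := by
      have hlt : ∀ l ∈ r, l < 4 := by
        have : (relsH.all fun r => allList (fun l => Nat.blt l 4) r) = true := by decide +kernel
        exact fun l hl => Nat.blt_eq.mp (allList_iff.mp (List.all_eq_true.mp this r hr) l hl)
      clear hr
      induction r with
      | nil => simp
      | cons l r ih =>
        rw [ev_cons, ev_cons, ih fun m hm => hlt m (by simp [hm])]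
        congr 1
        have := hlt l (by simp)
        interval_cases l <;> rfl
    rw [h]
    exact hK r (by simp [relsK, hr])
  have TH : TableOK LH (⊥ : Subgroup X) KH.E ivH 120 KH.Rep KH.Tb :=
    tableOK_of_check (inv_of_rels (show LH.length = 4 from rfl) hH (by decide +kernel)
      fun a ha => List.getD_eq_default _ _ (by simpa using ha)) KH.hR KH.hdefs KH.hsteps KH.htable hH
      (by simp [kSubs_ok.2.2])
  obtain ⟨fH, cH⟩ := TH.finite_card_le (by norm_num) bot_le inferInstance (m := 1) (by simp)
  set HH : Subgroup X := Subgroup.closure {v | v ∈ LH} with hHH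
  have hmemH : ∀ w ∈ ([[0], [1], [2]] : List (List Nat)), ev LK w ∈ HH := by
    intro w hw
    simp only [List.mem_cons, List.not_mem_nil, or_false] at hw
    rcases hw with rfl | rfl | rfl <;> simp only [ev_cons, ev_nil, mul_one] <;>
      exact Subgroup.subset_closure (by simp [hLH, hLK, kG, fl])
  have hivK := inv_of_rels (iv := ivK) hlK hK (by rcases hn with rfl | rfl <;> decide +kernel)
    fun a ha => List.getD_eq_default _ _ (by simpa using ha)
  set HK : Subgroup X := Subgroup.closure {v | v ∈ LK} with hHK
  have hle : HH ≤ HK := Subgroup.closure_mono fun v hv => List.mem_of_mem_take hv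
  obtain ⟨fK, cK⟩ : Finite HK ∧ Nat.card HK ≤ 68 * (120 * 1) := by
    rcases hn with rfl | rfl
    · have T : TableOK LK HH KT0.E ivK 68 KT0.Rep KT0.Tb :=
        tableOK_of_check hivK KT0.hR KT0.hdefs KT0.hsteps KT0.htable hK (kSubs_ok.1.symm ▸ hmemH)
      exact T.finite_card_le (by norm_num) hle fH cH
    · have T : TableOK LK HH KT3.E ivK 68 KT3.Rep KT3.Tb :=
        tableOK_of_check hivK KT3.hR KT3.hdefs KT3.hsteps KT3.htable hK (kSubs_ok.2.1.symm ▸ hmemH)
      exact T.finite_card_le (by norm_num) hle fH cH
  have hmemK : ∀ w ∈ subsK 2, ev L w ∈ HK := by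
    intro w hw
    simp only [subsK, List.mem_cons, List.not_mem_nil, or_false] at hw
    rcases hw with rfl | rfl | rfl | rfl <;> exact Subgroup.subset_closure (by simp [hLK, kG])
  have hmemL : ∀ w : List Nat, ev L w ∈ Subgroup.closure {v | v ∈ L} := by
    intro w
    induction w with
    | nil => exact one_mem _
    | cons l w ih =>
      rw [ev_cons]
      refine mul_mem ?_ ih
      rcases lt_or_ge l L.length with hl | hl
      · exact Subgroup.subset_closure (show fl L l ∈ L by rw [fl, List.getD_eq_getElem _ _ hl]; exact List.getElem_mem hl)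
      · rw [fl_of_le _ hl]; exact one_mem _
  have hleK : HK ≤ Subgroup.closure {v | v ∈ L} := (Subgroup.closure_le _).2 fun v hv => by
    obtain ⟨w, -, rfl⟩ := List.mem_map.1 hv
    exact hmemL w
  have hrX : ∀ r ∈ relsX 2 n, ev L r = 1 := fun r hr => hrel r (List.mem_append_left _ hr)
  rcases hn with rfl | rfl
  · have T : TableOK L HK X20.E ivG 18468 X20.Rep X20.Tb :=
      tableOK_of_check hiv X20.hR (hL.symm ▸ X20.hdefs) (hL.symm ▸ X20.hsteps) (hL.symm ▸ X20.htable) hrX
        (subsK_ok.1.symm ▸ hmemK)
    exact T.finite_card_le (by norm_num) hleK fK cK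
  · have T : TableOK L HK X23.E ivG 18468 X23.Rep X23.Tb :=
      tableOK_of_check hiv X23.hR (hL.symm ▸ X23.hdefs) (hL.symm ▸ X23.hsteps) (hL.symm ▸ X23.htable) hrX
        (subsK_ok.2.symm ▸ hmemK)
    exact T.finite_card_le (by norm_num) hleK fK cK

end CfsgLib.J3U
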