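import Cfsg.Agent.J3U.CentX
import Cfsg.Agent.J2U.Main

/-!
The centraliser of the element of order three is given by the letters of one of three tables.
-/

set_option autoImplicit false
set_option maxRecDepth 100000

namespace CfsgLib.J3U

open CfsgLib.Coset CfsgLib.J2U

universe uR

variable {G : Type uR} [Group G] {z : G} {b : Fin 5 → G} {S w x y : G}

namespace Amal

variable (A : Amal z b S w x y)

include A

theorem fl_LR (l : Nat) : ev (LGof z b S w x y) (cr2g.getD l []) = fl (LRof z b y (vEl z b S w x y) x) l := by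
  have hg : ev (LGof z b S w x y) [5, 8, 5, 7, 5, 8, 5, 7, 5] = gEl z b S w x := by
    simp [gEl, LGof, LCof, fl]
  rcases lt_or_ge l 9 with hl | hl
  · interval_cases l
    · simp [cr2g, LGof, LRof, fl]
    · simp [cr2g, LGof, LRof, fl]
    · simp [cr2g, LGof, LRof, fl]
    · simp [cr2g, LGof, LRof, fl]
    · simp [cr2g, LGof, LRof, fl]
    · have hgi : (gEl z b S w x)⁻¹ = ev (LCof z b S w x) [5, 8, 5, 7, 5, 8, 5, 7, 5] := by
        refine inv_eq_of_mul_eq_one_right ?_
        rw [gEl, ← ev_append, A.base.eqC (u := _) (v := []) (by decide +kernel)]; rfl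
      simp only [cr2g]
      rw [show fl (LRof z b y (vEl z b S w x y) x) 5 = vEl z b S w x y from rfl, vEl, hgi]
      simp [gEl, LGof, LCof, fl, mul_assoc]
    · have hgi : (gEl z b S w x)⁻¹ = ev (LCof z b S w x) [5, 8, 5, 7, 5, 8, 5, 7, 5] := by
        refine inv_eq_of_mul_eq_one_right ?_
        rw [gEl, ← ev_append, A.base.eqC (u := _) (v := []) (by decide +kernel)]; rfl
      simp only [cr2g]
      rw [show fl (LRof z b y (vEl z b S w x y) x) 6 = (vEl z b S w x y)⁻¹ from rfl, vEl, mul_inv_rev,
        mul_inv_rev, inv_inv, hgi]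
      simp [gEl, LGof, LCof, fl, mul_assoc]
    · simp [cr2g, LGof, LRof, fl]
    · simp [cr2g, LGof, LRof, fl]
  · rw [List.getD_eq_default _ _ (by simpa [cr2g] using hl), fl_of_le _ (by simpa [LRof] using hl), ev_nil]

theorem ev_expR (u : List Nat) :
    ev (LGof z b S w x y) (expR u) = ev (LRof z b y (vEl z b S w x y) x) u := by
  induction u with
  | nil => simp [expR]
  | cons l u ih =>
    rw [expR, List.flatMap_cons, ev_append, A.fl_LR, ev_cons, ← ih, expR]

theorem relR : ∀ u ∈ relsR, ev (LRof z b y (vEl z b S w x y) x) u = 1 := by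
  have B := A.base
  set g := gEl z b S w x with hg
  set v := vEl z b S w x y with hv
  have hrel := A.relA [9, 4, 9, 4, 8] (List.mem_append.mpr (Or.inr (by decide)))
  have hsq : y * b 4 * (y * b 4) * x⁻¹ = 1 := by simpa [LGof, fl, mul_assoc] using hrel
  have e := fun p q (h : sameT TC.Tb 10 p q = true) => B.eqC (u := p) (v := q) h
  have gz : g * z * g⁻¹ = z := by
    rw [mul_inv_eq_iff_eq_mul]
    simpa [hg, gEl, LCof, fl, mul_assoc] using e [5, 8, 5, 7, 5, 8, 5, 7, 5, 9] [9, 5, 8, 5, 7, 5, 8, 5, 7, 5] (by decide +kernel)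
  have g0 : g * b 0 * g⁻¹ = b 4 := by
    rw [mul_inv_eq_iff_eq_mul]
    simpa [hg, gEl, LCof, fl, mul_assoc] using e [5, 8, 5, 7, 5, 8, 5, 7, 5, 0] [4, 5, 8, 5, 7, 5, 8, 5, 7, 5] (by decide +kernel)
  have g4 : g * b 4 * g⁻¹ = b 0 := by
    rw [mul_inv_eq_iff_eq_mul]
    simpa [hg, gEl, LCof, fl, mul_assoc] using e [5, 8, 5, 7, 5, 8, 5, 7, 5, 4] [0, 5, 8, 5, 7, 5, 8, 5, 7, 5] (by decide +kernel)
  have gx : g * x * g⁻¹ = x⁻¹ := by
    rw [mul_inv_eq_iff_eq_mul]
    simpa [hg, gEl, LCof, fl, mul_assoc] using e [5, 8, 5, 7, 5, 8, 5, 7, 5, 7] [8, 5, 8, 5, 7, 5, 8, 5, 7, 5] (by decide +kernel)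
  have b00 : b 0 * b 0 = 1 := by simpa [LCof, fl] using e [0, 0] [] (by decide +kernel)
  have b44 : b 4 * b 4 = 1 := by simpa [LCof, fl] using e [4, 4] [] (by decide +kernel)
  have zz : z * z = 1 := by simpa [LCof, fl] using e [9, 9] [] (by decide +kernel)
  have y3 : y * y * y = 1 := by rw [← B.y3]; simp [pow_succ, mul_assoc]
  have hvy : v = g * y * g⁻¹ := rfl
  have v3 : v * v * v = 1 := by
    rw [hvy, show g * y * g⁻¹ * (g * y * g⁻¹) * (g * y * g⁻¹) = g * (y * y * y) * g⁻¹ by group, y3]; group
  have x3 : x * x * x = 1 := by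
    rw [← orderOf_dvd_iff_pow_eq_one.1 B.core.x3.dvd]; simp [pow_succ, mul_assoc]
  have yx : x * y * x⁻¹ = y := mul_inv_eq_iff_eq_mul.2 B.yx.symm
  have vx : x * v * x⁻¹ = v := by
    have h : x⁻¹ * y * x = y := by rw [mul_assoc, B.yx]; group
    have hgxi : g * x⁻¹ * g⁻¹ = x := by
      rw [show g * x⁻¹ * g⁻¹ = (g * x * g⁻¹)⁻¹ by group, gx, inv_inv]
    calc x * v * x⁻¹ = (g * x⁻¹ * g⁻¹) * (g * y * g⁻¹) * (g * x⁻¹ * g⁻¹)⁻¹ := by rw [hgxi, hvy]
      _ = g * (x⁻¹ * y * x) * g⁻¹ := by group
      _ = v := by rw [h, hvy]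
  have vz : v * z * v⁻¹ = b 4 := by
    calc v * z * v⁻¹ = v * (g * z * g⁻¹) * v⁻¹ := by rw [gz]
      _ = g * (y * z * y⁻¹) * g⁻¹ := by rw [hvy]; group
      _ = b 4 := by rw [B.yz, g0]
  have v4 : v * b 4 * v⁻¹ = z * b 4 := by
    calc v * b 4 * v⁻¹ = v * (g * b 0 * g⁻¹) * v⁻¹ := by rw [g0]
      _ = g * (y * b 0 * y⁻¹) * g⁻¹ := by rw [hvy]; group
      _ = (g * z * g⁻¹) * (g * b 0 * g⁻¹) := by rw [B.yb]; group
      _ = z * b 4 := by rw [gz, g0]
  have v0 : v * b 0 * (v * b 0) * x = 1 := by
    calc v * b 0 * (v * b 0) * x = v * (g * b 4 * g⁻¹) * (v * (g * b 4 * g⁻¹)) * (g * x⁻¹ * g⁻¹) := by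
          rw [g4, show g * x⁻¹ * g⁻¹ = (g * x * g⁻¹)⁻¹ by group, gx, inv_inv]
      _ = g * (y * b 4 * (y * b 4) * x⁻¹) * g⁻¹ := by rw [hvy]; group
      _ = 1 := by rw [hsq]; group
  intro u hu
  simp only [relsR, List.mem_cons, List.not_mem_nil, or_false] at hu
  repeat' rcases hu with rfl | hu
  all_goals simp only [LRof, fl, ev_cons, ev_nil, mul_one, List.getD_eq_getElem?_getD,
    List.getElem?_cons_succ, List.getElem?_cons_zero, Option.getD_some]
  all_goals first
    | exact mul_inv_cancel _
    | exact inv_mul_cancel _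
    | exact zz
    | exact b00
    | exact b44
    | (rw [← mul_assoc]; exact y3)
    | (rw [← mul_assoc]; exact v3)
    | (rw [← mul_assoc]; exact x3)
    | (simpa [LCof, fl] using e [0, 9, 0, 9] [] (by decide +kernel))
    | (simpa [LCof, fl] using e [4, 9, 4, 9] [] (by decide +kernel))
    | (simpa [LCof, fl] using e [0, 4, 0, 4, 9] [] (by decide +kernel))
    | (simpa [LCof, fl] using e [7, 9, 8, 9] [] (by decide +kernel))
    | (simpa [LCof, fl] using e [7, 0, 8, 0] [] (by decide +kernel))
    | (simpa [LCof, fl] using e [7, 4, 8, 4] [] (by decide +kernel))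
    | (simp only [← mul_assoc]; rw [yx, mul_inv_cancel])
    | (simp only [← mul_assoc]; rw [vx, mul_inv_cancel])
    | (simp only [← mul_assoc]; rw [B.yz, b00])
    | (simp only [← mul_assoc]; rw [B.yb, mul_assoc z (b 0), b00, mul_one, zz])
    | (simpa [mul_assoc] using hsq)
    | (simp only [← mul_assoc]; rw [vz, b44])
    | (simp only [← mul_assoc]; rw [v4, mul_assoc z (b 4), b44, mul_one, zz])
    | (simpa [mul_assoc] using v0)

theorem q_comm : (y * (vEl z b S w x y)⁻¹) * x = x * (y * (vEl z b S w x y)⁻¹) := by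
  have h1 : ev (LRof z b y (vEl z b S w x y) x) [7, 5, 8, 6] = 1 := A.relR _ (by decide)
  have h2 : Commute x (vEl z b S w x y) := by
    have h : x * vEl z b S w x y * x⁻¹ * (vEl z b S w x y)⁻¹ = 1 := by
      simpa [LRof, fl, mul_assoc] using h1
    exact mul_inv_eq_iff_eq_mul.1 (mul_inv_eq_one.1 h)
  exact ((show Commute y x from A.base.yx).mul_left h2.symm.inv_left).eq

/-- The power of `y v⁻¹` is one of three. -/
theorem qPow_rel {k : Nat} (hk : (y * (vEl z b S w x y)⁻¹) ^ k ∈ Subgroup.zpowers x) [Finite G] :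
    ∃ e < 3, ev (LRof z b y (vEl z b S w x y) x) (qPow k e) = 1 := by
  have hq : ev (LRof z b y (vEl z b S w x y) x) (List.replicate k [3, 6]).flatten =
      (y * (vEl z b S w x y)⁻¹) ^ k := by
    rw [ev_flatten_replicate]; simp [LRof, fl]
  haveI : Fact (Nat.Prime 3) := ⟨Nat.prime_three⟩
  have x3 : x * x * x = 1 := by
    rw [← orderOf_dvd_iff_pow_eq_one.1 A.base.core.x3.dvd]; simp [pow_succ, mul_assoc]
  rcases HJT.pow_cases_three A.base.core.x3 hk with h | h | h
  · exact ⟨0, by norm_num, by simp [qPow, hq, h]⟩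
  · exact ⟨2, by norm_num, by rw [qPow, ev_append, hq, h]; simp [LRof, fl]⟩
  · exact ⟨1, by norm_num, by rw [qPow, ev_append, hq, h]; simp [LRof, fl, pow_two, x3]⟩

theorem collapse {E Rep Tb : Nat → Nat}
    (h : TableOK (LRof z b y (vEl z b S w x y) x)
      (Subgroup.centralizer ({z} : Set G)) E ivR 1 Rep Tb) : False := by
  have hy : ev (LRof z b y (vEl z b S w x y) x) [3] ∈ Subgroup.centralizer ({z} : Set G) := by
    refine h.ev_mem (by norm_num) (fun l hl => by simp at hl; subst hl; simp [LRof]) ?_
    have := h.lt 0 (by norm_num) 3 (by simp [LRof])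
    rw [follow_cons, follow_nil]; omega
  rw [Subgroup.mem_centralizer_singleton_iff] at hy
  refine A.base.core.bne ?_
  rw [← A.base.yz]
  have : y * z = z * y := by simpa [LRof, fl] using hy
  rw [this]; group

/-- Node facts of one table. -/
theorem mem_centR (u : List Nat) :
    ev (LRof z b y (vEl z b S w x y) x) u ∈ Subgroup.centralizer ({x} : Set G) := by
  induction u with
  | nil => exact one_mem _
  | cons l u ih =>
    rw [ev_cons]
    refine mul_mem ?_ ih
    rw [Subgroup.mem_centralizer_singleton_iff]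
    have B := A.base
    have e := fun p q (h : sameT TC.Tb 10 p q = true) => B.eqC (u := p) (v := q) h
    have hz : z * x = x * z := by simpa [LCof, fl] using e [9, 7] [7, 9] (by decide +kernel)
    have h0 : b 0 * x = x * b 0 := by simpa [LCof, fl] using e [0, 7] [7, 0] (by decide +kernel)
    have h4 : b 4 * x = x * b 4 := by simpa [LCof, fl] using e [4, 7] [7, 4] (by decide +kernel)
    have hq := A.q_comm
    have hy : Commute y x := B.yx
    have hvi : Commute (vEl z b S w x y)⁻¹ x := by
      have := hy.inv_left.mul_left (show Commute (y * (vEl z b S w x y)⁻¹) x from hq)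
      rwa [← mul_assoc, inv_mul_cancel, one_mul] at this
    rcases lt_or_ge l 9 with hl | hl
    · interval_cases l
      exacts [hz, h0, h4, hy.eq, hy.inv_left.eq, (inv_inv (vEl z b S w x y) ▸ hvi.inv_left).eq, hvi.eq, rfl,
        (Commute.refl x).inv_left.eq]
    · rw [fl_of_le _ (by simpa [LRof] using hl)]; simp

/-- The elements of the centraliser are the words of the nodes, without repetition. -/
theorem centR [Finite G] {e : Nat} {E Rep Tb Par Good : Nat → Nat} {ok : List (Nat × List Nat)}
    {m₀ : List Nat} (C : RChecks.{uR} e E Rep Tb Par Good ok m₀)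
    (hq : ev (LRof z b y (vEl z b S w x y) x) (qPow 4 e) = 1)
    (hcard : Nat.card (Subgroup.centralizer ({x} : Set G)) = 1080) :
    TableOK (LRof z b y (vEl z b S w x y) x) (⊥ : Subgroup G) E ivR 1080 Rep Tb ∧
      (∀ i < 1080, ∀ j < 1080, ev (LRof z b y (vEl z b S w x y) x) (wdR Par i) =
        ev (LRof z b y (vEl z b S w x y) x) (wdR Par j) → i = j) ∧
      ∀ g : G, g * x = x * g → ∃ i < 1080, g = ev (LRof z b y (vEl z b S w x y) x) (wdR Par i) := by
  classical
  have B := A.base
  set L := LRof z b y (vEl z b S w x y) x with hL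
  have hlen : L.length = 9 := rfl
  have T : TableOK L (⊥ : Subgroup G) E ivR 1080 Rep Tb :=
    C.table L hlen fun u hu => by
      rcases List.mem_append.mp hu with h | h
      · exact A.relR u h
      · rw [List.mem_singleton.mp h]; exact hq
  have hiv := T.inv
  -- only the first node is trivial
  have key : ∀ r i, field (Good i) 0 = r → i < 1080 → ev L (wdR Par i) = 1 → i = 0 := by
    intro r
    induction r using Nat.strong_induction_on with
    | _ r ih =>
      intro i hr hi h1
      by_contra hi0
      obtain ⟨hl, hf⟩ := checkPath_iff C.path hi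
      have hg := of_allBelow C.good i hi
      have hbeq : Nat.beq i 0 = false := by
        cases hh : Nat.beq i 0
        · rfl
        · exact absurd (Nat.eq_of_beq_eq_true hh) hi0
      unfold goodOK at hg
      rw [hbeq, cond_false] at hg
      have step : ∀ u : List Nat, (∀ l ∈ u, l < 9) → ev L u = 1 →
          Nat.blt (field (Good (follow (tget Tb) 0 u)) 0) (field (Good i) 0) = true →
          (!Nat.beq (follow (tget Tb) 0 u) 0) = true → False := by
        intro u hu hu1 hlt hne
        set j := follow (tget Tb) 0 u with hj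
        have hjn : j < 1080 := follow_lt T u 0 (by norm_num) hu
        obtain ⟨hlj, hfj⟩ := checkPath_iff C.path hjn
        have hev : ev L (wdR Par j) = 1 := by
          rw [wdR, ev_eq_of_follow T (by norm_num) hlj hu (by rw [hfj]), hu1]
        have := ih _ (hr ▸ Nat.blt_eq.mp hlt) j rfl hjn hev
        rw [this] at hne
        simp at hne
      cases h0 : Nat.beq (field (Good i) 0) 0
      · rw [h0, cond_false] at hg
        set c := field (Good i) 2
        cases h1' : Nat.beq (field (Good i) 1) 1
        · rw [h1', cond_false] at hg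
          cases h2' : Nat.beq (field (Good i) 1) 2
          · rw [h2', cond_false, Bool.and_eq_true] at hg
            refine step _ (fun l hm => ?_) ?_ hg.1 hg.2
            · obtain ⟨q, hq', hlq⟩ := List.mem_flatten.mp hm
              rw [List.eq_of_mem_replicate hq'] at hlq
              exact hl l hlq
            · rw [ev_flatten_replicate, h1, one_pow]
          · rw [h2', cond_true, Bool.and_eq_true, Bool.and_eq_true] at hg
            have hc : c < 9 := Nat.blt_eq.mp hg.1.1
            refine step _ ?_ ?_ hg.1.2 hg.2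
            · intro l hm
              simp only [List.mem_append, List.mem_reverse, List.mem_map, List.mem_cons, List.not_mem_nil,
                or_false] at hm
              rcases hm with ((hm | hm) | ⟨q, hq', rfl⟩) | hm
              · exact hl l hm
              · omega
              · exact ivR_lt q (hl q hq')
              · exact hm ▸ ivR_lt c hc
            · rw [ev_append, ev_append, ev_append, ev_inv_word hiv, h1]
              simp [hiv]
        · rw [h1', cond_true, Bool.and_eq_true, Bool.and_eq_true] at hg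
          have hc : c < 9 := Nat.blt_eq.mp hg.1.1
          refine step _ ?_ ?_ hg.1.2 hg.2
          · intro l hm
            simp only [List.mem_append, List.mem_cons, List.not_mem_nil, or_false] at hm
            rcases hm with (hm | hm) | hm
            · exact hm ▸ ivR_lt c hc
            · exact hl l hm
            · omega
          · rw [ev_append, ev_append, h1]
            simp [hiv]
      · rw [h0, cond_true] at hg
        simp only [Bool.or_eq_true] at hg
        have hx1 : x ≠ 1 := fun h => by have := B.core.x3; rw [h, orderOf_one] at this; norm_num at this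
        have hs : ∀ l < 9, Nat.beq i (follow (tget Tb) 0 [l]) = true → fl L l = 1 := by
          intro l hl9 h
          have hh := ev_eq_of_follow T (u := wdR Par i) (v := [l]) (by norm_num) hl
            (fun m hm => by simp at hm; subst hm; exact hl9)
            (by rw [wdR, hf]; exact Nat.eq_of_beq_eq_true h)
          rw [h1] at hh
          simpa using hh.symm
        rcases hg with (h | h) | h
        · exact B.core.zne (hs 0 (by norm_num) h)
        · exact hx1 (hs 7 (by norm_num) h)
        · exact hx1 (inv_eq_one.mp (hs 8 (by norm_num) h))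
  have hinj : ∀ i < 1080, ∀ j < 1080, ev L (wdR Par i) = ev L (wdR Par j) → i = j := by
    intro i hi j hj h
    obtain ⟨hli, hfi⟩ := checkPath_iff C.path hi
    obtain ⟨hlj, hfj⟩ := checkPath_iff C.path hj
    set u := ((wdR Par j).map ivR).reverse with hu
    have hul : ∀ l ∈ u, l < 9 := fun l hm => by
      obtain ⟨q, hq', rfl⟩ := List.mem_map.mp (List.mem_reverse.mp hm)
      exact ivR_lt q (hlj q hq')
    have h1 : ev L (wdR Par i ++ u) = 1 := by rw [ev_append, hu, ev_inv_word hiv, h, mul_inv_cancel]
    have hl' : ∀ l ∈ wdR Par i ++ u, l < 9 := List.forall_mem_append.mpr ⟨hli, hul⟩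
    set k := follow (tget Tb) 0 (wdR Par i ++ u) with hk
    have hkn : k < 1080 := follow_lt T _ 0 (by norm_num) hl'
    obtain ⟨hlk, hfk⟩ := checkPath_iff C.path hkn
    have hk0 : k = 0 := key _ k rfl hkn (by
      rw [wdR, ev_eq_of_follow T (by norm_num) hlk hl' (by rw [hfk]), h1])
    have hback := (follow_back C.perm u i hi hul).2
    rw [hk, follow_append', wdR, hfi] at hk0
    rw [hk0] at hback
    have hmm : (u.map ivR).reverse = wdR Par j := by
      rw [hu, List.map_reverse, List.reverse_reverse, List.map_map]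
      conv_rhs => rw [← List.map_id (wdR Par j)]
      refine List.map_congr_left fun l hl' => ?_
      have : ∀ l < 9, ivR (ivR l) = l := by decide
      simpa using this l (hlj l hl')
    rw [hmm, wdR, hfj] at hback
    exact hback.symm
  let F : Fin 1080 → Subgroup.centralizer ({x} : Set G) := fun i => ⟨ev L (wdR Par i), A.mem_centR _⟩
  have hF : Function.Bijective F := by
    refine (Nat.bijective_iff_injective_and_card _).mpr ⟨fun i j h => Fin.ext
      (hinj i i.2 j j.2 (congrArg Subtype.val h)), ?_⟩
    rw [Nat.card_fin]; exact hcard.symm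
  refine ⟨T, hinj, fun g hg => ?_⟩
  obtain ⟨i, hi⟩ := hF.2 ⟨g, Subgroup.mem_centralizer_singleton_iff.2 hg⟩
  exact ⟨i, i.2, (congrArg Subtype.val hi).symm⟩

end Amal

variable [Finite G]

theorem k_subs_mem (B : Base z b S w x y) (v : G) : ∀ u ∈ ([[0], [1], [2], [7]] : List (List Nat)),
    ev (LRof z b y v x) u ∈ Subgroup.centralizer ({z} : Set G) := by
  intro u hu
  have hmem : ∀ a ∈ LCof z b S w x, a ∈ Subgroup.centralizer ({z} : Set G) := fun a ha =>
    B.core.gen ▸ Subgroup.subset_closure ha
  simp only [List.mem_cons, List.not_mem_nil, or_false] at hu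
  rcases hu with rfl | rfl | rfl | rfl <;> simp only [ev_cons, ev_nil, mul_one] <;>
    exact hmem _ (by simp [LCof, LRof, fl])

theorem no_small (A : Amal z b S w x y) {k e : Nat} (hk : k = 3 ∨ k = 5) (he : e < 3)
    (hq : ev (LRof z b y (vEl z b S w x y) x) (qPow k e) = 1) : False := by
  have hrel : ∀ u ∈ relsR ++ [qPow k e], ev (LRof z b y (vEl z b S w x y) x) u = 1 := by
    intro u hu
    rcases List.mem_append.mp hu with h | h
    · exact A.relR u h
    · rw [List.mem_singleton.mp h]; exact hq
  have hiv := inv_of_rels (show (LRof z b y (vEl z b S w x y) x).length = 9 from rfl) hrel (invR_table k e) ivR_out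
  have hs := k_subs_mem A.base (vEl z b S w x y)
  have hsubs := kSubs
  simp only [List.replicate, List.cons.injEq, and_true] at hsubs
  obtain ⟨s0, s1, s2, s3, s4, s5⟩ := hsubs
  rcases hk with rfl | rfl <;> interval_cases e
  · exact A.collapse (tableOK_of_check hiv KThree0.hR KThree0.hdefs KThree0.hsteps KThree0.htable hrel (s0.symm ▸ hs))
  · exact A.collapse (tableOK_of_check hiv KThree1.hR KThree1.hdefs KThree1.hsteps KThree1.htable hrel (s1.symm ▸ hs))
  · exact A.collapse (tableOK_of_check hiv KThree2.hR KThree2.hdefs KThree2.hsteps KThree2.htable hrel (s2.symm ▸ hs))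
  · exact A.collapse (tableOK_of_check hiv KFive0.hR KFive0.hdefs KFive0.hsteps KFive0.htable hrel (s3.symm ▸ hs))
  · exact A.collapse (tableOK_of_check hiv KFive1.hR KFive1.hdefs KFive1.hsteps KFive1.htable hrel (s4.symm ▸ hs))
  · exact A.collapse (tableOK_of_check hiv KFive2.hR KFive2.hdefs KFive2.hsteps KFive2.htable hrel (s5.symm ▸ hs))

/-- The three possibilities for the fourth power. -/
theorem exists_qFour (A : Amal z b S w x y) {u : Nat → G} {t : G} {s : Bool} (U : Four z x u t s) :
    ∃ e < 3, ev (LRof z b y (vEl z b S w x y) x) (qPow 4 e) = 1 := by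
  rcases (centX A.base U).2 _ A.q_comm with h | h | h
  · exact A.qPow_rel h
  · obtain ⟨e, he, hq⟩ := A.qPow_rel h
    exact (no_small A (Or.inl rfl) he hq).elim
  · obtain ⟨e, he, hq⟩ := A.qPow_rel h
    exact (no_small A (Or.inr rfl) he hq).elim

end CfsgLib.J3U
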