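import Cfsg.Agent.J3U.FourExists
import Cfsg.Agent.J2U.CentR
import Cfsg.Agent.S3035
import Cfsg.Agent.LocalB.OddSignalizer

/-!
The centraliser of the element of order three is a triple cover of the alternating group of degree six.
-/

set_option autoImplicit false
set_option linter.style.haveILetI false
set_option maxRecDepth 100000

namespace CfsgLib.J3U

open CfsgLib.Coset CfsgLib.J2U
open CfsgLib.HJT (orderOf_two_iff)

/-- An element of a dihedral group of order eight as a word. -/
def dW : DihedralGroup 4 → List Nat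
  | .r i => (List.replicate i.val [0, 4]).flatten
  | .sr i => [0] ++ (List.replicate i.val [0, 4]).flatten

theorem dW_mul : ∀ a b : DihedralGroup 4, sameT TC.Tb 10 (dW a ++ dW b) (dW (a * b)) = true := by decide +kernel

theorem dW_small : ∀ a : DihedralGroup 4, ∀ j < 3, a ≠ 1 → eqT (dW a) (List.replicate j 7) = false := by
  decide +kernel

theorem dW_lt : ∀ a : DihedralGroup 4, ∀ l ∈ dW a, l < 10 := by decide +kernel

theorem dW_z : ∀ a : DihedralGroup 4, sameT TC.Tb 10 (dW a ++ [9]) ([9] ++ dW a) = true ∧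
    sameT TC.Tb 10 (dW a ++ [7]) ([7] ++ dW a) = true := by decide +kernel

/-- All elements of the dihedral group. -/
def dAll : List (DihedralGroup 4) := [.r 0, .r 1, .r 2, .r 3, .sr 0, .sr 1, .sr 2, .sr 3]

/-- The centraliser of the fixed element inside the centraliser of the involution. -/
noncomputable def cxTest (i : Nat) : Bool :=
  cond (eqT (wdC i ++ [7]) ([7] ++ wdC i))
    (dAll.any fun a => (List.range 3).any fun j => eqT (wdC i) (dW a ++ List.replicate j 7)) true

theorem cxTest_all : allBelow 11 1920 cxTest = true := by decide +kernel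

theorem alt6_orders : ∀ σ : Equiv.Perm (Fin 6), Equiv.Perm.sign σ = 1 → σ ^ 4 = 1 ∨ σ ^ 3 = 1 ∨ σ ^ 5 = 1 := by
  decide +kernel

theorem card_sl32 : Nat.card (Matrix.SpecialLinearGroup (Fin 3) (ZMod 2)) = 168 := by
  rw [Nat.card_eq_fintype_card]; decide +kernel

theorem inverts_of_fpf {X : Type*} [Group X] [Finite X] (O : Subgroup X) {e : X} (he : e * e = 1)
    (hnorm : ∀ o ∈ O, e * o * e⁻¹ ∈ O) (hfix : ∀ o ∈ O, e * o * e⁻¹ = o → o = 1) :
    ∀ o ∈ O, e * o * e⁻¹ = o⁻¹ := by
  let f : O → O := fun c => ⟨(c : X)⁻¹ * (e * c * e⁻¹), mul_mem (inv_mem c.2) (hnorm c c.2)⟩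
  have hf : Function.Injective f := fun c d h => by
    have h' : (c : X)⁻¹ * (e * c * e⁻¹) = (d : X)⁻¹ * (e * d * e⁻¹) := congrArg Subtype.val h
    have hdc : (d : X) * (c : X)⁻¹ = 1 := by
      refine hfix _ (mul_mem d.2 (inv_mem c.2)) ?_
      calc e * ((d : X) * (c : X)⁻¹) * e⁻¹ = (e * d * e⁻¹) * (e * c * e⁻¹)⁻¹ := by group
        _ = (d : X) * ((d : X)⁻¹ * (e * d * e⁻¹)) * (e * c * e⁻¹)⁻¹ := by group
        _ = (d : X) * ((c : X)⁻¹ * (e * c * e⁻¹)) * (e * c * e⁻¹)⁻¹ := by rw [h']
        _ = _ := by group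
    exact Subtype.ext (mul_inv_eq_one.1 hdc).symm
  intro o ho
  obtain ⟨c, hc⟩ := Finite.surjective_of_injective hf ⟨o, ho⟩
  rw [← show (c : X)⁻¹ * (e * c * e⁻¹) = o from congrArg Subtype.val hc]
  calc e * ((c : X)⁻¹ * (e * c * e⁻¹)) * e⁻¹ = e * (c : X)⁻¹ * e * c * (e * e)⁻¹ := by group
    _ = _ := by
      rw [he, inv_one, mul_one, mul_inv_rev, mul_inv_rev, mul_inv_rev, inv_inv, inv_inv,
        inv_eq_of_mul_eq_one_right he]
      group

variable {G : Type*} [Group G] [Finite G] {z : G} {b : Fin 5 → G} {S w x y : G}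

theorem centX (A : Base z b S w x y) {u : Nat → G} {t : G} {s : Bool} (U : Four z x u t s) :
    Nat.card (Subgroup.centralizer ({x} : Set G)) = 1080 ∧ ∀ g : G, g * x = x * g →
      g ^ 4 ∈ Subgroup.zpowers x ∨ g ^ 3 ∈ Subgroup.zpowers x ∨ g ^ 5 ∈ Subgroup.zpowers x := by
  classical
  haveI : Fact (Nat.Prime 3) := ⟨Nat.prime_three⟩
  haveI : Fact (Nat.Prime 2) := ⟨Nat.prime_two⟩
  have B := A.core
  obtain ⟨b00, zz, zb, xz, xb, x3, -⟩ := B.small
  set L := LCof z b S w x with hL
  set X := Subgroup.centralizer ({x} : Set G) with hX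
  have memX : ∀ {g : G}, g ∈ X ↔ g * x = x * g := Subgroup.mem_centralizer_singleton_iff
  let xX : X := ⟨x, memX.2 rfl⟩
  let N : Subgroup X := Subgroup.zpowers xX
  have hcen : ∀ c : X, c * xX = xX * c := fun c => Subtype.ext (memX.1 c.2)
  haveI : N.Normal := ⟨fun n hn c => by
    obtain ⟨k, rfl⟩ := hn
    show c * xX ^ k * c⁻¹ ∈ N
    rw [((show Commute c xX from hcen c).zpow_right k).eq, mul_assoc, mul_inv_cancel, mul_one]
    exact zpow_mem (Subgroup.mem_zpowers xX) k⟩
  have hordx : orderOf xX = 3 := by rw [← Subgroup.orderOf_coe]; exact B.x3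
  have hN : Nat.card N = 3 := by rw [Nat.card_zpowers, hordx]
  have memN : ∀ {c : X}, c ∈ N → ∃ j < 3, (c : G) = ev L (List.replicate j 7) := by
    intro c hc
    have hx1 : ev L [7] = x := by simp [hL, LCof, fl]
    rcases HJT.pow_cases_three hordx hc with rfl | rfl | rfl
    · exact ⟨0, by norm_num, by simp⟩
    · exact ⟨1, by norm_num, by simp [hL, LCof, fl, xX]⟩
    · exact ⟨2, by norm_num, by simp [hL, LCof, fl, xX, pow_two]⟩
  have hdX : ∀ a : DihedralGroup 4, ev L (dW a) ∈ X := fun a => by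
    rw [memX]
    have h := B.eqC (dW_z a).2
    rw [ev_append, ev_append] at h
    simpa [hL, LCof, fl] using h
  have hone : ev L (dW 1) = 1 := by
    rw [hL, B.eqC (u := dW 1) (v := []) (by decide +kernel), ev_nil]
  let f₀ : DihedralGroup 4 →* X :=
    { toFun := fun a => ⟨ev L (dW a), hdX a⟩
      map_one' := Subtype.ext hone
      map_mul' := fun a c => Subtype.ext (by
        show ev L (dW (a * c)) = ev L (dW a) * ev L (dW c)
        rw [← ev_append, hL, B.eqC (dW_mul a c)]) }
  let π := QuotientGroup.mk' N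
  let f := π.comp f₀
  have hfinj : Function.Injective f := by
    rw [← MonoidHom.ker_eq_bot_iff, Subgroup.eq_bot_iff_forall]
    intro a ha
    by_contra hne
    obtain ⟨j, hj, hje⟩ := memN ((QuotientGroup.eq_one_iff _).1 ha)
    have := B.neC hje (dW_lt a) (fun l hl => by rw [(List.mem_replicate.1 hl).2]; norm_num)
    rw [dW_small a j hj hne] at this
    exact Bool.false_ne_true this
  have hxX1 : π xX = 1 := (QuotientGroup.eq_one_iff _).2 (Subgroup.mem_zpowers xX)
  let zX : X := ⟨z, memX.2 xz.symm⟩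
  set zb' : X ⧸ N := π zX with hzbar
  have hfz : f (.r 2) = zb' := by
    show π (f₀ (.r 2)) = π zX
    congr 1
    refine Subtype.ext ?_
    show ev L (dW (.r 2)) = z
    rw [hL, B.eqC (u := dW (.r 2)) (v := [9]) (by decide +kernel)]; simp [LCof, fl]
  have hrange : f.range = Subgroup.centralizer ({zb'} : Set (X ⧸ N)) := by
    refine le_antisymm ?_ ?_
    · rintro _ ⟨a, rfl⟩
      rw [Subgroup.mem_centralizer_singleton_iff, ← hfz, ← map_mul, ← map_mul]
      congr 1
      revert a; decide
    · intro c hc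
      obtain ⟨g, rfl⟩ := QuotientGroup.mk'_surjective N c
      rw [Subgroup.mem_centralizer_singleton_iff, hzbar, ← map_mul, ← map_mul] at hc
      obtain ⟨j, hj, hje⟩ := memN (QuotientGroup.eq.1 hc)
      have hje' : ((g : G) * z)⁻¹ * (z * g) = ev L (List.replicate j 7) := hje
      have hgz : (g : G) * z = z * g := by
        interval_cases j
        · rw [List.replicate_zero, ev_nil, inv_mul_eq_one] at hje'; exact hje'
        · exfalso
          have h2 : (g : G)⁻¹ * z * g = z * x := by
            calc (g : G)⁻¹ * z * g = z * (((g : G) * z)⁻¹ * (z * g)) := by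
                  rw [mul_inv_rev, inv_eq_of_mul_eq_one_right zz]; simp only [← mul_assoc]; rw [zz]; group
              _ = z * x := by rw [hje']; simp [hL, LCof, fl]
          have h3 : (z * x) * (z * x) = 1 := by
            rw [← h2, show (g : G)⁻¹ * z * g * ((g : G)⁻¹ * z * g) = (g : G)⁻¹ * (z * z) * g by group, zz]; group
          rw [show z * x * (z * x) = z * (x * z) * x by group, xz, ← mul_assoc, zz, one_mul] at h3
          have hx1 : x = 1 := by rw [h3, one_mul] at x3; exact x3
          have := B.x3; rw [hx1, orderOf_one] at this; norm_num at this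
        · exfalso
          have h2 : (g : G)⁻¹ * z * g = z * (x * x) := by
            calc (g : G)⁻¹ * z * g = z * (((g : G) * z)⁻¹ * (z * g)) := by
                  rw [mul_inv_rev, inv_eq_of_mul_eq_one_right zz]; simp only [← mul_assoc]; rw [zz]; group
              _ = z * (x * x) := by rw [hje']; simp [hL, LCof, fl]
          have hc2 : (x * x) * z = z * (x * x) := ((show Commute x z from xz).mul_left xz).eq
          have h3 : (z * (x * x)) * (z * (x * x)) = 1 := by
            rw [← h2, show (g : G)⁻¹ * z * g * ((g : G)⁻¹ * z * g) = (g : G)⁻¹ * (z * z) * g by group, zz]; group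
          rw [show z * (x * x) * (z * (x * x)) = z * ((x * x) * z) * (x * x) by group, hc2, ← mul_assoc z z, zz,
            one_mul, show x * x * (x * x) = x * (x * x * x) by group, x3, mul_one] at h3
          have := B.x3; rw [h3, orderOf_one] at this; norm_num at this
      obtain ⟨i, hi, hgi, hl⟩ := B.exC hgz
      have h7 : eqT (wdC i ++ [7]) ([7] ++ wdC i) = true := B.neC (by
        rw [ev_append, ev_append, ← hgi]; simpa [LCof, fl] using memX.1 g.2) (append_lt hl (by simp))
        (append_lt (by simp) hl)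
      have ht := of_allBelow cxTest_all i hi
      unfold cxTest at ht
      rw [h7, cond_true] at ht
      obtain ⟨a, -, ha⟩ := List.any_eq_true.mp ht
      obtain ⟨k, -, hk⟩ := List.any_eq_true.mp ha
      have hgv := hgi.trans (B.of_eq hl (append_lt (dW_lt a)
        (fun l hl => by rw [(List.mem_replicate.1 hl).2]; norm_num)) hk)
      have hg' : g = f₀ a * xX ^ k := Subtype.ext (by
        rw [hgv, ev_append]
        show _ = ev L (dW a) * x ^ k
        rw [← hL]
        congr 1
        clear hgv hk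
        induction k with
        | zero => simp
        | succ k ih =>
          rw [List.replicate_succ, ev_cons, ih, pow_succ']
          simp [hL, LCof, fl])
      refine ⟨a, ?_⟩
      show π (f₀ a) = π g
      rw [hg', map_mul, map_pow, hxX1, one_pow, mul_one]
  have hD8 : Nonempty (↥(Subgroup.centralizer ({zb'} : Set (X ⧸ N))) ≃* DihedralGroup 4) :=
    hrange ▸ ⟨(MonoidHom.ofInjective hfinj).symm⟩
  have hz2 : zb' * zb' = 1 := by rw [← hfz, ← map_mul]; exact (congrArg f (by decide)).trans (map_one f)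
  have hz1 : zb' ≠ 1 := fun e => by
    have : (.r 2 : DihedralGroup 4) = 1 := hfinj (hfz.trans (e.trans (map_one f).symm))
    exact absurd this (by decide)
  -- conjugate involutions
  have e := fun p q (h : sameT TC.Tb 10 p q = true) => B.eqC (u := p) (v := q) h
  let gW : List Nat := [5, 8, 5, 7, 5, 8, 5, 7, 5]
  set g := ev L gW with hg
  have hgx : g * x * g⁻¹ = x⁻¹ := by
    rw [mul_inv_eq_iff_eq_mul]
    simpa [hg, gW, hL, LCof, fl, mul_assoc] using e [5, 8, 5, 7, 5, 8, 5, 7, 5, 7] [8, 5, 8, 5, 7, 5, 8, 5, 7, 5] (by decide +kernel)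
  have hg0 : g * b 0 * g⁻¹ = b 4 := by
    rw [mul_inv_eq_iff_eq_mul]
    simpa [hg, gW, hL, LCof, fl, mul_assoc] using e [5, 8, 5, 7, 5, 8, 5, 7, 5, 0] [4, 5, 8, 5, 7, 5, 8, 5, 7, 5] (by decide +kernel)
  have hgz' : g * z * g⁻¹ = z := by
    rw [mul_inv_eq_iff_eq_mul]
    simpa [hg, gW, hL, LCof, fl, mul_assoc] using e [5, 8, 5, 7, 5, 8, 5, 7, 5, 9] [9, 5, 8, 5, 7, 5, 8, 5, 7, 5] (by decide +kernel)
  let bX : X := ⟨b 0, memX.2 xb.symm⟩
  have hb4x : b 4 * x = x * b 4 := by simpa [hL, LCof, fl] using e [4, 7] [7, 4] (by decide +kernel)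
  let cX : X := ⟨b 4, memX.2 hb4x⟩
  let yX : X := ⟨y, memX.2 A.yx⟩
  have hvx : g * y * g⁻¹ * x = x * (g * y * g⁻¹) := by
    have h := HJT.commute_conj g ((show Commute y x from A.yx).inv_right).eq
    rwa [show g * x⁻¹ * g⁻¹ = (g * x * g⁻¹)⁻¹ by group, hgx, inv_inv] at h
  let vX : X := ⟨g * y * g⁻¹, memX.2 hvx⟩
  have hy_z : π yX * zb' * (π yX)⁻¹ = π bX := by
    rw [hzbar, ← map_inv, ← map_mul, ← map_mul]
    exact congrArg π (Subtype.ext A.yz)
  have hv_z : π vX * zb' * (π vX)⁻¹ = π cX := by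
    rw [hzbar, ← map_inv, ← map_mul, ← map_mul]
    refine congrArg π (Subtype.ext ?_)
    show g * y * g⁻¹ * z * (g * y * g⁻¹)⁻¹ = b 4
    calc g * y * g⁻¹ * z * (g * y * g⁻¹)⁻¹ = g * y * (g⁻¹ * z * g) * y⁻¹ * g⁻¹ := by group
      _ = g * (y * z * y⁻¹) * g⁻¹ := by rw [show g⁻¹ * z * g = z by nth_rewrite 1 [← hgz']; group]; group
      _ = b 4 := by rw [A.yz, hg0]
  have hfb : f (.sr 0) = π bX := by
    show π (f₀ (.sr 0)) = π bX
    exact congrArg π (Subtype.ext (by simp [f₀, dW, bX, hL, LCof, fl]))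
  have hfc : f (.r 1) = π bX * π cX := by
    show π (f₀ (.r 1)) = _
    rw [← map_mul]
    exact congrArg π (Subtype.ext (by
      show ev L (dW (.r 1)) = b 0 * b 4
      rw [hL, B.eqC (u := dW (.r 1)) (v := [0, 4]) (by decide +kernel)]; simp [LCof, fl]))
  -- five divides the order
  have ht : (⟨t, memX.2 U.tx⟩ : X) ^ 5 = 1 := Subtype.ext U.t5
  set tbar := π ⟨t, memX.2 U.tx⟩ with htbar
  have ht5 : tbar ^ 5 = 1 := by rw [htbar, ← map_pow, ht, map_one]
  have ht1 : tbar ≠ 1 := fun e => by
    obtain ⟨j, hj, hje⟩ := memN ((QuotientGroup.eq_one_iff _).1 e)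
    refine U.tne ?_
    have h3 : t ^ 3 = 1 := by
      rw [show t = ev L (List.replicate j 7) from hje]
      interval_cases j <;> simp [hL, LCof, fl, pow_succ, mul_assoc, ← mul_assoc x, x3]
    calc t = (t ^ 3) ^ 2 * (t ^ 5)⁻¹ := by group
      _ = 1 := by rw [h3, U.t5]; group
  have h5 : 5 ∣ Nat.card (X ⧸ N) := by
    haveI : Fact (Nat.Prime 5) := ⟨by norm_num⟩
    rw [← orderOf_eq_prime ht5 ht1]; exact orderOf_dvd_natCard _
  have hA6 : Nonempty ((X ⧸ N) ≃* ↥(alternatingGroup (Fin 6))) := by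
    rcases Cfsg.Agent.S3035.result zb' (orderOf_two_iff.2 ⟨hz2, hz1⟩) hD8 with h | h' | h' | h' | h
    · exfalso
      set C := Subgroup.centralizer ({zb'} : Set (X ⧸ N)) with hC
      set O := Cfsg.oddCore (X ⧸ N) with hO
      have hC8 : Nat.card C = 8 := by
        obtain ⟨ψ⟩ := hD8
        rw [Nat.card_congr ψ.toEquiv, DihedralGroup.nat_card]
      haveI hOn : O.Normal := inferInstance
      have hOdd : Odd (Nat.card O) := CfsgLib.LocalB.odd_card_oddCore
      have hfix : ∀ o ∈ O, zb' * o * zb'⁻¹ = o → o = 1 := by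
        intro o ho hzo
        have h1 : orderOf o ∣ 8 := hC8 ▸ Subgroup.orderOf_dvd_natCard C
          (Subgroup.mem_centralizer_singleton_iff.2 (mul_inv_eq_iff_eq_mul.1 hzo).symm)
        have h2 : orderOf o ∣ Nat.card O := Subgroup.orderOf_dvd_natCard O ho
        have hodd := hOdd.of_dvd_nat h2
        obtain ⟨m, hm, hm'⟩ := (Nat.dvd_prime_pow Nat.prime_two).1 (show orderOf o ∣ 2 ^ 3 from h1)
        rcases m with _ | m
        · exact orderOf_eq_one_iff.1 (by simpa using hm')
        · exfalso; rw [hm', pow_succ] at hodd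
          exact Nat.not_even_iff_odd.2 hodd ⟨2 ^ m, by ring⟩
      have conjFix : ∀ k : X ⧸ N, ∀ o ∈ O, k * zb' * k⁻¹ * o * (k * zb' * k⁻¹)⁻¹ = o → o = 1 := by
        intro k o ho h
        have := hfix (k⁻¹ * o * k) (by simpa using hOn.conj_mem o ho k⁻¹) (by
          calc zb' * (k⁻¹ * o * k) * zb'⁻¹ = k⁻¹ * (k * zb' * k⁻¹ * o * (k * zb' * k⁻¹)⁻¹) * k := by group
            _ = _ := by rw [h])
        calc o = k * (k⁻¹ * o * k) * k⁻¹ := by group
          _ = 1 := by rw [this]; group
      have hb2 : π bX * π bX = 1 := by rw [← map_mul]; exact (congrArg π (Subtype.ext b00)).trans (map_one π)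
      have hbc : π bX * zb' = zb' * π bX := by
        rw [← hfz, ← hfb, ← map_mul, ← map_mul]; exact congrArg f (by decide)
      have hzb2 : (π yX * π yX) * zb' * (π yX * π yX)⁻¹ = zb' * π bX := by
        rw [← HJT.conj_assoc, hy_z]
        have : π yX * π bX * (π yX)⁻¹ = π zX * π bX := by
          rw [← map_inv, ← map_mul, ← map_mul, ← map_mul]
          exact congrArg π (Subtype.ext A.yb)
        exact this
      have hb_inv := inverts_of_fpf O hb2 (fun o ho => hOn.conj_mem o ho _) (by rw [← hy_z]; exact conjFix _)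
      have hz_inv := inverts_of_fpf O hz2 (fun o ho => hOn.conj_mem o ho _) hfix
      have hzb_inv := inverts_of_fpf O (e := zb' * π bX)
        (by rw [show zb' * π bX * (zb' * π bX) = zb' * (π bX * zb') * π bX by group, hbc, ← mul_assoc, hz2,
          one_mul, hb2]) (fun o ho => hOn.conj_mem o ho _) (by rw [← hzb2]; exact conjFix _)
      have hObot : O = ⊥ := by
        rw [Subgroup.eq_bot_iff_forall]
        intro o ho
        have h1 := hzb_inv o ho
        rw [← HJT.conj_assoc, hb_inv o ho, hz_inv _ (inv_mem ho), inv_inv] at h1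
        have h2 : o ^ 2 = 1 := by rw [pow_two]; exact mul_eq_one_iff_eq_inv.2 h1
        have hd := Subgroup.orderOf_dvd_natCard O ho
        rcases (Nat.dvd_prime Nat.prime_two).1 (orderOf_dvd_of_pow_eq_one h2) with h | h
        · exact orderOf_eq_one_iff.1 h
        · exfalso; rw [h] at hd; exact Nat.not_even_iff_odd.2 hOdd (even_iff_two_dvd.2 hd)
      rw [hObot, sup_bot_eq] at h
      have h8 : Nat.card (X ⧸ N) = 8 := by
        rw [← Subgroup.card_top (G := X ⧸ N), ← h, hC8]
      rw [h8] at h5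
      norm_num at h5
    · exfalso
      obtain ⟨φ⟩ := h'
      rw [Nat.card_congr φ.toEquiv, Nat.card_perm, Nat.card_fin] at h5
      norm_num at h5
    · exfalso
      obtain ⟨φ⟩ := h'
      let sg : X ⧸ N →* ℤˣ := Equiv.Perm.sign.comp φ.toMonoidHom
      have hconj : ∀ k, sg (k * zb' * k⁻¹) = sg zb' := fun k => by
        rw [map_mul, map_mul, map_inv, mul_comm (sg k), mul_inv_cancel_right]
      have hsz : sg zb' = 1 := by
        rw [← hfz, show (.r 2 : DihedralGroup 4) = .r 1 * .r 1 by decide, map_mul, map_mul]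
        exact Int.units_mul_self _
      have hsgn : ∀ a : DihedralGroup 4, sg (f a) = 1 := by
        have hsb : sg (π bX) = 1 := by rw [← hy_z, hconj, hsz]
        have h1 : sg (f (.r 1)) = 1 := by rw [hfc, map_mul, hsb, ← hv_z, hconj, hsz, one_mul]
        have h0 : sg (f (.sr 0)) = 1 := by rw [hfb, hsb]
        intro a
        have ha : ∀ a : DihedralGroup 4, ∃ i < 4, a = .r 1 ^ i ∨ a = .sr 0 * .r 1 ^ i := by decide
        obtain ⟨i, -, rfl | rfl⟩ := ha a
        · rw [map_pow, map_pow, h1, one_pow]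
        · rw [map_mul, map_mul, map_pow, map_pow, h0, h1, one_pow, one_mul]
      let F : DihedralGroup 4 →* ↥(alternatingGroup (Fin 5)) :=
        (φ.toMonoidHom.comp f).codRestrict _ fun a => Equiv.Perm.mem_alternatingGroup.2 (hsgn a)
      have hF : Function.Injective F := fun a c h =>
        hfinj (φ.injective (congrArg Subtype.val h))
      have := Subgroup.card_dvd_of_injective F hF
      rw [DihedralGroup.nat_card, nat_card_alternatingGroup, Nat.card_fin] at this
      norm_num at this
    · exfalso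
      obtain ⟨φ⟩ := h'
      rw [Nat.card_congr φ.toEquiv] at h5
      have h168 : Nat.card (Matrix.SpecialLinearGroup (Fin 3) (ZMod 2)) = 168 := CfsgLib.J3U.card_sl32
      rw [h168] at h5
      norm_num at h5
    · exact h
  obtain ⟨φ⟩ := hA6
  have hQ : Nat.card (X ⧸ N) = 360 := by
    rw [Nat.card_congr φ.toEquiv, nat_card_alternatingGroup, Nat.card_fin]; norm_num
  refine ⟨?_, fun g hg => ?_⟩
  · rw [Subgroup.card_eq_card_quotient_mul_card_subgroup N, hN, hQ]
  · have hpow : ∀ n, φ (π ⟨g, memX.2 hg⟩) ^ n = 1 → g ^ n ∈ Subgroup.zpowers x := by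
      intro n h
      rw [← map_pow, ← map_pow] at h
      have h' : π ((⟨g, memX.2 hg⟩ : X) ^ n) = 1 := φ.injective (h.trans (map_one φ).symm)
      obtain ⟨j, -, hje⟩ := memN ((QuotientGroup.eq_one_iff _).1 h')
      rw [show g ^ n = ev L (List.replicate j 7) from hje]
      clear hje
      induction j with
      | zero => exact one_mem _
      | succ j ih =>
        rw [List.replicate_succ, ev_cons]
        exact mul_mem (by simp [hL, LCof, fl, Subgroup.mem_zpowers]) ih
    have hσ := alt6_orders _ (Equiv.Perm.mem_alternatingGroup.1 (φ (π ⟨g, memX.2 hg⟩)).2)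
    rcases hσ with h | h | h
    · exact Or.inl (hpow 4 (Subtype.ext h))
    · exact Or.inr (Or.inl (hpow 3 (Subtype.ext h)))
    · exact Or.inr (Or.inr (hpow 5 (Subtype.ext h)))

end CfsgLib.J3U
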