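import Cfsg.Agent.J2U.Pre

/-!
In a simple group the extraspecial subgroup of an involution centraliser `2^{1+4}.A₅` contains its centraliser.
-/

set_option autoImplicit false
set_option linter.style.haveILetI false

namespace CfsgLib.J3U

open CfsgLib.Extra2 CfsgLib.HJT

variable {G : Type*} [Group G] [Finite G]

theorem comm_of_card_le_four {M : Type*} [Group M] [Finite M] (h : Nat.card M ∣ 32) (h' : Nat.card M ∣ 60)
    (x y : M) : x * y = y * x := by
  have h4 : Nat.card M ∣ 4 := by simpa using Nat.dvd_gcd h h'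
  have hle : Nat.card M ≤ 4 := Nat.le_of_dvd (by norm_num) h4
  interval_cases hm : Nat.card M
  · exact absurd hm Nat.card_pos.ne'
  · haveI := (Nat.card_eq_one_iff_unique.1 hm).1
    exact Subsingleton.elim _ _
  · haveI : Fact (Nat.Prime 2) := ⟨Nat.prime_two⟩
    haveI := isCyclic_of_prime_card hm
    exact IsCyclic.commGroup.mul_comm x y
  · norm_num at h4
  · haveI : Fact (Nat.Prime 2) := ⟨Nat.prime_two⟩
    exact (IsPGroup.commutative_of_card_eq_prime_sq (p := 2) (by rw [hm]; norm_num)) x y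

variable [IsSimpleGroup G]

theorem cq_aux (t : G) (ht : orderOf t = 2) (C : Subgroup G) (hC : C = Subgroup.centralizer ({t} : Set G))
    (E : Subgroup C) [E.Normal] (hE : Nat.card E = 32) (hX : Cfsg.IsExtraspecial 2 E)
    (e : C ⧸ E ≃* alternatingGroup (Fin 5)) : Subgroup.centralizer (E : Set C) ≤ E := by
  classical
  set K := Subgroup.centralizer (E : Set C) with hKdef
  have hK : ∀ k ∈ K, ∀ q ∈ E, q * k = k * q := fun k hk q hq => Subgroup.mem_centralizer_iff.1 hk q hq
  let f : C →* alternatingGroup (Fin 5) := e.toMonoidHom.comp (QuotientGroup.mk' E)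
  have hf : Function.Surjective f := e.surjective.comp (QuotientGroup.mk'_surjective E)
  have hker : ∀ c, f c = 1 ↔ c ∈ E := fun c => by
    show e (QuotientGroup.mk' E c) = 1 ↔ _
    rw [e.map_eq_one_iff, QuotientGroup.mk'_apply, QuotientGroup.eq_one_iff]
  haveI hKn : K.Normal := ⟨fun k hk c => Subgroup.mem_centralizer_iff.2 fun q hq => by
    have := hK k hk _ (Subgroup.Normal.conj_mem (inferInstance : E.Normal) q hq c⁻¹)
    calc q * (c * k * c⁻¹) = c * (c⁻¹ * q * c⁻¹⁻¹ * k) * c⁻¹ := by group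
      _ = c * (k * (c⁻¹ * q * c⁻¹⁻¹)) * c⁻¹ := by rw [this]
      _ = _ := by group⟩
  haveI : IsSimpleGroup (alternatingGroup (Fin 5)) := alternatingGroup.isSimpleGroup_five
  rcases (Subgroup.Normal.map hKn f hf).eq_bot_or_eq_top with hb | htop
  · intro k hk
    exact (hker k).1 (Subgroup.mem_bot.1 (hb ▸ Subgroup.mem_map_of_mem f hk))
  exfalso
  have hsplit : ∀ c : C, ∃ k ∈ K, ∃ q ∈ E, c = k * q := by
    intro c
    obtain ⟨k, hk, hkc⟩ := Subgroup.mem_map.1 (htop.symm ▸ Subgroup.mem_top (f c))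
    exact ⟨k, hk, k⁻¹ * c, (hker _).1 (by rw [map_mul, map_inv, hkc, inv_mul_cancel]), by group⟩
  have ht2 : t * t = 1 := by rw [← pow_two, ← ht]; exact pow_orderOf_eq_one t
  have ht1 : t ≠ 1 := fun h => by rw [h, orderOf_one] at ht; norm_num at ht
  have hmemC : ∀ x : G, x ∈ C ↔ x * t = t * x := fun x => hC ▸ Subgroup.mem_centralizer_singleton_iff
  let tC : C := ⟨t, (hmemC t).2 rfl⟩
  have htc : ∀ c : C, tC * c = c * tC := fun c => Subtype.ext ((hmemC (c : G)).1 c.2).symm
  have htE : tC ∈ E := (hker _).1 (alt5_center fun h => by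
    obtain ⟨c, rfl⟩ := hf h; rw [← map_mul, ← map_mul, htc])
  obtain ⟨c0, hg⟩ := exists_gen hX
  have hc0 : c0 = tC := by
    rcases hg.center_iff tC htE (fun y _ => htc y) with h | h
    · exact absurd (congrArg Subtype.val h) ht1
    · exact h.symm
  subst hc0
  -- the involution is isolated
  have hiso : Cfsg.IsIsolatedInvolution t := by
    refine ⟨ht, fun g hgc => ?_⟩
    by_contra hne
    let sC : C := ⟨g * t * g⁻¹, (hmemC _).2 hgc.eq.symm⟩
    obtain ⟨k, hk, q, hq, hs⟩ := hsplit sC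
    have hab : ∃ a ∈ E, ∃ b ∈ E, a * q = q * a ∧ b * q = q * b ∧ a * b ≠ b * a := by
      by_contra hno
      push Not at hno
      have hne' : ∃ a ∈ E, a * q ≠ q * a := by
        by_contra hall
        push Not at hall
        have hall' : ∀ x ∈ E, x = 1 ∨ x = tC := fun x hx =>
          hg.center_iff x hx (fun y hy => hno x hx y hy (hall x hx) (hall y hy))
        have hle : E ≤ Subgroup.zpowers tC := fun x hx => (mem_zpowers_iff hg.sq).2 (hall' x hx)
        have := Subgroup.card_le_of_le hle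
        rw [hE, Nat.card_zpowers, orderOf_eq_prime (by rw [pow_two, hg.sq] : tC ^ 2 = 1) hg.ne_one] at this
        omega
      obtain ⟨a, ha, haq⟩ := hne'
      let φ : E →* Multiplicative (ZMod 2 × ZMod 2) :=
        MonoidHom.mk' (fun x => Multiplicative.ofAdd (cb (x : C) q, cb (x : C) a)) fun x y => by
          rw [← ofAdd_add, Prod.mk_add_mk]
          congr 2
          · exact cb_mul_left hg x.2 y.2 hq
          · exact cb_mul_left hg x.2 y.2 ha
      have hk8 : 8 ≤ Nat.card φ.ker := by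
        have h := φ.ker.card_mul_index
        rw [Subgroup.index_ker, hE] at h
        have hr : Nat.card φ.range ≤ 4 := (Subgroup.card_le_card_group _).trans (le_of_eq (by
          rw [Nat.card_congr Multiplicative.toAdd, Nat.card_prod, Nat.card_zmod]))
        nlinarith
      have hker2 : φ.ker ≤ (Subgroup.zpowers tC).subgroupOf E := by
        intro x hx
        rw [Subgroup.mem_subgroupOf, mem_zpowers_iff hg.sq]
        have hx' : (cb (x : C) q, cb (x : C) a) = (0, 0) := hx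
        simp only [Prod.mk.injEq] at hx'
        have comm_of : ∀ {u v : C}, u ∈ E → v ∈ E → cb u v = 0 → u * v = v * u := fun {u v} hu hv h => by
          rw [cb_spec hg hu hv, h, zp_zero, one_mul]
        have hxq := comm_of x.2 hq hx'.1
        have hxa := comm_of x.2 ha hx'.2
        refine hg.center_iff x x.2 fun y hy => ?_
        by_cases hyq : y * q = q * y
        · exact hno x x.2 y hy hxq hyq
        · have h1 : cb y q = 1 := (zmod2_cases _).resolve_left fun h => hyq (comm_of hy hq h)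
          have h2 : cb a q = 1 := (zmod2_cases _).resolve_left fun h => haq (comm_of ha hq h)
          have h3 : y * a * q = q * (y * a) := by
            rw [cb_spec hg (mul_mem hy ha) hq, cb_mul_left hg hy ha hq, h1, h2,
              CharTwo.add_self_eq_zero, zp_zero, one_mul]
          have h4 : Commute (x : C) (y * a) := hno x x.2 _ (mul_mem hy ha) hxq h3
          have h5 := h4.mul_right (show Commute (x : C) a from hxa).inv_right
          simpa using h5
      have h2 := Subgroup.card_le_of_le hker2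
      rw [Nat.card_congr (Subgroup.subgroupOfEquivOfLe ((Subgroup.zpowers_le).2 htE)).toEquiv, Nat.card_zpowers,
        orderOf_eq_prime (by rw [pow_two, hg.sq] : tC ^ 2 = 1) hg.ne_one] at h2
      omega
    obtain ⟨a, ha, b, hb, haq, hbq, hne2⟩ := hab
    let R : Subgroup C := E ⊓ Subgroup.centralizer ({sC} : Set C)
    have hR : ∀ x ∈ E, x * q = q * x → x ∈ R := fun x hx hxq => ⟨hx, Subgroup.mem_centralizer_singleton_iff.2 (by
      rw [hs, ← mul_assoc, hK k hk x hx, mul_assoc, hxq, mul_assoc])⟩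
    have hRc : ∀ x ∈ R, g⁻¹ * (x : G) * g ∈ C := by
      intro x hx
      rw [hmemC]
      have h1 : (x : G) * (g * t * g⁻¹) = g * t * g⁻¹ * x :=
        congrArg Subtype.val (Subgroup.mem_centralizer_singleton_iff.1 hx.2)
      calc g⁻¹ * (x : G) * g * t = g⁻¹ * ((x : G) * (g * t * g⁻¹)) * g := by group
        _ = g⁻¹ * (g * t * g⁻¹ * x) * g := by rw [h1]
        _ = _ := by group
    let ψ : R →* C := MonoidHom.mk' (fun x => ⟨g⁻¹ * ((x : C) : G) * g, hRc x x.2⟩) fun x y => Subtype.ext (by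
      simp [mul_assoc])
    have hdvd : Nat.card (f.comp ψ).range ∣ 32 :=
      (Subgroup.card_range_dvd _).trans (hE ▸ Subgroup.card_dvd_of_le (inf_le_left : R ≤ E))
    have hdvd' : Nat.card (f.comp ψ).range ∣ 60 := by
      have := Subgroup.card_subgroup_dvd_card (f.comp ψ).range
      rwa [card_alt5] at this
    set ha' : R := ⟨a, hR a ha haq⟩
    set hb' : R := ⟨b, hR b hb hbq⟩
    have hcom : f (ψ (ha' * hb' * ha'⁻¹ * hb'⁻¹)) = 1 := by
      have h := comm_of_card_le_four hdvd hdvd' ⟨f (ψ ha'), ha', rfl⟩ ⟨f (ψ hb'), hb', rfl⟩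
      have h' : f (ψ ha') * f (ψ hb') = f (ψ hb') * f (ψ ha') := congrArg Subtype.val h
      simp only [map_mul, map_inv, h']
      group
    set s' := ψ (ha' * hb' * ha'⁻¹ * hb'⁻¹) with hs'
    have hs'v : (s' : G) = g⁻¹ * t * g := by
      have hc : a * b * a⁻¹ * b⁻¹ = tC := (hg.comm a ha b hb).resolve_left fun h =>
        hne2 (mul_inv_eq_iff_eq_mul.1 (mul_inv_eq_one.1 h))
      show g⁻¹ * (((a * b * a⁻¹ * b⁻¹ : C)) : G) * g = _
      rw [hc]
    have hs'E : s' ∈ E := (hker _).1 hcom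
    obtain ⟨k₁, hk₁, q₁, hq₁, e₁⟩ := hsplit (ψ ha')
    obtain ⟨k₂, hk₂, q₂, hq₂, e₂⟩ := hsplit (ψ hb')
    have hexp : s' = k₁ * k₂ * k₁⁻¹ * k₂⁻¹ * (q₁ * q₂ * q₁⁻¹ * q₂⁻¹) := by
      rw [hs', map_mul, map_mul, map_mul, map_inv, map_inv, e₁, e₂]
      have c1 : Commute q₁ k₂ := hK k₂ hk₂ q₁ hq₁
      have c2 : Commute q₁ k₁ := hK k₁ hk₁ q₁ hq₁
      have c3 : Commute q₂ k₂ := hK k₂ hk₂ q₂ hq₂
      have c4 : Commute q₂ k₁ := hK k₁ hk₁ q₂ hq₂
      calc k₁ * q₁ * (k₂ * q₂) * (k₁ * q₁)⁻¹ * (k₂ * q₂)⁻¹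
          = k₁ * (q₁ * k₂) * q₂ * q₁⁻¹ * k₁⁻¹ * q₂⁻¹ * k₂⁻¹ := by group
        _ = k₁ * (k₂ * q₁) * q₂ * q₁⁻¹ * (k₁⁻¹ * q₂⁻¹) * k₂⁻¹ := by rw [c1.eq]; group
        _ = k₁ * k₂ * (q₁ * q₂ * q₁⁻¹ * q₂⁻¹) * (k₁⁻¹ * k₂⁻¹) := by
            rw [(c4.inv_inv).symm.eq]; group
        _ = _ := by
            have hq' : q₁ * q₂ * q₁⁻¹ * q₂⁻¹ ∈ E :=
              mul_mem (mul_mem (mul_mem hq₁ hq₂) (inv_mem hq₁)) (inv_mem hq₂)
            rw [mul_assoc, (show q₁ * q₂ * q₁⁻¹ * q₂⁻¹ * (k₁⁻¹ * k₂⁻¹) = k₁⁻¹ * k₂⁻¹ * (q₁ * q₂ * q₁⁻¹ * q₂⁻¹) from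
              hK _ (mul_mem (inv_mem hk₁) (inv_mem hk₂)) _ hq')]
            group
    have hkk : k₁ * k₂ * k₁⁻¹ * k₂⁻¹ = 1 ∨ k₁ * k₂ * k₁⁻¹ * k₂⁻¹ = tC := by
      set kk := k₁ * k₂ * k₁⁻¹ * k₂⁻¹ with hkk
      have hkK : kk ∈ K := mul_mem (mul_mem (mul_mem hk₁ hk₂) (inv_mem hk₁)) (inv_mem hk₂)
      have hkE : kk ∈ E := by
        have : kk = s' * (q₁ * q₂ * q₁⁻¹ * q₂⁻¹)⁻¹ := by rw [hexp]; group
        rw [this]
        exact mul_mem hs'E (inv_mem (mul_mem (mul_mem (mul_mem hq₁ hq₂) (inv_mem hq₁)) (inv_mem hq₂)))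
      exact hg.center_iff kk hkE fun y hy => (hK kk hkK y hy).symm
    have hfin : s' = 1 ∨ s' = tC := by
      rw [hexp]
      rcases hkk with h | h <;> rcases hg.comm q₁ hq₁ q₂ hq₂ with h' | h' <;> rw [h, h']
      · exact Or.inl (one_mul 1)
      · exact Or.inr (one_mul _)
      · exact Or.inr (mul_one _)
      · exact Or.inl hg.sq
    rcases hfin with h | h
    · apply ht1
      have h1 : g⁻¹ * t * g = 1 := hs'v ▸ congrArg Subtype.val h
      calc t = g * (g⁻¹ * t * g) * g⁻¹ := by group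
        _ = 1 := by rw [h1]; group
    · apply hne
      have h1 : g⁻¹ * t * g = t := hs'v ▸ congrArg Subtype.val h
      calc g * t * g⁻¹ = g * (g⁻¹ * t * g) * g⁻¹ := by rw [h1]
        _ = t := by group
  -- so it is central
  obtain ⟨N, hN, hodd, hcomm⟩ := CfsgLib.ZStar.zstar hiso
  rcases hN.eq_bot_or_eq_top with hb | htopN
  · subst hb
    have hCtop : C = ⊤ := eq_top_iff.2 fun x _ => (hmemC x).2 (by
      have h : t * x * t⁻¹ * x⁻¹ = 1 := Subgroup.mem_bot.1 (hcomm x)
      calc x * t = (t * x * t⁻¹ * x⁻¹) * (x * t) := by rw [h, one_mul]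
        _ = t * x := by group)
    have hz : Subgroup.zpowers t = ⊥ ∨ Subgroup.zpowers t = ⊤ := by
      refine Subgroup.Normal.eq_bot_or_eq_top ⟨fun x hx g => ?_⟩
      obtain ⟨i, rfl⟩ := Subgroup.mem_zpowers_iff.1 hx
      have hc : Commute g t := (hmemC g).1 (hCtop ▸ Subgroup.mem_top g)
      rw [(hc.zpow_right i).eq, mul_inv_cancel_right]
      exact hx
    rcases hz with h | h
    · exact ht1 (Subgroup.mem_bot.1 (h ▸ Subgroup.mem_zpowers t))
    · have h2 : Nat.card G = 2 := by rw [← Subgroup.card_top, ← h, Nat.card_zpowers, ht]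
      have h32 : (32 : ℕ) ∣ Nat.card G := hE ▸ (Subgroup.card_subgroup_dvd_card E).trans (Subgroup.card_subgroup_dvd_card C)
      rw [h2] at h32; norm_num at h32
  · subst htopN
    rw [Subgroup.card_top] at hodd
    have h2 : orderOf t ∣ Nat.card G := orderOf_dvd_natCard t
    rw [ht] at h2
    exact Nat.not_even_iff_odd.2 hodd (even_iff_two_dvd.2 h2)

/-- The extraspecial subgroup contains its centraliser. -/
theorem cq_of_simple (t : G) (ht : orderOf t = 2) (E : Subgroup (Subgroup.centralizer ({t} : Set G)))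
    [E.Normal] (hE : Nat.card E = 32) (hX : Cfsg.IsExtraspecial 2 E)
    (e : (Subgroup.centralizer ({t} : Set G)) ⧸ E ≃* alternatingGroup (Fin 5)) :
    Subgroup.centralizer (E : Set (Subgroup.centralizer ({t} : Set G))) ≤ E :=
  cq_aux t ht _ rfl E hE hX e

end CfsgLib.J3U
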