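import Cfsg.Agent.Coset.Table
import Cfsg.Agent.J3U.TabDefs
import Cfsg.Agent.J3U.X11Data

set_option autoImplicit false
set_option maxRecDepth 100000

namespace CfsgLib.J3U.X11

open CfsgLib.Coset CfsgLib.J2U

theorem hR : checkRules (relsX 1 1) subs R = true := by decide +kernel
theorem hdefs : checkDefs E 12 13 4363 = true := by decide +kernel
theorem hsteps : checkChunks E ivG R 12 8 4363 200 C = true := by decide +kernel
theorem htable : checkTable E ivG (4363 + chunk * 200) 1 12 1 4 Rep Ref Tb = true := by decide +kernel

end CfsgLib.J3U.X11
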