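import Cfsg.Agent.J3U.Twist
import Cfsg.Agent.J3U.X00
import Cfsg.Agent.J3U.X01
import Cfsg.Agent.J3U.X02
import Cfsg.Agent.J3U.X03
import Cfsg.Agent.J3U.X04
import Cfsg.Agent.J3U.X05
import Cfsg.Agent.J3U.X06
import Cfsg.Agent.J3U.X07
import Cfsg.Agent.J3U.X10
import Cfsg.Agent.J3U.X11
import Cfsg.Agent.J3U.X12
import Cfsg.Agent.J3U.X13
import Cfsg.Agent.J3U.X14
import Cfsg.Agent.J3U.X15
import Cfsg.Agent.J3U.X16
import Cfsg.Agent.J3U.X17
import Cfsg.Agent.J3U.X21
import Cfsg.Agent.J3U.X22
import Cfsg.Agent.J3U.X24
import Cfsg.Agent.J3U.X25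
import Cfsg.Agent.J3U.X26
import Cfsg.Agent.J3U.X27

/-!
Only two of the candidates for the twisted element are possible.
-/

set_option autoImplicit false
set_option maxRecDepth 100000

namespace CfsgLib.J3U

open CfsgLib.Coset CfsgLib.J2U

variable {G : Type*} [Group G] {z : G} {b : Fin 5 → G} {S w x y : G}

theorem collapseX (A : Amal z b S w x y) {e n N nC dN dC : Nat} {E Rep Ref Tb C : Nat → Nat}
    {R : Tr (List Nat × Nat)} {subs : List (List Nat)}
    (hR : checkRules (relsX e n) subs R = true) (hdefs : checkDefs E 12 dN N = true)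
    (hsteps : checkChunks E ivG R 12 dC N nC C = true)
    (htable : checkTable E ivG (N + chunk * nC) 1 12 1 4 Rep Ref Tb = true)
    (hrel : ∀ r ∈ relsX e n, ev (LGof z b S w x y) r = 1) (hsubs : subs = subsC) : False := by
  have hiv := inv_of_rels (show (LGof z b S w x y).length = 12 from rfl) A.relA relsA_inv ivG_out
  have T : TableOK (LGof z b S w x y) (Subgroup.centralizer ({z} : Set G)) E ivG 1 Rep Tb :=
    tableOK_of_check hiv hR hdefs hsteps htable hrel (fun u hu => by
      rw [hsubs] at hu
      simp only [subsC, List.mem_cons, List.not_mem_nil, or_false] at hu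
      rw [← A.base.core.gen]
      rcases hu with rfl | rfl | rfl | rfl | rfl | rfl | rfl | rfl | rfl <;>
        simp only [ev_cons, ev_nil, mul_one] <;>
        exact Subgroup.subset_closure (by simp [LGof, LCof, fl]))
  have hy : ev (LGof z b S w x y) [9] ∈ Subgroup.centralizer ({z} : Set G) := by
    refine T.ev_mem (by norm_num) (fun l hl => by simp at hl; subst hl; simp [LGof]) ?_
    have := T.lt 0 (by norm_num) 9 (by simp [LGof])
    rw [follow_cons, follow_nil]; omega
  rw [Subgroup.mem_centralizer_singleton_iff] at hy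
  refine A.base.core.bne ?_
  rw [← A.base.yz]
  have : y * z = z * y := by simpa [LGof, fl] using hy
  rw [this]; group

theorem no_case (A : Amal z b S w x y) {e n : Nat} (he : e < 3) (hn : n < 8)
    (hrel : ∀ r ∈ relsX e n, ev (LGof z b S w x y) r = 1) : e = 2 ∧ (n = 0 ∨ n = 3) := by
  by_contra hne
  interval_cases e <;> interval_cases n
  · exact collapseX A X00.hR X00.hdefs X00.hsteps X00.htable hrel (by decide +kernel)
  · exact collapseX A X01.hR X01.hdefs X01.hsteps X01.htable hrel (by decide +kernel)
  · exact collapseX A X02.hR X02.hdefs X02.hsteps X02.htable hrel (by decide +kernel)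
  · exact collapseX A X03.hR X03.hdefs X03.hsteps X03.htable hrel (by decide +kernel)
  · exact collapseX A X04.hR X04.hdefs X04.hsteps X04.htable hrel (by decide +kernel)
  · exact collapseX A X05.hR X05.hdefs X05.hsteps X05.htable hrel (by decide +kernel)
  · exact collapseX A X06.hR X06.hdefs X06.hsteps X06.htable hrel (by decide +kernel)
  · exact collapseX A X07.hR X07.hdefs X07.hsteps X07.htable hrel (by decide +kernel)
  · exact collapseX A X10.hR X10.hdefs X10.hsteps X10.htable hrel (by decide +kernel)
  · exact collapseX A X11.hR X11.hdefs X11.hsteps X11.htable hrel (by decide +kernel)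
  · exact collapseX A X12.hR X12.hdefs X12.hsteps X12.htable hrel (by decide +kernel)
  · exact collapseX A X13.hR X13.hdefs X13.hsteps X13.htable hrel (by decide +kernel)
  · exact collapseX A X14.hR X14.hdefs X14.hsteps X14.htable hrel (by decide +kernel)
  · exact collapseX A X15.hR X15.hdefs X15.hsteps X15.htable hrel (by decide +kernel)
  · exact collapseX A X16.hR X16.hdefs X16.hsteps X16.htable hrel (by decide +kernel)
  · exact collapseX A X17.hR X17.hdefs X17.hsteps X17.htable hrel (by decide +kernel)
  · exact absurd ⟨rfl, by simp⟩ hne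
  · exact collapseX A X21.hR X21.hdefs X21.hsteps X21.htable hrel (by decide +kernel)
  · exact collapseX A X22.hR X22.hdefs X22.hsteps X22.htable hrel (by decide +kernel)
  · exact absurd ⟨rfl, by simp⟩ hne
  · exact collapseX A X24.hR X24.hdefs X24.hsteps X24.htable hrel (by decide +kernel)
  · exact collapseX A X25.hR X25.hdefs X25.hsteps X25.htable hrel (by decide +kernel)
  · exact collapseX A X26.hR X26.hdefs X26.hsteps X26.htable hrel (by decide +kernel)
  · exact collapseX A X27.hR X27.hdefs X27.hsteps X27.htable hrel (by decide +kernel)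

end CfsgLib.J3U
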