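import Cfsg.Agent.J3U.Setup

/-!
Finite facts about the centraliser of the involution, read off from its table.
-/

set_option autoImplicit false
set_option maxRecDepth 100000

namespace CfsgLib.J3U

open CfsgLib.Coset CfsgLib.J2U

/-- A word of the centraliser inverted. -/
def invC (w : List Nat) : List Nat := (w.map ivC).reverse

/-- Conjugators taking each element of order three to the fixed one or its inverse. -/
def conjThree : List (List Nat) := [[], [1], [2], [3], [5], [6], [1, 5], [1, 6], [2, 5], [2, 6], [3, 5], [3, 6], [5, 6], [5, 7], [5, 8], [6, 5], [6, 7], [6, 8], [1, 5, 6], [1, 5, 7], [1, 5, 8], [1, 6, 5], [1, 6, 7], [1, 6, 8], [2, 5, 6], [2, 5, 7], [2, 5, 8], [2, 6, 5], [2, 6, 7], [2, 6, 8], [3, 5, 6], [3, 5, 7], [3, 5, 8], [3, 6, 5], [3, 6, 7], [3, 6, 8], [5, 6, 8], [1, 5, 6, 8], [1, 6, 5, 7], [2, 5, 6, 8]]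

/-- The same inside the centraliser of the first involution. -/
def conjThreeD : List (List Nat) := [[], [6], [1, 2], [1, 3], [1, 4], [6, 7], [6, 8], [1, 2, 6], [1, 3, 6], [1, 4, 6], [1, 2, 6, 7], [1, 2, 6, 8], [1, 3, 6, 7], [1, 3, 6, 8], [1, 4, 6, 7], [1, 4, 6, 8]]

/-- Conjugators taking the involutions commuting with the element of order three to the first involution. -/
def conjInv : List (List Nat) := [[], [5, 7, 5], [1], [1, 5, 7, 5]]

/-- Candidates for the image of the four-group element. -/
def candF : List (List Nat) := [[], [6], [4, 3, 6], [7, 6, 8], [8, 6, 7], [4, 1, 7, 6, 8], [4, 2, 8, 6, 7]]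

/-- The relators that cut down the candidates for the image of the four-group element. -/
def relsF : List (List Nat) := [[5, 5], [2, 5, 2, 5, 2, 5]]

/-- The relators that cut down the pairs of images. -/
def relsP : List (List Nat) := [[0, 4, 4], [4, 5, 4, 5], [2, 4, 2, 4, 2, 4], [4, 3, 0, 5, 1, 2, 4, 3, 5, 2]]

/-- Six generators of the centraliser of the four-group. -/
def sixG : List (List Nat) := [[9], [0], [7], [8], [1, 2], [6]]

/-- The images of the six generators. -/
def sixI (e f : List Nat) : List (List Nat) := [[0], [9, 0], [7], [8], e, f]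

/-- A word in some words. -/
def subW (ws : List (List Nat)) (r : List Nat) : List Nat := r.flatMap fun l => ws.getD l []

theorem ev_subW {X : Type*} [Group X] (L : List X) (ws : List (List Nat)) (r : List Nat) :
    ev L (subW ws r) = ev (ws.map (ev L)) r := by
  induction r with
  | nil => simp [subW]
  | cons x r ih =>
    rw [subW, List.flatMap_cons, ev_append, ← subW, ih, ev_cons]
    congr 1
    rcases lt_or_ge x ws.length with hx | hx
    · simp [fl, List.getD_eq_getElem?_getD, List.getElem?_eq_getElem hx]
    · rw [List.getD_eq_default _ _ hx, fl_of_le _ (by simpa using hx), ev_nil]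

theorem ev_map_conj {X : Type*} [Group X] (y : X) (L : List X) (r : List Nat) :
    ev (L.map fun u => y * u * y⁻¹) r = y * ev L r * y⁻¹ := by
  induction r with
  | nil => simp
  | cons x r ih =>
    rw [ev_cons, ev_cons, ih]
    rcases lt_or_ge x L.length with hx | hx
    · simp only [fl, List.getD_eq_getElem?_getD, List.getElem?_map, List.getElem?_eq_getElem hx,
        Option.map_some, Option.getD_some]
      group
    · rw [fl_of_le _ (by simpa using hx), fl_of_le _ hx, one_mul, one_mul]

/-- An element of order three is conjugate to the fixed one or its inverse. -/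
noncomputable def threeTest (i : Nat) : Bool :=
  cond (eqT (wdC i ++ wdC i ++ wdC i) [])
    (eqT (wdC i) [] || conjThree.any fun c =>
      eqT (c ++ wdC i ++ invC c) [7] || eqT (c ++ wdC i ++ invC c) [8]) true

/-- The same inside the centraliser of the first involution. -/
noncomputable def threeTestD (i : Nat) : Bool :=
  cond (eqT (wdC i ++ [0]) ([0] ++ wdC i)) (cond (eqT (wdC i ++ wdC i ++ wdC i) [])
    (eqT (wdC i) [] || conjThreeD.any fun c =>
      eqT (c ++ wdC i ++ invC c) [7] || eqT (c ++ wdC i ++ invC c) [8]) true) true

/-- An involution commuting with the element of order three. -/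
noncomputable def invTest (i : Nat) : Bool :=
  cond (eqT (wdC i ++ wdC i) []) (cond (eqT (wdC i ++ [7]) ([7] ++ wdC i))
    (eqT (wdC i) [] || eqT (wdC i) [9] || conjInv.any fun c => eqT (c ++ wdC i ++ invC c) [0]) true) true

/-- An element of three-power order commuting with the four-group and the element of order three. -/
noncomputable def cubeTest (i : Nat) : Bool :=
  cond (eqT (wdC i ++ [0]) ([0] ++ wdC i)) (cond (eqT (wdC i ++ [7]) ([7] ++ wdC i))
    (eqT (wdC i ++ wdC i ++ wdC i ++ wdC i ++ wdC i ++ wdC i) [] &&
      cond (eqT (wdC i ++ wdC i ++ wdC i) []) (eqT (wdC i) [] || eqT (wdC i) [7] || eqT (wdC i) [8]) true)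
    true) true

/-- The image of the four-group element is a candidate. -/
noncomputable def fTest (i : Nat) : Bool :=
  cond (eqT (wdC i ++ [0]) ([0] ++ wdC i))
    (cond (relsF.all fun r => eqT (subW (sixI [] (wdC i)) r) [])
      (candF.any fun c => eqT (wdC i) c) true) true

/-- The images of the two generators form one of three pairs. -/
noncomputable def pTest (f : List Nat) (i : Nat) : Bool :=
  cond (eqT (wdC i ++ [0]) ([0] ++ wdC i))
    (cond (relsP.all fun r => eqT (subW (sixI (wdC i) f) r) [])
      ((List.range 3).any fun j =>
        eqT (wdC i) (List.replicate j 7 ++ [1, 4, 8, 6, 7] ++ List.replicate j 8) &&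
          eqT f (List.replicate j 7 ++ [6] ++ List.replicate j 8)) true) true

theorem threeTest_all : allBelow 11 1920 threeTest = true := by decide +kernel

theorem threeTestD_all : allBelow 11 1920 threeTestD = true := by decide +kernel

theorem invTest_all : allBelow 11 1920 invTest = true := by decide +kernel

theorem cubeTest_all : allBelow 11 1920 cubeTest = true := by decide +kernel

theorem fTest_all : allBelow 11 1920 fTest = true := by decide +kernel

theorem pTest_all : (candF.all fun f => allBelow 11 1920 (pTest f)) = true := by decide +kernel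

/-- The conjugates of the element of order three in the centraliser of the four-group are distinct. -/
noncomputable def threeD : List (List Nat) :=
  (conjThreeD.map fun c => invC c ++ [7] ++ c) ++ conjThreeD.map fun c => invC c ++ [8] ++ c

theorem threeD_all : ((List.range 32).all fun i => eqT (threeD.getD i [] ++ [0]) ([0] ++ threeD.getD i []) &&
    (List.range 32).all fun j => (i == j) || !eqT (threeD.getD i []) (threeD.getD j [])) = true := by
  decide +kernel

end CfsgLib.J3U
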