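import Cfsg.Agent.Invol.StrongEmbedded
import Mathlib.Combinatorics.Pigeonhole

/-!
A subgroup containing an involution centraliser in a simple group with one class of involutions is the whole group
when it has no large odd order subgroup.
-/

set_option autoImplicit false
set_option linter.style.haveILetI false

namespace CfsgLib.J3U

variable {G : Type*} [Group G] [Finite G] [IsSimpleGroup G]

theorem eq_top_of_centralizer_le (H : Subgroup G) {z : G} (hz : orderOf z = 2)
    (hone : ∀ u v : G, orderOf u = 2 → orderOf v = 2 → IsConj u v)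
    (hC : Subgroup.centralizer ({z} : Set G) ≤ H)
    (hH : ∀ u ∈ H, orderOf u = 2 → ∃ h ∈ H, h * z * h⁻¹ = u)
    (hodd : ∀ D : Subgroup G, D ≤ H → Odd (Nat.card D) →
      Nat.card D * Nat.card (Subgroup.centralizer ({z} : Set G)) < Nat.card H) : H = ⊤ := by
  classical
  by_contra htop
  haveI : Fact (Nat.Prime 2) := ⟨Nat.prime_two⟩
  set C := Subgroup.centralizer ({z} : Set G) with hCdef
  have memC : ∀ {g : G}, g ∈ C ↔ g * z = z * g := Subgroup.mem_centralizer_singleton_iff
  have hzH : z ∈ H := hC (memC.2 rfl)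
  have hmem : ∀ {g i : G}, orderOf i = 2 → i ∈ H → g⁻¹ * i * g ∈ H → g ∈ H := by
    intro g i hi hiH hgi
    obtain ⟨h₁, hh₁, e₁⟩ := hH i hiH hi
    have hi' : orderOf (g⁻¹ * i * g) = 2 := by
      rw [show g⁻¹ * i * g = g⁻¹ * i * g⁻¹⁻¹ by group, ← MulAut.conj_apply, MulEquiv.orderOf_eq, hi]
    obtain ⟨h₂, hh₂, e₂⟩ := hH _ hgi hi'
    have hc : h₁⁻¹ * g * h₂ ∈ C := memC.2 (by
      calc h₁⁻¹ * g * h₂ * z = h₁⁻¹ * g * (h₂ * z * h₂⁻¹) * h₂ := by group
        _ = h₁⁻¹ * i * g * h₂ := by rw [e₂]; group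
        _ = h₁⁻¹ * (h₁ * z * h₁⁻¹) * g * h₂ := by rw [e₁]
        _ = _ := by group)
    have := mul_mem (mul_mem hh₁ (hC hc)) (inv_mem hh₂)
    simpa [mul_assoc] using this
  have hSE : Cfsg.IsStronglyEmbedded H := by
    refine ⟨htop, even_iff_two_dvd.2 (hz ▸ Subgroup.orderOf_dvd_natCard H hzH), fun g hg => ?_⟩
    by_contra heven
    rw [Nat.not_odd_iff_even, even_iff_two_dvd] at heven
    obtain ⟨i, hi⟩ := exists_prime_orderOf_dvd_card' (G := ↥(H ⊓ H.map (MulAut.conj g).toMonoidHom)) 2 heven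
    obtain ⟨hiH, k, hk, hki⟩ := i.2
    refine hg (hmem (i := (i : G)) (by rwa [Subgroup.orderOf_coe]) hiH ?_)
    rw [← hki]
    simpa [mul_assoc] using hk
  -- the involutions
  let Inv := {i : G // orderOf i = 2}
  let InvH := {i : G // orderOf i = 2 ∧ i ∈ H}
  let T := {i : G // orderOf i = 2 ∧ i ∉ H}
  have hcardI : Nat.card Inv * Nat.card C = Nat.card G := by
    let e : G ⧸ C → Inv := fun q => Quotient.liftOn' q
      (fun g => (⟨g * z * g⁻¹, by rw [← MulAut.conj_apply, MulEquiv.orderOf_eq, hz]⟩ : Inv))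
      (fun a b hab => by
        rw [QuotientGroup.leftRel_apply] at hab
        refine Subtype.ext ?_
        show a * z * a⁻¹ = b * z * b⁻¹
        calc a * z * a⁻¹ = a * (z * (a⁻¹ * b)) * (a⁻¹ * b)⁻¹ * a⁻¹ := by group
          _ = a * ((a⁻¹ * b) * z) * (a⁻¹ * b)⁻¹ * a⁻¹ := by rw [memC.1 hab]
          _ = _ := by group)
    have he : Function.Bijective e := by
      refine ⟨fun p q => ?_, fun ⟨i, hi⟩ => ?_⟩
      · induction p using QuotientGroup.induction_on with | _ a => ?_
        induction q using QuotientGroup.induction_on with | _ b => ?_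
        intro h
        have h' : a * z * a⁻¹ = b * z * b⁻¹ := congrArg Subtype.val h
        refine QuotientGroup.eq.2 (memC.2 ?_)
        calc a⁻¹ * b * z = a⁻¹ * (b * z * b⁻¹) * b := by group
          _ = a⁻¹ * (a * z * a⁻¹) * b := by rw [h']
          _ = z * (a⁻¹ * b) := by group
      · obtain ⟨g, hg⟩ := isConj_iff.1 (hone z i hz hi)
        exact ⟨QuotientGroup.mk g, Subtype.ext hg⟩
    rw [← Nat.card_eq_of_bijective e he, ← Subgroup.card_eq_card_quotient_mul_card_subgroup]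
  have hcardH : Nat.card InvH * Nat.card C = Nat.card H := by
    set C' := C.subgroupOf H with hC'
    let e : H ⧸ C' → InvH := fun q => Quotient.liftOn' q
      (fun g => (⟨(g : G) * z * (g : G)⁻¹, by rw [← MulAut.conj_apply, MulEquiv.orderOf_eq, hz],
        mul_mem (mul_mem g.2 hzH) (inv_mem g.2)⟩ : InvH))
      (fun a b hab => by
        rw [QuotientGroup.leftRel_apply] at hab
        refine Subtype.ext ?_
        show (a : G) * z * (a : G)⁻¹ = (b : G) * z * (b : G)⁻¹
        have hab' : ((a : G)⁻¹ * b) * z = z * ((a : G)⁻¹ * b) := memC.1 hab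
        calc (a : G) * z * (a : G)⁻¹ = (a : G) * (z * ((a : G)⁻¹ * b)) * ((a : G)⁻¹ * b)⁻¹ * (a : G)⁻¹ := by group
          _ = (a : G) * (((a : G)⁻¹ * b) * z) * ((a : G)⁻¹ * b)⁻¹ * (a : G)⁻¹ := by rw [hab']
          _ = _ := by group)
    have he : Function.Bijective e := by
      refine ⟨fun p q => ?_, fun ⟨i, hi, hiH⟩ => ?_⟩
      · induction p using QuotientGroup.induction_on with | _ a => ?_
        induction q using QuotientGroup.induction_on with | _ b => ?_
        intro h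
        have h' : (a : G) * z * (a : G)⁻¹ = (b : G) * z * (b : G)⁻¹ := congrArg Subtype.val h
        refine QuotientGroup.eq.2 ?_
        show ((a⁻¹ * b : H) : G) ∈ C
        rw [memC, Subgroup.coe_mul, Subgroup.coe_inv]
        calc (a : G)⁻¹ * b * z = (a : G)⁻¹ * ((b : G) * z * (b : G)⁻¹) * b := by group
          _ = (a : G)⁻¹ * ((a : G) * z * (a : G)⁻¹) * b := by rw [h']
          _ = z * ((a : G)⁻¹ * b) := by group
      · obtain ⟨h, hh, hhe⟩ := hH i hiH hi
        exact ⟨QuotientGroup.mk ⟨h, hh⟩, Subtype.ext hhe⟩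
    rw [← Nat.card_eq_of_bijective e he, ← Nat.card_congr (Subgroup.subgroupOfEquivOfLe hC).toEquiv,
      ← Subgroup.card_eq_card_quotient_mul_card_subgroup]
  have hsplit : Nat.card Inv = Nat.card InvH + Nat.card T := by
    let e : InvH ⊕ T → Inv := fun s => s.elim (fun i => ⟨i.1, i.2.1⟩) (fun i => ⟨i.1, i.2.1⟩)
    have he : Function.Bijective e := by
      refine ⟨?_, fun i => ?_⟩
      · rintro (i | i) (j | j) h <;> have h' := congrArg Subtype.val h <;> simp only [e, Sum.elim_inl, Sum.elim_inr] at h'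
        · exact congrArg Sum.inl (Subtype.ext h')
        · exact absurd i.2.2 (h' ▸ j.2.2)
        · exact absurd j.2.2 (h' ▸ i.2.2)
        · exact congrArg Sum.inr (Subtype.ext h')
      · by_cases h : i.1 ∈ H
        · exact ⟨Sum.inl ⟨i.1, i.2, h⟩, rfl⟩
        · exact ⟨Sum.inr ⟨i.1, i.2, h⟩, rfl⟩
    rw [← Nat.card_eq_of_bijective e he, Nat.card_sum]
  -- a coset with many involutions
  let f : T → G ⧸ H := fun k => (QuotientGroup.mk k.1 : G ⧸ H)
  haveI : Fintype T := Fintype.ofFinite _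
  haveI : Fintype (G ⧸ H) := Fintype.ofFinite _
  let B : Finset (G ⧸ H) := Finset.univ.erase (QuotientGroup.mk 1)
  have hmaps : ∀ k ∈ (Finset.univ : Finset T), f k ∈ B := fun k _ => Finset.mem_erase.2
    ⟨fun e => k.2.2 (by simpa using inv_mem ((QuotientGroup.eq.1 e) : k.1⁻¹ * 1 ∈ H)), Finset.mem_univ _⟩
  have hindex : Nat.card G = H.index * Nat.card H := (Subgroup.index_mul_card H).symm
  have hB : B.card = H.index - 1 := by
    rw [Finset.card_erase_of_mem (Finset.mem_univ _), Finset.card_univ, Subgroup.index, Nat.card_eq_fintype_card]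
  have hT : Fintype.card T = (H.index - 1) * Nat.card InvH := by
    have hpos : 0 < Nat.card C := Nat.card_pos
    apply Nat.eq_of_mul_eq_mul_right hpos
    rw [mul_assoc, hcardH, ← Nat.card_eq_fintype_card]
    have : (Nat.card InvH + Nat.card T) * Nat.card C = H.index * Nat.card H := by rw [← hsplit, hcardI, hindex]
    rw [add_mul, hcardH] at this
    rw [Nat.sub_mul, one_mul]
    omega
  have hBne : B.Nonempty := by
    obtain ⟨g, -, hg⟩ := SetLike.exists_of_lt (lt_top_iff_ne_top.2 htop)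
    exact ⟨QuotientGroup.mk g, Finset.mem_erase.2
      ⟨fun e => hg (by simpa using inv_mem ((QuotientGroup.eq.1 e) : g⁻¹ * 1 ∈ H)), Finset.mem_univ _⟩⟩
  obtain ⟨q, hq, hle⟩ := Finset.exists_le_card_fiber_of_mul_le_card_of_maps_to hmaps hBne
    (n := Nat.card InvH) (by rw [hB, Finset.card_univ, hT])
  have hposH : 0 < Nat.card InvH := by
    rcases Nat.eq_zero_or_pos (Nat.card InvH) with h | h
    · exfalso; rw [h, zero_mul] at hcardH; exact absurd hcardH.symm Nat.card_pos.ne'
    · exact h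
  obtain ⟨k₀, hk₀⟩ := Finset.card_pos.1 (lt_of_lt_of_le hposH hle)
  rw [Finset.mem_filter] at hk₀
  set D := H ⊓ H.map (MulAut.conj k₀.1).toMonoidHom with hD
  have hk0s : k₀.1 * k₀.1 = 1 := CfsgLib.Invol.mul_self_eq_one k₀.2.1
  have hDbig : Nat.card InvH ≤ Nat.card D := by
    refine hle.trans ?_
    rw [← Fintype.card_coe, ← Nat.card_eq_fintype_card]
    refine Nat.card_le_card_of_injective (fun k => (⟨k₀.1⁻¹ * k.1.1, ?_⟩ : D)) fun a b h => ?_
    · have hk := (Finset.mem_filter.1 k.2).2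
      have h1 : k₀.1⁻¹ * k.1.1 ∈ H := QuotientGroup.eq.1 (hk₀.2.trans hk.symm)
      refine ⟨h1, (k₀.1⁻¹ * k.1.1)⁻¹, inv_mem h1, ?_⟩
      show k₀.1 * (k₀.1⁻¹ * k.1.1)⁻¹ * k₀.1⁻¹ = k₀.1⁻¹ * k.1.1
      rw [mul_inv_rev, inv_inv, CfsgLib.Invol.inv_eq_self k₀.2.1, CfsgLib.Invol.inv_eq_self k.1.2.1]
      calc k₀.1 * (k.1.1 * k₀.1) * k₀.1 = k₀.1 * k.1.1 * (k₀.1 * k₀.1) := by group
        _ = _ := by rw [hk0s, mul_one]
    · exact Subtype.ext (Subtype.ext (mul_left_cancel (congrArg Subtype.val h)))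
  have h := hodd D inf_le_left (hSE.2.2 _ k₀.2.2)
  have := Nat.mul_le_mul_right (Nat.card C) hDbig
  rw [hcardH] at this
  omega

end CfsgLib.J3U
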