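import Cfsg.Agent.J3U.FourTab

/-!
An elementary abelian subgroup of order sixteen, an element of order five normalising it and an element of order
three centralising that element.
-/

set_option autoImplicit false
set_option linter.style.haveILetI false
set_option maxRecDepth 100000

namespace CfsgLib.J3U

open CfsgLib.Coset CfsgLib.J2U
open CfsgLib.HJT (orderOf_two_iff)

variable {G : Type*} [Group G]

/-- Sixteen elements of an elementary abelian group given by coordinates. -/
structure Coord (u : Nat → G) : Prop where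
  mul : ∀ i < 16, ∀ j < 16, u i * u j = u (Nat.xor i j)
  inj : ∀ i < 16, u i = 1 → i = 0

/-- The action of an element in coordinates. -/
def ActU (u : Nat → G) (g : G) (im : List Nat) : Prop := ∀ i < 16, g * u i * g⁻¹ = u (lin4 im i)

/-- Composition of linear maps. -/
def comp4 (im im' : List Nat) : List Nat := im'.map (lin4 im)

/-- The subgroup of order sixteen normalised by the elements of order three and five. -/
structure Four (z x : G) (u : Nat → G) (t : G) (s : Bool) : Prop where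
  coord : Coord u
  cent : ∀ g, (∀ m ∈ [1, 2, 4, 8], g * u m = u m * g) → ∃ i < 16, g = u i
  actZ : ActU u z [8, 4, 2, 1]
  actX : ActU u x (cond s [2, 3, 12, 4] [3, 1, 8, 12])
  actT : ActU u t [10, 7, 2, 1]
  tx : t * x = x * t
  ztz : z * t * z = t⁻¹
  t5 : t ^ 5 = 1
  tne : t ≠ 1

theorem xor_split : ∀ i < 16, Nat.xor (Nat.xor (Nat.xor (i % 2) (2 * (i / 2 % 2))) (4 * (i / 4 % 2)))
    (8 * (i / 8 % 2)) = i := by decide

theorem lin4_lt_aux : ∀ a < 16, ∀ b < 16, Nat.xor a b < 16 := by decide +kernel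

theorem getD_lt (im : List Nat) (him : ∀ a ∈ im, a < 16) (k : Nat) : im.getD k 0 < 16 := by
  rcases lt_or_ge k im.length with h | h
  · rw [List.getD_eq_getElem _ _ h]; exact him _ (List.getElem_mem h)
  · rw [List.getD_eq_default _ _ h]; norm_num

theorem lin4_lt (im : List Nat) (him : ∀ a ∈ im, a < 16) (i : Nat) : lin4 im i < 16 := by
  have h := fun (p : Prop) [Decidable p] (k : Nat) => show (if p then im.getD k 0 else 0) < 16 from by
    split
    · exact getD_lt im him k
    · norm_num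
  exact lin4_lt_aux _ (lin4_lt_aux _ (lin4_lt_aux _ (h _ 0) _ (h _ 1)) _ (h _ 2)) _ (h _ 3)

namespace Coord

variable {u : Nat → G} (hu : Coord u)

include hu

theorem zero : u 0 = 1 := by
  have h := hu.mul 0 (by norm_num) 0 (by norm_num)
  exact mul_eq_left.1 h

theorem self {i : Nat} (hi : i < 16) : u i * u i = 1 := by
  rw [hu.mul i hi i hi, show Nat.xor i i = 0 from Nat.xor_self i, hu.zero]

theorem eq_iff {i j : Nat} (hi : i < 16) (hj : j < 16) (h : u i = u j) : i = j := by
  have h0 := hu.inj _ (lin4_lt_aux i hi j hj) (by rw [← hu.mul i hi j hj, ← h, hu.self hi])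
  revert h0 hi hj
  have : ∀ i < 16, ∀ j < 16, Nat.xor i j = 0 → i = j := by decide +kernel
  exact fun hi hj h0 => this i hi j hj h0

theorem comm {i j : Nat} (hi : i < 16) (hj : j < 16) : u i * u j = u j * u i := by
  rw [hu.mul i hi j hj, hu.mul j hj i hi, show Nat.xor i j = Nat.xor j i from Nat.xor_comm i j]

theorem actU_of_basis {g : G} {im : List Nat} (him : ∀ a ∈ im, a < 16)
    (h : ∀ k < 4, g * u (2 ^ k) * g⁻¹ = u (im.getD k 0)) : ActU u g im := by
  intro i hi
  have hbit : ∀ k < 4, ∀ e < 2, g * u (2 ^ k * e) * g⁻¹ = u (if e = 1 then im.getD k 0 else 0) := by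
    intro k hk e he
    interval_cases e
    · simp [hu.zero]
    · simpa using h k hk
  have hl := lin4_lt_aux
  have hp : ∀ k < 4, ∀ e < 2, 2 ^ k * e < 16 := by decide
  have hv : ∀ (k e : Nat), (if e = 1 then im.getD k 0 else 0) < 16 := fun k e => by
    split
    · exact getD_lt im him k
    · norm_num
  have e1 : i % 2 = 2 ^ 0 * (i % 2) := by simp
  have key : ∀ a < 16, ∀ b < 16, ∀ a' b', a' < 16 → b' < 16 → g * u a * g⁻¹ = u a' → g * u b * g⁻¹ = u b' →
      g * u (Nat.xor a b) * g⁻¹ = u (Nat.xor a' b') := fun a ha b hb a' b' ha' hb' h1 h2 => by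
    rw [← hu.mul a ha b hb, ← hu.mul a' ha' b' hb', ← h1, ← h2]; group
  have h0 := hbit 0 (by norm_num) (i % 2) (Nat.mod_lt _ (by norm_num))
  have h1 := hbit 1 (by norm_num) (i / 2 % 2) (Nat.mod_lt _ (by norm_num))
  have h2 := hbit 2 (by norm_num) (i / 4 % 2) (Nat.mod_lt _ (by norm_num))
  have h3 := hbit 3 (by norm_num) (i / 8 % 2) (Nat.mod_lt _ (by norm_num))
  have p0 := hp 0 (by norm_num) (i % 2) (Nat.mod_lt _ (by norm_num))
  have p1 := hp 1 (by norm_num) (i / 2 % 2) (Nat.mod_lt _ (by norm_num))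
  have p2 := hp 2 (by norm_num) (i / 4 % 2) (Nat.mod_lt _ (by norm_num))
  have p3 := hp 3 (by norm_num) (i / 8 % 2) (Nat.mod_lt _ (by norm_num))
  have k1 := key _ p0 _ p1 _ _ (hv _ _) (hv _ _) h0 h1
  have k2 := key _ (hl _ p0 _ p1) _ p2 _ _ (hl _ (hv _ _) _ (hv _ _)) (hv _ _) k1 h2
  have k3 := key _ (hl _ (hl _ p0 _ p1) _ p2) _ p3 _ _ (hl _ (hl _ (hv _ _) _ (hv _ _)) _ (hv _ _)) (hv _ _) k2 h3
  have hs := xor_split i hi
  simp only [pow_zero, one_mul, pow_one, show (2 : Nat) ^ 2 = 4 from rfl, show (2 : Nat) ^ 3 = 8 from rfl] at k3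
  rw [hs] at k3
  exact k3

theorem actU_mul {g g' : G} {im im' : List Nat} (him : ∀ a ∈ im, a < 16) (him' : ∀ a ∈ im', a < 16)
    (hlen : im'.length = 4) (h : ActU u g im) (h' : ActU u g' im') : ActU u (g * g') (comp4 im im') := by
  refine hu.actU_of_basis (fun a ha => ?_) fun k hk => ?_
  · obtain ⟨b, -, rfl⟩ := List.mem_map.1 ha; exact lin4_lt im him b
  · have hb : im'.getD k 0 < 16 := getD_lt im' him' k
    have h1 : lin4 im' (2 ^ k) = im'.getD k 0 := by
      interval_cases k <;> simp [lin4] <;> rfl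
    rw [← HJT.conj_assoc, h' _ (by interval_cases k <;> norm_num), h1, h _ hb, comp4,
      List.getD_eq_getElem _ _ (by omega), List.getD_eq_getElem _ _ (by simp; omega), List.getElem_map]

theorem trivial_act {g : G} {im : List Nat} (him : ∀ k < 4, im.getD k 0 = 2 ^ k) (h : ActU u g im)
    (hcent : ∀ g, (∀ m ∈ [1, 2, 4, 8], g * u m = u m * g) → ∃ i < 16, g = u i) : ∃ i < 16, g = u i := by
  refine hcent g fun m hm => ?_
  simp only [List.mem_cons, List.not_mem_nil, or_false] at hm
  refine mul_inv_eq_iff_eq_mul.1 ?_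
  have hl : ∀ k < 4, lin4 im (2 ^ k) = im.getD k 0 := fun k hk => by
    interval_cases k <;> simp [lin4] <;> rfl
  have key : ∀ k < 4, g * u (2 ^ k) * g⁻¹ = u (2 ^ k) := fun k hk => by
    rw [h _ (by interval_cases k <;> norm_num), hl k hk, him k hk]
  rcases hm with rfl | rfl | rfl | rfl
  exacts [key 0 (by norm_num), key 1 (by norm_num), key 2 (by norm_num), key 3 (by norm_num)]

theorem actU_lift {c g : G} {imc img : List Nat} (himc : ∀ a ∈ imc, a < 16) (himg : ∀ a ∈ img, a < 16)
    (hlc : imc.length = 4) (hlg : img.length = 4)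
    (hfpf : ∀ i < 16, lin4 imc (lin4 imc (lin4 imc i)) = i ∧
      Nat.xor (lin4 imc i) (lin4 imc (lin4 imc i)) = i)
    (hc : ActU u c imc) (hg : ActU u g img) (hsame : comp4 imc img = comp4 img imc)
    (hcent : ∀ g, (∀ m ∈ [1, 2, 4, 8], g * u m = u m * g) → ∃ i < 16, g = u i) :
    ∃ m < 16, c * (g * u m) = g * u m * c := by
  obtain ⟨i, hi, hv⟩ := hcent ((g * c)⁻¹ * (c * g)) fun m hm => by
    have hm' : m < 16 := by simp at hm; omega
    have h1 := hu.actU_mul himc himg hlg hc hg m hm'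
    have h2 := hu.actU_mul himg himc hlc hg hc m hm'
    rw [hsame, ← h2] at h1
    refine mul_inv_eq_iff_eq_mul.1 ?_
    calc (g * c)⁻¹ * (c * g) * u m * ((g * c)⁻¹ * (c * g))⁻¹
        = (g * c)⁻¹ * (c * g * u m * (c * g)⁻¹) * (g * c) := by group
      _ = u m := by rw [h1]; group
  have hcc : lin4 imc (lin4 imc i) < 16 := lin4_lt imc himc _
  refine ⟨_, hcc, ?_⟩
  have h1 : c * u (lin4 imc i) * c⁻¹ = u (lin4 imc (lin4 imc i)) := hc _ (lin4_lt imc himc i)
  have h2 : u i * u (lin4 imc (lin4 imc i)) = u (lin4 imc i) := by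
    rw [hu.mul i hi _ hcc]
    have h := (hfpf i hi).2
    congr 1
    have key : ∀ a < 16, ∀ b < 16, ∀ e < 16, Nat.xor a b = e → Nat.xor e b = a := by decide +kernel
    exact key _ (lin4_lt imc himc i) _ hcc i hi h
  calc c * (g * u (lin4 imc (lin4 imc i)))
      = g * c * ((g * c)⁻¹ * (c * g)) * u (lin4 imc (lin4 imc i)) := by group
    _ = g * c * u (lin4 imc i) := by rw [hv, mul_assoc, h2]
    _ = g * (c * u (lin4 imc i) * c⁻¹) * c := by group
    _ = g * u (lin4 imc (lin4 imc i)) * c := by rw [h1]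

end Coord

end CfsgLib.J3U
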