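import Cfsg.Agent.J3U.Four

/-!
Existence of the subgroup of order sixteen with its normalising elements.
-/

set_option autoImplicit false
set_option linter.style.haveILetI false
set_option maxRecDepth 100000

namespace CfsgLib.J3U

open CfsgLib.Coset CfsgLib.J2U
open CfsgLib.HJT (orderOf_two_iff)

/-- The composed action of a word in the four generators of the normaliser. -/
def imW (ims : List (List Nat)) (r : List Nat) : List Nat :=
  r.foldr (fun l acc => comp4 (ims.getD l [1, 2, 4, 8]) acc) [1, 2, 4, 8]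

/-- The admissible images of the basis under the fusing element. -/
def goodIm : List (List Nat) := [[4, 12, 1, 3], [8, 4, 1, 3], [12, 8, 1, 3]]

/-- A candidate for the fusing element violates a necessary condition or is admissible. -/
def hTest (im : List Nat) (imx : List Nat) : Bool :=
  cond ((List.range 4).all fun k => lin4 imx (im.getD k 0) == lin4 im (imY.getD k 0))
    (goodIm.contains im || ((List.range 16).any fun m => m != 0 && lin4 im m == 0) ||
      badWords.any fun r => (imW [imX, imY, imD, im] r).getD 0 0 == 1 &&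
        !imStab.contains (imW [imX, imY, imD, im] r)) true

theorem hTest_all : ((List.range 16).all fun a => (List.range 16).all fun b => (List.range 16).all fun r =>
    hTest [a, b, 1, r] imX && hTest [a, b, 1, r] (comp4 imX imX)) = true := by decide +kernel

theorem good_rot : comp4 (comp4 imX imX) [8, 4, 1, 3] = [4, 12, 1, 3] ∧ comp4 imX [12, 8, 1, 3] = [4, 12, 1, 3] := by
  decide

theorem fixed_c : ∀ i < 16, lin4 [2, 3, 12, 4] i = i → i = 0 := by decide

theorem fpf_c : ∀ i < 16, lin4 [2, 3, 12, 4] (lin4 [2, 3, 12, 4] (lin4 [2, 3, 12, 4] i)) = i ∧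
    Nat.xor (lin4 [2, 3, 12, 4] i) (lin4 [2, 3, 12, 4] (lin4 [2, 3, 12, 4] i)) = i := by decide +kernel

variable {G : Type*} [Group G]

theorem actU_conj {u : Nat → G} {g : G} {im : List Nat} (K : G) (h : ActU u g im) :
    ActU (fun i => K * u i * K⁻¹) (K * g * K⁻¹) im := fun i hi => by
  show K * g * K⁻¹ * (K * u i * K⁻¹) * (K * g * K⁻¹)⁻¹ = K * u (lin4 im i) * K⁻¹
  rw [← h i hi]; group

namespace Coord

variable {u : Nat → G} (hu : Coord u)

include hu

theorem actU_one : ActU u 1 [1, 2, 4, 8] :=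
  hu.actU_of_basis (by decide) fun k hk => by interval_cases k <;> simp

theorem actU_self {m : Nat} (hm : m < 16) : ActU u (u m) [1, 2, 4, 8] := by
  refine hu.actU_of_basis (by decide) fun k hk => mul_inv_eq_iff_eq_mul.2 ?_
  interval_cases k <;> exact hu.comm hm (by norm_num)

theorem actU_ev {L : List G} {ims : List (List Nat)} (hlen : L.length = ims.length)
    (hims : ∀ im ∈ ims, im.length = 4 ∧ ∀ a ∈ im, a < 16)
    (h : ∀ l < L.length, ActU u (fl L l) (ims.getD l [1, 2, 4, 8])) : ∀ r : List Nat,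
    ActU u (ev L r) (imW ims r) ∧ (imW ims r).length = 4 ∧ ∀ a ∈ imW ims r, a < 16 := by
  have hget : ∀ l, (ims.getD l [1, 2, 4, 8]).length = 4 ∧ ∀ a ∈ ims.getD l [1, 2, 4, 8], a < 16 := fun l => by
    rcases lt_or_ge l ims.length with hl | hl
    · rw [List.getD_eq_getElem _ _ hl]; exact hims _ (List.getElem_mem hl)
    · rw [List.getD_eq_default _ _ hl]; exact ⟨rfl, by decide⟩
  have hall : ∀ l, ActU u (fl L l) (ims.getD l [1, 2, 4, 8]) := fun l => by
    rcases lt_or_ge l L.length with hl | hl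
    · exact h l hl
    · rw [fl_of_le _ hl, List.getD_eq_default _ _ (hlen ▸ hl)]; exact hu.actU_one
  intro r
  induction r with
  | nil => exact ⟨by rw [ev_nil]; exact hu.actU_one, rfl, by simp [imW]⟩
  | cons l r ih =>
    refine ⟨?_, by simpa [imW, comp4] using ih.2.1, ?_⟩
    · rw [ev_cons]; exact hu.actU_mul (hget l).2 ih.2.2 ih.2.1 (hall l) ih.1
    · intro a ha
      obtain ⟨b, -, rfl⟩ := List.mem_map.1 ha
      exact lin4_lt _ (hget l).2 b

theorem act_surj {g : G} {im : List Nat} (him : ∀ a ∈ im, a < 16) (h : ActU u g im) {a : Nat} (ha : a < 16) :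
    ∃ i < 16, lin4 im i = a := by
  let f : Fin 16 → Fin 16 := fun i => ⟨lin4 im i.1, lin4_lt im him i.1⟩
  have hf : Function.Injective f := fun i j e => by
    have e' : lin4 im i.1 = lin4 im j.1 := congrArg Fin.val e
    refine Fin.ext (hu.eq_iff i.2 j.2 ?_)
    have h1 := h i.1 i.2
    rw [e', ← h j.1 j.2] at h1
    simpa using h1
  obtain ⟨i, hi⟩ := (Finite.injective_iff_surjective.1 hf) ⟨a, ha⟩
  exact ⟨i.1, i.2, congrArg Fin.val hi⟩

theorem act_inj {g : G} {im : List Nat} (h : ActU u g im) {i : Nat} (hi : i < 16) (h0 : lin4 im i = 0) :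
    i = 0 := by
  have h1 := h i hi
  rw [h0, hu.zero] at h1
  exact hu.inj i hi (conj_eq_one_iff.1 h1)

end Coord

theorem vec_lt (i : Nat) : ∀ l ∈ vecW i, l < 10 := by
  intro l hl
  simp only [vecW, List.mem_append, List.mem_replicate, List.mem_flatten] at hl
  rcases hl with ((h | h) | h) | ⟨v, hv, h⟩
  · omega
  · omega
  · omega
  · rw [hv.2] at h; simp at h; omega

theorem cjW_lt {c v : List Nat} (hc : ∀ l ∈ c, l < 10) (hv : ∀ l ∈ v, l < 10) : ∀ l ∈ cjW c v, l < 10 :=
  conj_lt c v hc hv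

theorem four_lists_lt : ((conjToB ++ conjToW ++ candB ++ candW ++ intoB ++ intoW).all fun w =>
    allList (fun l => Nat.blt l 10) w) = true := by decide +kernel

theorem four_mem_lt {w : List Nat} (h : w ∈ conjToB ++ conjToW ++ candB ++ candW ++ intoB ++ intoW) :
    ∀ l ∈ w, l < 10 := lt_of_check (List.all_eq_true.mp four_lists_lt w h)

variable {z : G} {b : Fin 5 → G} {S w x y : G}

/-- The standard subgroup of order sixteen. -/
noncomputable def uC (z : G) (b : Fin 5 → G) (S w x : G) (i : Nat) : G := ev (LCof z b S w x) (vecW i)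

namespace Core

variable (B : Core z b S w x)

include B

theorem uC_coord : Coord (uC z b S w x) where
  mul i hi j hj := by
    rw [uC, uC, uC, ← ev_append]
    exact B.eqC (List.all_eq_true.mp (List.all_eq_true.mp vec_mul i (List.mem_range.mpr hi)) j
      (List.mem_range.mpr hj))
  inj i hi h := by
    have h1 := List.all_eq_true.mp vec_inj i (List.mem_range.mpr hi)
    rw [B.neC (u := vecW i) (v := []) (by simpa [uC] using h) (vec_lt i) (by simp)] at h1
    simpa using h1

theorem uC_one : uC z b S w x 1 = z := by simp [uC, vecW, LCof, fl]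

theorem uC_cent : ∀ g, (∀ m ∈ [1, 2, 4, 8], g * uC z b S w x m = uC z b S w x m * g) →
    ∃ i < 16, g = uC z b S w x i := by
  intro g hg
  have hgz : g * z = z * g := by simpa [B.uC_one] using hg 1 (by simp)
  obtain ⟨i, hi, hgi, hl⟩ := B.exC hgz
  have ht := of_allBelow centTest_all i hi
  have h1 : ([1, 2, 4, 8].all fun m => eqT (wdC i ++ vecW m) (vecW m ++ wdC i)) = true :=
    List.all_eq_true.mpr fun m hm => B.neC (by rw [ev_append, ev_append, ← hgi]; exact hg m hm)
      (append_lt hl (vec_lt m)) (append_lt (vec_lt m) hl)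
  unfold centTest at ht
  rw [h1, cond_true] at ht
  obtain ⟨m, hm, hme⟩ := List.any_eq_true.mp ht
  exact ⟨m, List.mem_range.mp hm, hgi.trans (B.of_eq hl (vec_lt m) hme)⟩

theorem of_inU {c : List Nat} (hc : ∀ l ∈ c, l < 10) (h : inU c = true) :
    ∃ m < 16, ev (LCof z b S w x) c = uC z b S w x m := by
  obtain ⟨m, hm, he⟩ := List.any_eq_true.mp h
  exact ⟨m, List.mem_range.mp hm, B.of_eq hc (vec_lt m) he⟩

theorem ev_cjW (c v : List Nat) : ev (LCof z b S w x) (cjW c v) =
    ev (LCof z b S w x) c * ev (LCof z b S w x) v * (ev (LCof z b S w x) c)⁻¹ := by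
  rw [cjW, ev_append, ev_append, B.evC_inv]

theorem act_word {c : List Nat} (hc : ∀ l ∈ c, l < 10)
    (h : ([1, 2, 4, 8].all fun m => inU (cjW c (vecW m))) = true) :
    ∃ im : List Nat, im.length = 4 ∧ (∀ a ∈ im, a < 16) ∧ ActU (uC z b S w x) (ev (LCof z b S w x) c) im := by
  have hm : ∀ m ∈ [1, 2, 4, 8], ∃ a < 16,
      ev (LCof z b S w x) c * uC z b S w x m * (ev (LCof z b S w x) c)⁻¹ = uC z b S w x a := fun m hm => by
    obtain ⟨a, ha, hae⟩ := B.of_inU (cjW_lt hc (vec_lt m)) (List.all_eq_true.mp h m hm)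
    exact ⟨a, ha, by rw [← hae, B.ev_cjW]; rfl⟩
  obtain ⟨a1, ha1, e1⟩ := hm 1 (by simp)
  obtain ⟨a2, ha2, e2⟩ := hm 2 (by simp)
  obtain ⟨a4, ha4, e4⟩ := hm 4 (by simp)
  obtain ⟨a8, ha8, e8⟩ := hm 8 (by simp)
  have hall : ∀ a ∈ [a1, a2, a4, a8], a < 16 := by simp [ha1, ha2, ha4, ha8]
  refine ⟨[a1, a2, a4, a8], rfl, hall, B.uC_coord.actU_of_basis hall fun k hk => ?_⟩
  interval_cases k
  exacts [e1, e2, e4, e8]

theorem act_stab {g : G} {im : List Nat} (hlen : im.length = 4) (him : ∀ a ∈ im, a < 16)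
    (h : ActU (uC z b S w x) g im) (hfix : im.getD 0 0 = 1) : im ∈ imStab := by
  set L := LCof z b S w x with hL
  have hlin : ∀ k < 4, lin4 im (2 ^ k) = im.getD k 0 := fun k hk => by
    interval_cases k <;> simp [lin4] <;> rfl
  have hg : ∀ k < 4, g * ev L (vecW (2 ^ k)) * g⁻¹ = ev L (vecW (im.getD k 0)) := fun k hk => by
    rw [← hlin k hk]; exact h _ (by interval_cases k <;> norm_num)
  have hgz : g * z = z * g := by
    have h1 := hg 0 (by norm_num)
    rw [hfix] at h1
    refine mul_inv_eq_iff_eq_mul.1 ?_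
    have e : ev L (vecW 1) = z := B.uC_one
    simpa [e] using h1
  obtain ⟨i, hi, hgi, hl⟩ := B.exC hgz
  have h1 : ([1, 2, 4, 8].all fun m => inU (cjW (wdC i) (vecW m))) = true := by
    refine List.all_eq_true.mpr fun m hm => ?_
    obtain ⟨k, hk, rfl⟩ : ∃ k < 4, m = 2 ^ k := by
      simp at hm
      rcases hm with rfl | rfl | rfl | rfl
      exacts [⟨0, by norm_num⟩, ⟨1, by norm_num⟩, ⟨2, by norm_num⟩, ⟨3, by norm_num⟩]
    refine List.any_eq_true.mpr ⟨im.getD k 0, List.mem_range.mpr (getD_lt im him k),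
      B.neC ?_ (cjW_lt hl (vec_lt _)) (vec_lt _)⟩
    rw [B.ev_cjW, ← hgi]; exact hg k hk
  have ht := of_allBelow stabTest_all i hi
  unfold stabTest at ht
  rw [h1, cond_true] at ht
  obtain ⟨im', him', he⟩ := List.any_eq_true.mp ht
  have hst : ∀ im ∈ imStab, im.length = 4 ∧ ∀ a ∈ im, a < 16 := by decide
  suffices im = im' by rw [this]; exact him'
  refine List.ext_getElem (by rw [hlen, (hst _ him').1]) fun k hk hk' => ?_
  have hk4 : k < 4 := hlen ▸ hk
  have he' := B.of_eq (cjW_lt hl (vec_lt _)) (vec_lt _) (List.all_eq_true.mp he k (List.mem_range.mpr hk4))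
  rw [B.ev_cjW, ← hgi, hg k hk4] at he'
  have := B.uC_coord.eq_iff (getD_lt im him k) (getD_lt im' (hst _ him').2 k) he'
  rwa [List.getD_eq_getElem _ _ hk, List.getD_eq_getElem _ _ hk'] at this

theorem sixteen_conj {p : List Nat} {cand into : List (List Nat)} (hp : ∀ l ∈ p, l < 10)
    (hcl : ∀ w ∈ cand, ∀ l ∈ w, l < 10) (hil : ∀ w ∈ into, ∀ l ∈ w, l < 10)
    (hcand : allBelow 11 1920 (candTest p cand) = true) (htest : sixteenTest p cand into = true)
    {v : Nat → G} (hv : Coord v) (hv1 : v 1 = ev (LCof z b S w x) p) (hv4 : v 4 = z) :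
    ∃ c : List Nat, (∀ l ∈ c, l < 10) ∧ ∀ k < 4, ∃ a < 16,
      ev (LCof z b S w x) c * v (2 ^ k) * (ev (LCof z b S w x) c)⁻¹ = uC z b S w x a := by
  set L := LCof z b S w x with hL
  have hz : ∀ m < 16, v m * z = z * v m := fun m hm => hv4 ▸ hv.comm hm (by norm_num)
  have h9 : ev L [9] = z := by simp [hL, LCof, fl]
  -- a member of the list for each of the two
  have find : ∀ m < 16, m ∉ [0, 1, 4, 5] → ∃ q ∈ cand, v m = ev L q := by
    intro m hm hne
    obtain ⟨i, hi, hmi, hl⟩ := B.exC (hz m hm)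
    have ht := of_allBelow hcand i hi
    have h2 : eqT (wdC i ++ wdC i) [] = true :=
      B.neC (by rw [ev_append, ← hmi, ev_nil]; exact hv.self hm) (append_lt hl hl) (by simp)
    have h3 : eqT (wdC i ++ p) (p ++ wdC i) = true :=
      B.neC (by rw [ev_append, ev_append, ← hmi, ← hv1]; exact hv.comm hm (by norm_num)) (append_lt hl hp)
        (append_lt hp hl)
    unfold candTest at ht
    rw [h2, h3, cond_true, cond_true] at ht
    simp only [Bool.or_eq_true] at ht
    simp only [List.mem_cons, List.not_mem_nil, or_false, not_or] at hne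
    rcases ht with (((h | h) | h) | h) | h
    · have h' := B.of_eq hl (by simp) h
      rw [← hmi, ev_nil, ← hv.zero] at h'
      exact absurd (hv.eq_iff hm (by norm_num) h') hne.1
    · have h' := B.of_eq hl (by simp) h
      rw [← hmi, h9, ← hv4] at h'
      exact absurd (hv.eq_iff hm (by norm_num) h') hne.2.2.1
    · have h' := B.of_eq hl hp h
      rw [← hmi, ← hv1] at h'
      exact absurd (hv.eq_iff hm (by norm_num) h') hne.2.1
    · have h' := B.of_eq hl (append_lt (by simp) hp) h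
      rw [← hmi, ev_append, h9, ← hv1, ← hv4, hv.mul 4 (by norm_num) 1 (by norm_num)] at h'
      exact absurd (hv.eq_iff hm (by decide) h') hne.2.2.2
    · obtain ⟨q, hq, he⟩ := List.any_eq_true.mp h
      exact ⟨q, hq, hmi.trans (B.of_eq hl (hcl q hq) he)⟩
  obtain ⟨q, hq, hvq⟩ := find 2 (by norm_num) (by decide)
  obtain ⟨r, hr, hvr⟩ := find 8 (by norm_num) (by decide)
  have hql := hcl q hq
  have hrl := hcl r hr
  have ht := allList_iff.mp (allList_iff.mp htest q hq) r hr
  rw [show eqT (q ++ r) (r ++ q) = true from B.neC (by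
    rw [ev_append, ev_append, ← hvq, ← hvr]; exact hv.comm (by norm_num) (by norm_num)) (append_lt hql hrl)
    (append_lt hrl hql), cond_true] at ht
  simp only [Bool.or_eq_true] at ht
  rcases ht with (((h | h) | h) | h) | h
  · have h' := B.of_eq hrl hql h
    rw [← hvr, ← hvq] at h'
    exact absurd (hv.eq_iff (by norm_num) (by norm_num) h') (by norm_num)
  · have h' := B.of_eq hrl (append_lt (by simp) hql) h
    rw [← hvr, ev_append, h9, ← hvq, ← hv4, hv.mul 4 (by norm_num) 2 (by norm_num)] at h'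
    exact absurd (hv.eq_iff (by norm_num) (by decide) h') (by decide)
  · have h' := B.of_eq hrl (append_lt hp hql) h
    rw [← hvr, ev_append, ← hv1, ← hvq, hv.mul 1 (by norm_num) 2 (by norm_num)] at h'
    exact absurd (hv.eq_iff (by norm_num) (by decide) h') (by decide)
  · have h' := B.of_eq hrl (append_lt (append_lt (by simp) hp) hql) h
    rw [← hvr, ev_append, ev_append, h9, ← hv1, ← hvq, ← hv4, hv.mul 4 (by norm_num) 1 (by norm_num),
      hv.mul (Nat.xor 4 1) (by decide) 2 (by norm_num)] at h'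
    exact absurd (hv.eq_iff (by norm_num) (by decide) h') (by decide)
  obtain ⟨c, hc, hce⟩ := List.any_eq_true.mp h
  simp only [Bool.and_eq_true] at hce
  have hcl' := hil c hc
  have img : ∀ (e : List Nat) (g : G), (∀ l ∈ e, l < 10) → ev L e = g → inU (cjW c e) = true →
      ∃ a < 16, ev L c * g * (ev L c)⁻¹ = uC z b S w x a := by
    intro e g he hg hh
    obtain ⟨a, ha, hae⟩ := B.of_inU (cjW_lt hcl' he) hh
    exact ⟨a, ha, by rw [← hae, B.ev_cjW, hg]⟩
  refine ⟨c, hcl', fun k hk => ?_⟩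
  interval_cases k
  · exact img p _ hp hv1.symm hce.1.1.1
  · exact img q _ hql hvq.symm hce.1.1.2
  · exact img [9] _ (by simp) (h9.trans hv4.symm) hce.2
  · exact img r _ hrl hvr.symm hce.1.2

end Core

variable [Finite G]

/-- An element taking the standard subgroup into itself and the outer involution to the central one. -/
theorem exists_fuse (B : Core z b S w x) (hone : ∀ u v : G, orderOf u = 2 → orderOf v = 2 → IsConj u v) :
    ∃ (h : G) (im : List Nat), im.length = 4 ∧ (∀ a ∈ im, a < 16) ∧ ActU (uC z b S w x) h im ∧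
      im.getD 2 0 = 1 := by
  set L := LCof z b S w x with hL
  set u := uC z b S w x with hu'
  have hu : Coord u := B.uC_coord
  have u1 : u 1 = z := B.uC_one
  have uinv : ∀ m < 16, m ≠ 0 → orderOf (u m) = 2 := fun m hm hne =>
    orderOf_two_iff.2 ⟨hu.self hm, fun e => hne (hu.inj m hm e)⟩
  obtain ⟨g, hg⟩ := isConj_iff.1 (hone (u 4) z (uinv 4 (by norm_num) (by norm_num))
    (u1 ▸ uinv 1 (by norm_num) (by norm_num)))
  -- the first image
  have hcomm : ∀ (k : G), k * u 4 * k⁻¹ = z → ∀ m < 16, k * u m * k⁻¹ * z = z * (k * u m * k⁻¹) := by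
    intro k hk m hm
    have := HJT.commute_conj k (hu.comm hm (show 4 < 16 by norm_num))
    rwa [hk] at this
  have hsq : ∀ (k : G), ∀ m < 16, k * u m * k⁻¹ * (k * u m * k⁻¹) = 1 := fun k m hm => by
    rw [show k * u m * k⁻¹ * (k * u m * k⁻¹) = k * (u m * u m) * k⁻¹ by group, hu.self hm]; group
  have hne : ∀ (k : G), ∀ m < 16, ∀ m' < 16, m ≠ m' → k * u m * k⁻¹ ≠ k * u m' * k⁻¹ := fun k m hm m' hm' hne e =>
    hne (hu.eq_iff hm hm' (by simpa using e))
  have hprod : ∀ (k : G), ∀ m < 16, ∀ m' < 16,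
      k * u m * k⁻¹ * (k * u m' * k⁻¹) = k * u (Nat.xor m m') * k⁻¹ := fun k m hm m' hm' => by
    rw [← hu.mul m hm m' hm']; group
  obtain ⟨g₁, hg4, hg1⟩ : ∃ g₁, g₁ * u 4 * g₁⁻¹ = z ∧ (g₁ * u 1 * g₁⁻¹ = ev L [0] ∨ g₁ * u 1 * g₁⁻¹ = ev L [6]) := by
    obtain ⟨i, hi, hpi, hl⟩ := B.exC (hcomm g hg 1 (by norm_num))
    have ht := of_allBelow invClass_all i hi
    have h2 : eqT (wdC i ++ wdC i) [] = true := B.neC (by
      rw [ev_append, ← hpi, ev_nil]; exact hsq g 1 (by norm_num)) (append_lt hl hl) (by simp)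
    unfold invClass at ht
    rw [h2, cond_true] at ht
    simp only [Bool.or_eq_true] at ht
    rcases ht with ((h | h) | h) | h
    · exfalso
      refine hne g 1 (by norm_num) 0 (by norm_num) (by norm_num) ?_
      rw [hpi, B.of_eq hl (by simp) h, hu.zero]; simp
    · exfalso
      refine hne g 1 (by norm_num) 4 (by norm_num) (by norm_num) ?_
      rw [hpi, B.of_eq hl (by simp) h, hg]; simp [LCof, fl]
    all_goals
      obtain ⟨c, hc, hce⟩ := List.any_eq_true.mp h
      have hcl := four_mem_lt (w := c) (by simp [hc])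
      refine ⟨ev L c * g, ?_, ?_⟩
      · rw [← HJT.conj_assoc, hg]; exact mul_inv_eq_iff_eq_mul.2 B.evC_mem
    · left
      have h' := B.of_eq (cjW_lt hcl hl) (by simp) hce
      rw [B.ev_cjW, ← hpi] at h'
      rw [← HJT.conj_assoc]; exact h'
    · right
      have h' := B.of_eq (cjW_lt hcl hl) (by simp) hce
      rw [B.ev_cjW, ← hpi] at h'
      rw [← HJT.conj_assoc]; exact h'
  -- the other two
  let v : Nat → G := fun m => g₁ * u m * g₁⁻¹
  have hv : Coord v :=
    ⟨fun i hi j hj => hprod g₁ i hi j hj, fun i hi h => hu.inj i hi (conj_eq_one_iff.1 h)⟩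
  obtain ⟨c, hcl, hc⟩ : ∃ c : List Nat, (∀ l ∈ c, l < 10) ∧ ∀ k < 4, ∃ a < 16,
      ev L c * v (2 ^ k) * (ev L c)⁻¹ = u a := by
    rcases hg1 with h | h
    · exact B.sixteen_conj (by simp) (fun w hw => four_mem_lt (by simp [hw]))
        (fun w hw => four_mem_lt (by simp [hw])) candB_all sixteenB hv h hg4
    · exact B.sixteen_conj (by simp) (fun w hw => four_mem_lt (by simp [hw]))
        (fun w hw => four_mem_lt (by simp [hw])) candW_all sixteenW hv h hg4
  have hcz : ev L c * z * (ev L c)⁻¹ = z := mul_inv_eq_iff_eq_mul.2 B.evC_mem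
  obtain ⟨a0, ha0, e0⟩ := hc 0 (by norm_num)
  obtain ⟨a1, ha1, e1⟩ := hc 1 (by norm_num)
  obtain ⟨a3, ha3, e3⟩ := hc 3 (by norm_num)
  have e2 : ev L c * g₁ * u 4 * (ev L c * g₁)⁻¹ = u 1 := by rw [← HJT.conj_assoc, hg4, hcz, u1]
  have hall : ∀ a ∈ [a0, a1, 1, a3], a < 16 := by simp [ha0, ha1, ha3]
  refine ⟨ev L c * g₁, [a0, a1, 1, a3], rfl, hall, hu.actU_of_basis hall fun k hk => ?_, rfl⟩
  interval_cases k
  · exact (HJT.conj_assoc _ _ _).symm.trans e0
  · exact (HJT.conj_assoc _ _ _).symm.trans e1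
  · exact e2
  · exact (HJT.conj_assoc _ _ _).symm.trans e3

theorem norm_base (A : Base z b S w x y) :
    ActU (uC z b S w x) x imX ∧ ActU (uC z b S w x) y imY ∧ ActU (uC z b S w x) (b 1 * b 2) imD := by
  have B := A.core
  have hu := B.uC_coord
  have hD : ∀ k < 4, sameT TC.Tb 10 (cjW [7] (vecW (2 ^ k))) (vecW (imX.getD k 0)) = true ∧
      sameT TC.Tb 10 (cjW [1, 2] (vecW (2 ^ k))) (vecW (imD.getD k 0)) = true := fun k hk => by
    have := List.all_eq_true.mp vec_act k (List.mem_range.mpr hk)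
    rwa [Bool.and_eq_true] at this
  refine ⟨hu.actU_of_basis (by decide) fun k hk => ?_, hu.actU_of_basis (by decide) fun k hk => ?_,
    hu.actU_of_basis (by decide) fun k hk => ?_⟩
  · have h := B.eqC (hD k hk).1
    rw [B.ev_cjW] at h
    rw [uC, uC, ← h]; simp [LCof, fl]
  · have e1 : uC z b S w x 1 = z := B.uC_one
    have e2 : uC z b S w x 2 = b 0 := by simp [uC, vecW, LCof, fl]
    have e3 : uC z b S w x 3 = z * b 0 := by simp [uC, vecW, LCof, fl]
    have e4 : uC z b S w x 4 = w := by simp [uC, vecW, LCof, fl]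
    have e8 : uC z b S w x 8 = x * (w * x⁻¹) := by simp [uC, vecW, LCof, fl]
    interval_cases k
    · show y * uC z b S w x 1 * y⁻¹ = uC z b S w x 2
      rw [e1, e2, A.yz]
    · show y * uC z b S w x 2 * y⁻¹ = uC z b S w x 3
      rw [e2, e3, A.yb]
    · show y * uC z b S w x 4 * y⁻¹ = uC z b S w x 4
      rw [e4]; exact mul_inv_eq_iff_eq_mul.2 A.yw
    · show y * uC z b S w x 8 * y⁻¹ = uC z b S w x 8
      rw [e8]
      exact mul_inv_eq_iff_eq_mul.2
        ((show Commute y x from A.yx).mul_right ((show Commute y w from A.yw).mul_right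
          (show Commute y x from A.yx).inv_right)).eq
  · have h := B.eqC (hD k hk).2
    rw [B.ev_cjW] at h
    rw [uC, uC, ← h]; simp [LCof, fl]

/-- The fusing element with its action normalised. -/
theorem exists_fuse_std (A : Base z b S w x y) (hone : ∀ u v : G, orderOf u = 2 → orderOf v = 2 → IsConj u v) :
    ∃ h : G, ActU (uC z b S w x) h [4, 12, 1, 3] := by
  have B := A.core
  set L := LCof z b S w x with hL
  obtain ⟨aX, aY, aD⟩ := norm_base A
  obtain ⟨h₀, im₀, hlen, him, hact, hw0⟩ := exists_fuse B hone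
  have hact_word := @Core.act_word _ _ _ _ _ _ _ B
  set u := uC z b S w x with hu'
  have hu : Coord u := B.uC_coord
  have hlin : ∀ (im : List Nat), ∀ k < 4, lin4 im (2 ^ k) = im.getD k 0 := fun im k hk => by
    interval_cases k <;> simp [lin4] <;> rfl
  -- the image of `y`
  set e := h₀ * y * h₀⁻¹ with he
  have hu1 : u 1 = z := B.uC_one
  have h04 : h₀ * u 4 * h₀⁻¹ = u 1 := by
    have := hact 4 (by norm_num)
    rwa [show lin4 im₀ 4 = 1 from (hlin im₀ 2 (by norm_num)).trans hw0] at this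
  have hy4 : y * u 4 * y⁻¹ = u 4 := aY 4 (by norm_num)
  have hez : e * z = z * e := by
    refine mul_inv_eq_iff_eq_mul.1 ?_
    rw [← hu1, ← h04]
    calc e * (h₀ * u 4 * h₀⁻¹) * e⁻¹ = h₀ * (y * u 4 * y⁻¹) * h₀⁻¹ := by rw [he]; group
      _ = _ := by rw [hy4]
  obtain ⟨i, hi, hei, hl⟩ := B.exC hez
  have h3 : eqT (wdC i ++ wdC i ++ wdC i) [] = true := B.neC (by
    rw [ev_append, ev_append, ← hei, ev_nil, he]
    calc h₀ * y * h₀⁻¹ * (h₀ * y * h₀⁻¹) * (h₀ * y * h₀⁻¹) = h₀ * y ^ 3 * h₀⁻¹ := by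
          simp [pow_succ, mul_assoc]
      _ = 1 := by rw [A.y3]; group) (append_lt (append_lt hl hl) hl) (by simp)
  have hnorm : ([1, 2, 4, 8].all fun m => inU (cjW (wdC i) (vecW m))) = true := by
    refine List.all_eq_true.mpr fun m hm => ?_
    have hm' : m < 16 := by simp at hm; omega
    obtain ⟨p, hp, hpm⟩ := hu.act_surj him hact hm'
    have h1 := hact p hp
    rw [hpm] at h1
    have h2 : e * u m * e⁻¹ = u (lin4 im₀ (lin4 imY p)) := by
      rw [← h1, he, ← hact _ (lin4_lt imY (by decide) p), ← aY p hp]; group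
    refine List.any_eq_true.mpr ⟨_, List.mem_range.mpr (lin4_lt im₀ him (lin4 imY p)),
      B.neC ?_ (cjW_lt hl (vec_lt _)) (vec_lt _)⟩
    rw [B.ev_cjW, ← hei]; exact h2
  have ht := of_allBelow normThree_all i hi
  unfold normThree at ht
  rw [h3, hnorm, cond_true, cond_true, Bool.or_eq_true] at ht
  rcases ht with ht | ht
  · exfalso
    have h' := B.of_eq hl (by simp) ht
    rw [← hei, ev_nil, he] at h'
    refine A.core.bne ?_
    have hy1 : y = 1 := conj_eq_one_iff.1 h'
    rw [← A.yz, hy1]; group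
  obtain ⟨c, hc, hce⟩ := List.any_eq_true.mp ht
  have hcl := mem_lt (w := c) (by simp [hc])
  obtain ⟨imc, hlc, himc, hactc⟩ := hact_word hcl (List.all_eq_true.mp conjThreeD_norm c hc)
  set C₁ := ev L c with hC₁
  have hc1 : lin4 imc 1 = 1 := by
    refine hu.eq_iff (lin4_lt imc himc 1) (by norm_num) ?_
    rw [← hactc 1 (by norm_num), hu1]; exact mul_inv_eq_iff_eq_mul.2 B.evC_mem
  set h := C₁ * h₀ with hh
  have hacth : ActU u h (comp4 imc im₀) := hu.actU_mul himc him hlen hactc hact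
  have himh : ∀ a ∈ comp4 imc im₀, a < 16 := fun a ha => by
    obtain ⟨q, -, rfl⟩ := List.mem_map.1 ha; exact lin4_lt imc himc q
  obtain ⟨A0, A1, A3, hA0, hA1, hA3, hshape⟩ : ∃ A0 A1 A3, A0 < 16 ∧ A1 < 16 ∧ A3 < 16 ∧
      comp4 imc im₀ = [A0, A1, 1, A3] := by
    match im₀, hlen, hw0 with
    | [p, q, r, t], _, hw0 =>
      simp at hw0; subst hw0
      refine ⟨_, _, _, lin4_lt imc himc p, lin4_lt imc himc q, lin4_lt imc himc t, ?_⟩
      simp [comp4, hc1]
  rw [hshape] at hacth himh
  obtain ⟨imx, himx, haX, hhy, hxcases⟩ : ∃ imx, (∀ a ∈ imx, a < 16) ∧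
      (∃ g, ActU u g imx ∧ g = h * y * h⁻¹) ∧ True ∧ (imx = imX ∨ imx = comp4 imX imX) := by
    have hxx : x⁻¹ = x * x := inv_eq_of_mul_eq_one_right (by rw [← mul_assoc]; exact B.small.2.2.2.2.2.1)
    rw [Bool.or_eq_true] at hce
    rcases hce with hh' | hh' <;> have h' := B.of_eq (cjW_lt hcl hl) (by simp) hh' <;>
      rw [B.ev_cjW, ← hei, ← hL, ← hC₁] at h'
    · refine ⟨imX, by decide, ⟨x, aX, ?_⟩, trivial, Or.inl rfl⟩
      have : C₁ * e * C₁⁻¹ = x := by simpa [hL, LCof, fl] using h'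
      rw [← this, he, hh]; group
    · refine ⟨comp4 imX imX, by decide, ⟨x⁻¹, hxx ▸ hu.actU_mul (by decide) (by decide) rfl aX aX, ?_⟩,
        trivial, Or.inr rfl⟩
      have : C₁ * e * C₁⁻¹ = x⁻¹ := by simpa [hL, LCof, fl] using h'
      rw [← this, he, hh]; group
  clear hhy
  obtain ⟨g, hgact, hge⟩ := haX
  have hrel : ((List.range 4).all fun k =>
      lin4 imx ([A0, A1, 1, A3].getD k 0) == lin4 [A0, A1, 1, A3] (imY.getD k 0)) = true := by
    refine List.all_eq_true.mpr fun k hk => ?_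
    have hk' := List.mem_range.mp hk
    refine beq_iff_eq.2 (hu.eq_iff (lin4_lt imx himx _) (lin4_lt _ himh _) ?_)
    have hpk : 2 ^ k < 16 := by interval_cases k <;> norm_num
    rw [← hgact _ (getD_lt _ himh k), ← hacth _ (getD_lt imY (by decide) k), ← hlin _ k hk', ← hlin _ k hk',
      ← hacth _ hpk, ← aY _ hpk, hge]
    group
  have hpass : hTest [A0, A1, 1, A3] imx = true := by
    have := List.all_eq_true.mp (List.all_eq_true.mp (List.all_eq_true.mp hTest_all A0 (List.mem_range.mpr hA0))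
      A1 (List.mem_range.mpr hA1)) A3 (List.mem_range.mpr hA3)
    rw [Bool.and_eq_true] at this
    rcases hxcases with rfl | rfl
    exacts [this.1, this.2]
  unfold hTest at hpass
  rw [hrel, cond_true] at hpass
  simp only [Bool.or_eq_true] at hpass
  rcases hpass with (hgood | hker) | hbad
  · have hxx : ActU u (x * x) (comp4 imX imX) := hu.actU_mul (by decide) (by decide) rfl aX aX
    have hmem := List.contains_iff_mem.mp hgood
    simp only [goodIm, List.mem_cons, List.not_mem_nil, or_false] at hmem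
    rcases hmem with e' | e' | e' <;> rw [e'] at hacth
    · exact ⟨h, hacth⟩
    · exact ⟨x * x * h, good_rot.1 ▸ hu.actU_mul (by decide) (by decide) rfl hxx hacth⟩
    · exact ⟨x * h, good_rot.2 ▸ hu.actU_mul (by decide) (by decide) rfl aX hacth⟩
  · exfalso
    obtain ⟨m, hm, hm'⟩ := List.any_eq_true.mp hker
    simp only [Bool.and_eq_true, bne_iff_ne, ne_eq, beq_iff_eq] at hm'
    exact hm'.1 (hu.act_inj hacth (List.mem_range.mp hm) hm'.2)
  · exfalso
    obtain ⟨r, -, hr⟩ := List.any_eq_true.mp hbad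
    simp only [Bool.and_eq_true, beq_iff_eq, Bool.not_eq_true'] at hr
    obtain ⟨hr1, hr2, hr3⟩ := hu.actU_ev (L := [x, y, b 1 * b 2, h]) (ims := [imX, imY, imD, [A0, A1, 1, A3]])
      rfl (by
        intro im him'
        simp only [List.mem_cons, List.not_mem_nil, or_false] at him'
        rcases him' with rfl | rfl | rfl | rfl
        exacts [⟨rfl, by decide⟩, ⟨rfl, by decide⟩, ⟨rfl, by decide⟩, ⟨rfl, himh⟩])
      (by
        intro l hl'
        simp at hl'
        interval_cases l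
        exacts [aX, aY, aD, hacth]) r
    have := B.act_stab hr2 hr3 hr1 hr.1
    rw [List.contains_iff_mem.mpr this] at hr
    exact Bool.noConfusion hr.2

/-- The subgroup of order sixteen, the element of order five and the element of order three centralising it. -/
theorem exists_four (A : Base z b S w x y) (hone : ∀ u v : G, orderOf u = 2 → orderOf v = 2 → IsConj u v) :
    ∃ (u : Nat → G) (t : G) (s : Bool), Four z x u t s := by
  have B := A.core
  set L := LCof z b S w x with hL
  have hcent := B.uC_cent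
  obtain ⟨aX, aY, aD⟩ := norm_base A
  obtain ⟨h, hh⟩ := exists_fuse_std A hone
  set u := uC z b S w x with hu'
  have hu : Coord u := B.uC_coord
  obtain ⟨b00, zz, zb, xz, xb, x3, -⟩ := B.small
  set c := x * x * y with hc
  have hactc : ActU u c [2, 3, 12, 4] := by
    have := hu.actU_mul (by decide) (by decide) rfl (hu.actU_mul (by decide) (by decide) rfl aX aX) aY
    rwa [show comp4 (comp4 imX imX) imY = [2, 3, 12, 4] from rfl] at this
  have hc3 : c ^ 3 = 1 := by
    have hcm : Commute (x * x) y := (show Commute x y from A.yx.symm).mul_left A.yx.symm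
    rw [hc, hcm.mul_pow, A.y3, mul_one]
    calc (x * x) ^ 3 = (x * x * x) * (x * x * x) := by simp [pow_succ, mul_assoc]
      _ = 1 := by rw [x3, one_mul]
  have ha5 : ActU u (x * y * (b 1 * b 2) * h) [10, 7, 2, 1] := by
    have := hu.actU_mul (by decide) (by decide) rfl
      (hu.actU_mul (by decide) (by decide) rfl (hu.actU_mul (by decide) (by decide) rfl aX aY) aD) hh
    rwa [show comp4 (comp4 (comp4 imX imY) imD) [4, 12, 1, 3] = [10, 7, 2, 1] from rfl] at this
  have ha2 : ActU u (x * y * h) [8, 4, 2, 1] := by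
    have := hu.actU_mul (by decide) (by decide) rfl (hu.actU_mul (by decide) (by decide) rfl aX aY) hh
    rwa [show comp4 (comp4 imX imY) [4, 12, 1, 3] = [8, 4, 2, 1] from rfl] at this
  obtain ⟨m5, hm5, hn⟩ := hu.actU_lift (by decide) (by decide) rfl rfl fpf_c hactc ha5 rfl hcent
  obtain ⟨m2, hm2, hτ⟩ := hu.actU_lift (by decide) (by decide) rfl rfl fpf_c hactc ha2 rfl hcent
  set n := x * y * (b 1 * b 2) * h * u m5 with hndef
  set τ := x * y * h * u m2 with hτdef
  have actn : ActU u n [10, 7, 2, 1] := by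
    have := hu.actU_mul (by decide) (by decide) rfl ha5 (hu.actU_self hm5)
    rwa [show comp4 [10, 7, 2, 1] [1, 2, 4, 8] = [10, 7, 2, 1] from rfl] at this
  have actτ : ActU u τ [8, 4, 2, 1] := by
    have := hu.actU_mul (by decide) (by decide) rfl ha2 (hu.actU_self hm2)
    rwa [show comp4 [8, 4, 2, 1] [1, 2, 4, 8] = [8, 4, 2, 1] from rfl] at this
  have trivC : ∀ (g : G), ActU u g [1, 2, 4, 8] → c * g = g * c → g = 1 := by
    intro g hg hgc
    obtain ⟨i, hi, rfl⟩ := hu.trivial_act (by decide) hg hcent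
    have h1 := hactc i hi
    rw [hgc] at h1
    have h2 : lin4 [2, 3, 12, 4] i = i := by
      refine (hu.eq_iff hi (lin4_lt _ (by decide) i) ?_).symm
      rw [← h1]; group
    rw [fixed_c i hi h2, hu.zero]
  have hn5 : n ^ 5 = 1 := by
    refine trivC _ ?_ (((show Commute c n from hn).pow_right 5).eq)
    have h2 := hu.actU_mul (by decide) (by decide) rfl actn actn
    have h3 := hu.actU_mul (by decide) (by decide) rfl h2 actn
    have h4 := hu.actU_mul (by decide) (by decide) rfl h3 actn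
    have h5 := hu.actU_mul (by decide) (by decide) rfl h4 actn
    rw [show comp4 (comp4 (comp4 (comp4 [10, 7, 2, 1] [10, 7, 2, 1]) [10, 7, 2, 1]) [10, 7, 2, 1]) [10, 7, 2, 1] =
      [1, 2, 4, 8] from rfl] at h5
    simpa [pow_succ, mul_assoc] using h5
  have hτ2 : τ * τ = 1 := by
    refine trivC _ ?_ (((show Commute c τ from hτ).mul_right hτ).eq)
    have h2 := hu.actU_mul (by decide) (by decide) rfl actτ actτ
    rwa [show comp4 [8, 4, 2, 1] [8, 4, 2, 1] = [1, 2, 4, 8] from rfl] at h2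
  have hinv : τ * n * τ * n = 1 := by
    refine trivC _ ?_ ((((show Commute c τ from hτ).mul_right hn).mul_right hτ).mul_right hn).eq
    have h2 := hu.actU_mul (by decide) (by decide) rfl
      (hu.actU_mul (by decide) (by decide) rfl (hu.actU_mul (by decide) (by decide) rfl actτ actn) actτ) actn
    rwa [show comp4 (comp4 (comp4 [8, 4, 2, 1] [10, 7, 2, 1]) [8, 4, 2, 1]) [10, 7, 2, 1] = [1, 2, 4, 8]
      from rfl] at h2
  have hn1 : n ≠ 1 := fun e => by
    have := actn 1 (by norm_num)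
    rw [e] at this
    have h' := hu.eq_iff (by norm_num : 1 < 16) (lin4_lt [10, 7, 2, 1] (by decide) 1) (by simpa using this)
    revert h'; decide
  have hτ1 : τ ≠ 1 := fun e => by
    have := actτ 1 (by norm_num)
    rw [e] at this
    have h' := hu.eq_iff (by norm_num : 1 < 16) (lin4_lt [8, 4, 2, 1] (by decide) 1) (by simpa using this)
    revert h'; decide
  have hc1 : c ≠ 1 := fun e => by
    have := hactc 1 (by norm_num)
    rw [e] at this
    have h' := hu.eq_iff (by norm_num : 1 < 16) (lin4_lt [2, 3, 12, 4] (by decide) 1) (by simpa using this)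
    revert h'; decide
  obtain ⟨k, hk⟩ := isConj_iff.1 (hone τ z (orderOf_two_iff.2 ⟨hτ2, hτ1⟩) (orderOf_two_iff.2 ⟨zz, B.zne⟩))
  have hcz : k * c * k⁻¹ * z = z * (k * c * k⁻¹) := by
    have := HJT.commute_conj k hτ
    rwa [hk] at this
  obtain ⟨i, hi, hei, hl⟩ := B.exC hcz
  have h3 : eqT (wdC i ++ wdC i ++ wdC i) [] = true := B.neC (by
    rw [ev_append, ev_append, ← hei, ev_nil]
    calc k * c * k⁻¹ * (k * c * k⁻¹) * (k * c * k⁻¹) = k * c ^ 3 * k⁻¹ := by
          simp [pow_succ, mul_assoc]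
      _ = 1 := by rw [hc3]; group) (append_lt (append_lt hl hl) hl) (by simp)
  have ht := of_allBelow threeTest_all i hi
  unfold threeTest at ht
  rw [h3, cond_true, Bool.or_eq_true] at ht
  rcases ht with ht | ht
  · exfalso
    have h' := B.of_eq hl (by simp) ht
    rw [← hei, ev_nil] at h'
    exact hc1 (conj_eq_one_iff.1 h')
  obtain ⟨p, hp, hpe⟩ := List.any_eq_true.mp ht
  have hpl := mem_lt (w := p) (by simp [hp])
  set K := ev L p * k with hK
  have hKz : K * τ * K⁻¹ = z := by
    rw [hK, ← HJT.conj_assoc, hk]; exact mul_inv_eq_iff_eq_mul.2 B.evC_mem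
  have hKc : K * c * K⁻¹ = x ∨ K * c * K⁻¹ = x⁻¹ := by
    rw [Bool.or_eq_true] at hpe
    rcases hpe with hh' | hh' <;> have h' := B.of_eq (conj_lt p _ hpl hl) (by simp) hh' <;>
      rw [ev_append, ev_append, B.evC_inv, ← hei, ← hL] at h'
    · left; rw [hK, ← HJT.conj_assoc]; simpa [hL, LCof, fl] using h'
    · right; rw [hK, ← HJT.conj_assoc]; simpa [hL, LCof, fl] using h'
  have hnc : K * n * K⁻¹ * (K * c * K⁻¹) = K * c * K⁻¹ * (K * n * K⁻¹) := HJT.commute_conj K hn.symm
  have coordK : Coord fun i => K * u i * K⁻¹ :=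
    ⟨fun i hi j hj => by
      show K * u i * K⁻¹ * (K * u j * K⁻¹) = K * u (Nat.xor i j) * K⁻¹
      rw [← hu.mul i hi j hj]; group,
     fun i hi hh' => hu.inj i hi (conj_eq_one_iff.1 hh')⟩
  have centK : ∀ g, (∀ m ∈ [1, 2, 4, 8], g * (K * u m * K⁻¹) = K * u m * K⁻¹ * g) →
      ∃ i < 16, g = K * u i * K⁻¹ := by
    intro g hg
    obtain ⟨i, hi, hgi⟩ := hcent (K⁻¹ * g * K) fun m hm => by
      calc K⁻¹ * g * K * u m = K⁻¹ * (g * (K * u m * K⁻¹)) * K := by group
        _ = K⁻¹ * (K * u m * K⁻¹ * g) * K := by rw [hg m hm]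
        _ = _ := by group
    exact ⟨i, hi, by rw [← hgi]; group⟩
  have aZ : ActU (fun i => K * u i * K⁻¹) z [8, 4, 2, 1] := hKz ▸ actU_conj K actτ
  have hti : z * (K * n * K⁻¹) * z = (K * n * K⁻¹)⁻¹ := by
    rw [← hKz]
    refine eq_inv_of_mul_eq_one_left ?_
    calc K * τ * K⁻¹ * (K * n * K⁻¹) * (K * τ * K⁻¹) * (K * n * K⁻¹) = K * (τ * n * τ * n) * K⁻¹ := by group
      _ = 1 := by rw [hinv]; group
  have ht5 : (K * n * K⁻¹) ^ 5 = 1 := by rw [conj_pow, hn5]; group
  have htne : K * n * K⁻¹ ≠ 1 := fun e => hn1 (conj_eq_one_iff.1 e)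
  rcases hKc with e | e <;> rw [e] at hnc
  · exact ⟨_, K * n * K⁻¹, true, coordK, centK, aZ, e ▸ actU_conj K hactc, actU_conj K actn, hnc, hti, ht5, htne⟩
  · refine ⟨_, K * n * K⁻¹, false, coordK, centK, aZ, ?_, actU_conj K actn, ?_, hti, ht5, htne⟩
    · have h2 := coordK.actU_mul (by decide) (by decide) rfl (actU_conj K hactc) (actU_conj K hactc)
      rw [e, show comp4 [2, 3, 12, 4] [2, 3, 12, 4] = [3, 1, 8, 12] from rfl] at h2
      rwa [show x⁻¹ * x⁻¹ = x from by
        calc x⁻¹ * x⁻¹ = (x * x * x)⁻¹ * x := by group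
          _ = x := by rw [x3]; group] at h2
    · simpa using (show Commute (K * n * K⁻¹) x⁻¹ from hnc).inv_right.eq

end CfsgLib.J3U
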