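import Cfsg.Agent.J3U.Amal

/-!
Finite facts about an elementary abelian subgroup of order sixteen in the centraliser of the involution.
-/

set_option autoImplicit false
set_option maxRecDepth 100000

namespace CfsgLib.J3U

open CfsgLib.Coset CfsgLib.J2U

/-- The element of the subgroup of order sixteen with given coordinates. -/
def vecW (i : Nat) : List Nat :=
  List.replicate (i % 2) 9 ++ List.replicate (i / 2 % 2) 0 ++ List.replicate (i / 4 % 2) 6 ++
    (List.replicate (i / 8 % 2) [7, 6, 8]).flatten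

/-- The linear map with given images of the basis. -/
def lin4 (im : List Nat) (i : Nat) : Nat :=
  Nat.xor (Nat.xor (Nat.xor (if i % 2 = 1 then im.getD 0 0 else 0) (if i / 2 % 2 = 1 then im.getD 1 0 else 0))
    (if i / 4 % 2 = 1 then im.getD 2 0 else 0)) (if i / 8 % 2 = 1 then im.getD 3 0 else 0)

/-- Images of the basis under the element of order three. -/
def imX : List Nat := [1, 2, 8, 12]

/-- Images of the basis under the element moving the involution. -/
def imY : List Nat := [2, 3, 4, 8]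

/-- Images of the basis under the product of two involutions. -/
def imD : List Nat := [1, 2, 5, 11]

/-- Images of the basis under the elements fixing the involution. -/
def imStab : List (List Nat) := [[1, 2, 4, 8], [1, 2, 8, 12], [1, 2, 5, 11], [1, 2, 12, 4], [1, 2, 9, 15], [1, 2, 11, 14], [1, 2, 13, 7], [1, 2, 15, 6], [1, 2, 14, 5], [1, 2, 10, 13], [1, 2, 7, 10], [1, 2, 6, 9]]

/-- Words which fix the involution and act on the subgroup in an impossible way. -/
def badWords : List (List Nat) := [[3, 2, 3, 2, 3], [3, 3], [3, 2, 1, 1, 3, 2, 3], [3, 3, 1], [3, 2, 1, 3, 2, 3], [1, 3, 3], [3, 3], [1, 3, 3], [3, 0, 3]]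

/-- Conjugators of an involution to one of two standard ones. -/
def conjToB : List (List Nat) := [[], [1], [5], [1, 5], [5, 6], [5, 7], [1, 5, 6], [1, 5, 7], [5, 7, 5], [1, 5, 7, 5]]

/-- Conjugators of an outer involution to the standard one. -/
def conjToW : List (List Nat) := [[], [1], [2], [3], [4], [5], [7], [8], [1, 2], [1, 3], [1, 4], [1, 5], [1, 7], [1, 8], [2, 5], [2, 7], [2, 8], [3, 5], [3, 7], [3, 8], [4, 5], [4, 7], [4, 8], [5, 6], [5, 7], [5, 8], [7, 5], [8, 5], [1, 2, 5], [1, 2, 7], [1, 2, 8], [1, 3, 5], [1, 3, 7], [1, 3, 8], [1, 4, 5], [1, 4, 7], [1, 4, 8], [1, 5, 6], [1, 5, 7], [1, 5, 8], [1, 7, 5], [1, 8, 5], [2, 5, 6], [2, 5, 7], [2, 5, 8], [2, 7, 5], [2, 8, 5], [3, 5, 6], [3, 5, 7], [3, 5, 8], [3, 7, 5], [3, 8, 5], [4, 5, 6], [4, 5, 7], [4, 5, 8], [4, 7, 5], [4, 8, 5], [5, 6, 8], [5, 7, 5], [5, 7, 6], [7, 5, 7], [7, 5, 8], [1, 2, 5, 6], [1, 2, 5, 7], [1, 2, 5, 8], [1, 2, 7, 5], [1, 2, 8, 5], [1, 3, 5, 6], [1, 3, 5, 7], [1, 3, 5, 8], [1, 3, 7, 5], [1, 3, 8, 5], [1,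 4, 5, 6], [1, 4, 5, 7], [1, 4, 5, 8], [1, 4, 7, 5], [1, 4, 8, 5], [1, 5, 6, 8], [1, 5, 7, 5], [1, 5, 7, 6], [1, 7, 5, 7], [1, 7, 5, 8], [1, 8, 5, 6], [1, 8, 5, 7], [2, 5, 6, 8], [2, 5, 7, 5], [2, 5, 7, 6], [2, 7, 5, 7], [2, 7, 5, 8], [2, 8, 5, 6], [2, 8, 5, 7], [3, 5, 7, 5], [3, 5, 7, 6], [3, 7, 5, 7], [4, 5, 7, 5], [4, 5, 7, 6], [4, 7, 5, 7], [5, 6, 8, 5], [1, 2, 5, 6, 8], [1, 2, 5, 7, 5], [1, 2, 5, 7, 6], [1, 2, 7, 5, 7], [1, 2, 7, 5, 8], [1, 3, 5, 6, 8], [1, 3, 5, 7, 5], [1, 3, 5, 7, 6], [1, 3, 7, 5, 7], [1, 3, 7, 5, 8], [1, 4, 5, 6, 8], [1, 4, 5, 7, 5], [1, 4, 5, 7, 6], [1, 4, 7, 5, 7], [1, 4, 7, 5, 8], [1, 5, 6, 8, 5], [1, 5, 7, 5, 7], [1, 5, 7, 6, 8], [2, 5, 6, 8, 5], [1, 2, 5, 6, 8, 5], [1, 3, 5, 6, 8, 5], [1, 4, 5, 6, 8, 5]]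

/-- Involutions commuting with the first involution. -/
def candB : List (List Nat) := [[6], [0, 6], [6, 9], [0, 6, 9], [1, 2, 6], [2, 1, 6], [3, 4, 6], [4, 3, 6], [7, 6, 8], [8, 6, 7], [0, 7, 6, 8], [0, 8, 6, 7], [7, 6, 8, 9], [8, 6, 7, 9], [0, 7, 6, 8, 9], [0, 8, 6, 7, 9], [1, 3, 8, 6, 7], [1, 4, 7, 6, 8], [2, 3, 7, 6, 8], [2, 4, 8, 6, 7], [3, 1, 8, 6, 7], [3, 2, 7, 6, 8], [4, 1, 7, 6, 8], [4, 2, 8, 6, 7]]

/-- Involutions commuting with the outer involution. -/
def candW : List (List Nat) := [[0], [0, 6], [0, 9], [0, 6, 9], [7, 6, 8], [8, 6, 7], [0, 7, 6, 8], [0, 8, 6, 7], [7, 6, 8, 9], [8, 6, 7, 9], [0, 7, 6, 8, 9], [0, 8, 6, 7, 9]]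

/-- Conjugators into the standard subgroup. -/
def intoB : List (List Nat) := [[], [1]]

/-- The same. -/
def intoW : List (List Nat) := [[]]

/-- Membership in the subgroup. -/
noncomputable def inU (u : List Nat) : Bool := (List.range 16).any fun m => eqT u (vecW m)

/-- Conjugates of a word. -/
def cjW (c u : List Nat) : List Nat := c ++ u ++ invC c

/-- An involution is conjugate to one of three. -/
noncomputable def invClass (i : Nat) : Bool :=
  cond (eqT (wdC i ++ wdC i) [])
    (eqT (wdC i) [] || eqT (wdC i) [9] || conjToB.any (fun c => eqT (cjW c (wdC i)) [0]) ||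
      conjToW.any (fun c => eqT (cjW c (wdC i)) [6])) true

/-- The involutions commuting with a given one. -/
noncomputable def candTest (p : List Nat) (cand : List (List Nat)) (i : Nat) : Bool :=
  cond (eqT (wdC i ++ wdC i) []) (cond (eqT (wdC i ++ p) (p ++ wdC i))
    (eqT (wdC i) [] || eqT (wdC i) [9] || eqT (wdC i) p || eqT (wdC i) ([9] ++ p) ||
      cand.any fun q => eqT (wdC i) q) true) true

/-- Subgroups of order sixteen containing two given involutions are conjugate to the standard one. -/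
noncomputable def sixteenTest (p : List Nat) (cand into : List (List Nat)) : Bool :=
  allList (fun q => allList (fun r =>
    cond (eqT (q ++ r) (r ++ q))
      (eqT r q || eqT r ([9] ++ q) || eqT r (p ++ q) || eqT r ([9] ++ p ++ q) ||
        into.any fun c => inU (cjW c p) && inU (cjW c q) && inU (cjW c r) && inU (cjW c [9])) true) cand) cand

/-- An element commuting with the whole subgroup lies in it. -/
noncomputable def centTest (i : Nat) : Bool :=
  cond ([1, 2, 4, 8].all fun m => eqT (wdC i ++ vecW m) (vecW m ++ wdC i)) (inU (wdC i)) true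

/-- An element normalising the subgroup acts in one of twelve ways. -/
noncomputable def stabTest (i : Nat) : Bool :=
  cond ([1, 2, 4, 8].all fun m => inU (cjW (wdC i) (vecW m)))
    (imStab.any fun im => ((List.range 4).all fun k => eqT (cjW (wdC i) (vecW (2 ^ k))) (vecW (im.getD k 0)))) true

/-- An element of order three normalising the subgroup is conjugate to the fixed one by an element normalising it. -/
noncomputable def normThree (i : Nat) : Bool :=
  cond (eqT (wdC i ++ wdC i ++ wdC i) []) (cond ([1, 2, 4, 8].all fun m => inU (cjW (wdC i) (vecW m)))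
    (eqT (wdC i) [] || conjThreeD.any fun c =>
      eqT (cjW c (wdC i)) [7] || eqT (cjW c (wdC i)) [8]) true) true

theorem invClass_all : allBelow 11 1920 invClass = true := by decide +kernel

theorem candB_all : allBelow 11 1920 (candTest [0] candB) = true := by decide +kernel

theorem candW_all : allBelow 11 1920 (candTest [6] candW) = true := by decide +kernel

theorem sixteenB : sixteenTest [0] candB intoB = true := by decide +kernel

theorem sixteenW : sixteenTest [6] candW intoW = true := by decide +kernel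

theorem centTest_all : allBelow 11 1920 centTest = true := by decide +kernel

theorem stabTest_all : allBelow 11 1920 stabTest = true := by decide +kernel

theorem normThree_all : allBelow 11 1920 normThree = true := by decide +kernel

theorem conjThreeD_norm : (conjThreeD.all fun c =>
    [1, 2, 4, 8].all fun m => inU (cjW c (vecW m))) = true := by decide +kernel

theorem vec_mul : ((List.range 16).all fun i => (List.range 16).all fun j =>
    sameT TC.Tb 10 (vecW i ++ vecW j) (vecW (Nat.xor i j))) = true := by decide +kernel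

theorem vec_inj : ((List.range 16).all fun i => i == 0 || !eqT (vecW i) []) = true := by decide +kernel

theorem vec_act : ((List.range 4).all fun k =>
    sameT TC.Tb 10 (cjW [7] (vecW (2 ^ k))) (vecW (imX.getD k 0)) &&
    sameT TC.Tb 10 (cjW [1, 2] (vecW (2 ^ k))) (vecW (imD.getD k 0))) = true := by decide +kernel

end CfsgLib.J3U
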