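import Cfsg.Agent.J3Local.Class
import Cfsg.Agent.J3U.Bound

/-!
The twelve letters inside the presented group of order 50232960, and back.
-/

set_option autoImplicit false
set_option maxRecDepth 100000

namespace CfsgLib.J3U

open CfsgLib.Coset CfsgLib.J2U CfsgLib.J3Local
open CfsgLib.Coset.J3 (P Lp)

/-- The twelve letters as words in the four generators. -/
def lpWords : List (List Nat) := [[1, 3, 1, 2, 0, 3, 1, 3, 0, 2, 3, 0, 3, 0, 3, 0, 2], [1, 0, 2, 3, 0, 1, 0, 2, 1, 0, 3, 2, 1, 2, 1], [1, 3, 0, 1, 0, 3, 2, 3, 0, 1, 0, 3, 1], [2, 0, 1, 0, 2, 1, 2, 3, 0, 3, 0, 3, 1, 0, 2, 3, 0, 1, 2, 3, 0, 3, 1, 2, 1, 0, 2, 1, 3, 2, 0, 1, 2, 3, 2, 0, 1, 0, 2, 1, 2, 3, 0, 3, 0, 3, 1, 0, 2, 3, 0, 1, 2, 3, 0, 3, 1, 2, 1, 0, 2, 1, 3, 2, 0, 1, 2, 3, 1, 3, 0, 1, 0, 3, 2, 3, 0, 1, 0, 3, 1, 3, 2, 1,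 0, 2, 3, 1, 2, 0, 1, 2, 1, 3, 0, 3, 2, 1, 0, 3, 2, 0, 1, 3, 0, 3, 0, 3, 2, 1, 2, 0, 1, 0, 2, 3, 2, 1, 0, 2, 3, 1, 2, 0, 1, 2, 1, 3, 0, 3, 2, 1, 0, 3, 2, 0, 1, 3, 0, 3, 0, 3, 2, 1, 2, 0, 1, 0, 2], [0, 1, 2, 3, 0, 3, 1, 2, 1, 0, 2, 1, 3, 2, 0, 1, 2, 3], [0, 1, 0, 3, 1, 0, 2, 3, 1, 3, 2, 1, 3, 0, 2, 3, 1], [3, 0, 2, 0, 1, 0, 3, 0, 3, 0, 3, 0, 1, 0, 2, 0, 3], [2, 0, 1, 0, 2, 1, 2, 3, 0, 3, 0, 3, 1, 0, 2, 3, 0, 1, 2, 3, 0, 3, 1, 2, 1, 0, 2, 1, 3, 2, 0, 1, 2, 3, 2, 0, 1, 0, 2, 1, 2, 3, 0, 3, 0, 3, 1, 0, 2, 3, 0, 1, 2, 3, 0, 3, 1, 2, 1, 0, 2, 1, 3, 2, 0, 1, 2, 3], [3, 2, 1, 0, 2, 3, 1, 2, 0, 1, 2, 1, 3, 0, 3, 2, 1, 0, 3, 2, 0, 1, 3, 0, 3, 0, 3, 2, 1, 2, 0, 1, 0, 2, 3, 2, 1, 0, 2, 3, 1, 2, 0, 1, 2, 1, 3, 0, 3, 2, 1, 0, 3, 2, 0, 1, 3, 0, 3, 0, 3, 2, 1, 2, 0, 1, 0, 2], [2, 0, 1, 0, 2, 1, 2,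 3, 0, 3, 0, 3, 1, 0, 2, 3], [3, 2, 0, 1, 3, 0, 3, 0, 3, 2, 1, 2, 0, 1, 0, 2], [0]]

/-- The four generators as words in the twelve letters. -/
def backW : List (List Nat) := [[11], [0, 5, 8, 5, 0, 7, 5, 0, 8, 5, 7, 5, 0, 8, 9, 5, 6, 10, 5, 9, 5, 9, 4, 5, 10, 5, 10, 5, 9], [10, 5, 9, 5, 6, 9, 5, 6, 10, 5, 10, 5, 9], [8, 5, 0, 5, 8, 5, 9, 5, 6, 9, 5, 9, 5, 7, 10, 5, 10]]

theorem model_rels : ([0, 3].all fun n => (relsJ n).all fun r => sameW (subW lpWords r) []) = true := by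
  decide +kernel

theorem model_back : ((List.range 4).all fun i => sameW (subW lpWords (backW.getD i [])) [i]) = true := by
  decide +kernel

/-- The twelve elements of the presented group. -/
noncomputable def LJ : List P := lpWords.map (ev Lp)

theorem len_LJ : LJ.length = 12 := rfl

theorem LJ_rels {n : Nat} (hn : n = 0 ∨ n = 3) : ∀ r ∈ relsJ n, ev LJ r = 1 := by
  intro r hr
  rw [LJ, ← ev_subW, sameW_eq (List.all_eq_true.mp (List.all_eq_true.mp model_rels n (by simp; exact hn)) r hr),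
    ev_nil]

theorem LJ_back (i : Fin 4) : ev LJ (backW.getD i.val []) = fl Lp i.val := by
  rw [LJ, ← ev_subW, sameW_eq (List.all_eq_true.mp model_back i.val (List.mem_range.mpr i.isLt)), ev_cons,
    ev_nil, mul_one]

end CfsgLib.J3U
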