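import Cfsg.Agent.J3U.Collapse
import Cfsg.Agent.J3U.Model
import Cfsg.Agent.Coset.J3.Order

/-!
The group of order 50232960 maps into the group with the given centraliser, centraliser and fusing element in the
image.
-/

set_option autoImplicit false
set_option linter.style.haveILetI false
set_option maxRecDepth 100000

namespace CfsgLib.J3U

open CfsgLib.Coset CfsgLib.J2U
open CfsgLib.Coset.J3 (P Lp)

universe uH

/-- Conjugation by the element inverting the element of order three, on letters. -/
def sigR (l : Nat) : Nat := ([0, 2, 1, 5, 6, 3, 4, 8, 7] : List Nat).getD l l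

theorem sig_check : sameT TR2.Tb 9 ((twR 2).map sigR ++ twR 2) [] = true ∧ (twR 2).all (fun l => l ∈ [3, 4, 5, 6]) = true := by
  decide +kernel

theorem invX_check : sameT TC.Tb 10 (subW [[9], [5], [7], [8]] invX) [5, 8, 5, 7, 5, 8, 5, 7, 5, 7] = true ∧
    sameT TC.Tb 10 ([5, 8, 5, 7, 5, 8, 5, 7, 5] ++ [5, 8, 5, 7, 5, 8, 5, 7, 5]) [] = true := by
  decide +kernel

/-- An element of the centraliser that could generate a normal subgroup of order two or three. -/
noncomputable def kerTest (i : Nat) : Bool :=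
  cond (eqT (wdC i ++ wdC i) [] || eqT (wdC i ++ wdC i ++ wdC i) [])
    (cond (eqT ([5] ++ wdC i ++ [5]) (wdC i) || eqT ([5] ++ wdC i ++ [5]) (wdC i ++ wdC i))
      (cond (eqT (wdC i ++ [0]) ([0] ++ wdC i)) (cond (eqT (wdC i ++ [7]) ([7] ++ wdC i))
        (eqT (wdC i) [] || eqT (wdC i) [9]) true) true) true) true

theorem kerTest_all : allBelow 11 1920 kerTest = true := by decide +kernel

theorem small_auto {X : Type*} [Group X] {K : Subgroup X} [Finite K] (hK : Nat.card K ≤ 3) {g : X} (hg : g ∈ K)
    (hg1 : g ≠ 1) {c : X} (hn : ∀ k ∈ K, c * k * c⁻¹ ∈ K) :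
    c * g * c⁻¹ = g ∨ (c * g * c⁻¹ = g * g ∧ g * g ≠ g ∧ g * g * g = 1) := by
  have h3 : orderOf g ≤ 3 := le_trans (Nat.le_of_dvd Nat.card_pos (Subgroup.orderOf_dvd_natCard K hg)) hK
  have hz : Subgroup.zpowers g ≤ K := Subgroup.zpowers_le.2 hg
  have hfin : IsOfFinOrder g := by
    have h := isOfFinOrder_of_finite (⟨g, hg⟩ : K)
    exact (Submonoid.isOfFinOrder_coe (H := K.toSubmonoid) (x := ⟨g, hg⟩)).2 h
  have h0 := hfin.orderOf_pos
  have h1 : orderOf g ≠ 1 := fun h => hg1 (orderOf_eq_one_iff.1 h)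
  have heq : Subgroup.zpowers g = K := by
    refine Subgroup.eq_of_le_of_card_ge hz ?_
    rw [Nat.card_zpowers]
    have hd := Subgroup.orderOf_dvd_natCard K hg
    obtain ⟨m, hm⟩ := hd
    have : Nat.card K = orderOf g := by
      rcases m with _ | _ | m
      · rw [mul_zero] at hm; exact absurd hm Nat.card_pos.ne'
      · simpa using hm
      · exfalso
        have h2 : 2 ≤ orderOf g := by omega
        nlinarith
    omega
  obtain ⟨j, hj, hje⟩ : ∃ j < orderOf g, g ^ j = c * g * c⁻¹ := by
    have hm := hn g hg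
    rw [← heq] at hm
    classical
    have := hfin.mem_zpowers_iff_mem_range_orderOf.1 hm
    obtain ⟨j, hj, hje⟩ := Finset.mem_image.1 this
    exact ⟨j, Finset.mem_range.1 hj, hje⟩
  have hj3 : j < 3 := lt_of_lt_of_le hj h3
  interval_cases j
  · exfalso
    rw [pow_zero] at hje
    exact hg1 (conj_eq_one_iff.1 hje.symm)
  · exact Or.inl (by rw [← hje, pow_one])
  · right
    have ho : orderOf g = 3 := by omega
    refine ⟨by rw [← hje, pow_two], fun h => hg1 (mul_eq_left.1 h), ?_⟩
    rw [← pow_orderOf_eq_one g, ho]; simp [pow_succ]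

variable {G : Type uH} [Group G] [Finite G] {z : G} {b : Fin 5 → G} {S w x y : G}

theorem Amal.invRel (A : Amal z b S w x y)
    (hq : ev (LRof z b y (vEl z b S w x y) x) (qPow 4 2) = 1)
    (hcard : Nat.card (Subgroup.centralizer ({x} : Set G)) = 1080) :
    ev (LGof z b S w x y) CfsgLib.J3U.invRel = 1 := by
  have B := A.base.core
  set LR := LRof z b y (vEl z b S w x y) x with hLR
  set LG := LGof z b S w x y with hLG
  set LC := LCof z b S w x with hLC
  set g := gEl z b S w x with hgdef
  obtain ⟨T, -, -⟩ := A.centR checks_two.{uH} hq hcard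
  have hiv := inv_of_rels (show LG.length = 12 from rfl) A.relA relsA_inv ivG_out
  have hg2 : g * g = 1 := by
    have := B.eqC invX_check.2
    rw [ev_append, ev_nil] at this
    exact this
  have hgi : g⁻¹ = g := inv_eq_of_mul_eq_one_right hg2
  have hsig : ∀ l ∈ ([3, 4, 5, 6] : List Nat), g * fl LR l * g⁻¹ = fl LR (sigR l) := by
    have h3 : g * y * g⁻¹ = vEl z b S w x y := rfl
    have h5 : g * vEl z b S w x y * g⁻¹ = y := by
      rw [← h3, hgi, show g * (g * y * g) * g = (g * g) * y * (g * g) by group, hg2, one_mul, mul_one]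
    intro l hl
    simp only [List.mem_cons, List.not_mem_nil, or_false] at hl
    rcases hl with rfl | rfl | rfl | rfl
    · exact h3
    · show g * y⁻¹ * g⁻¹ = (vEl z b S w x y)⁻¹
      rw [← h3]; group
    · exact h5
    · show g * (vEl z b S w x y)⁻¹ * g⁻¹ = y⁻¹
      conv_rhs => rw [← h5]
      group
  have hsigW : ∀ r : List Nat, (∀ l ∈ r, l ∈ ([3, 4, 5, 6] : List Nat)) →
      g * ev LR r * g⁻¹ = ev LR (r.map sigR) := by
    intro r
    induction r with
    | nil => intro _; simp
    | cons l r ih =>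
      intro h
      rw [List.map_cons, ev_cons, ev_cons, ← hsig l (h l (by simp)), ← ih fun m hm => h m (by simp [hm])]
      group
  set t := ev LR (twR 2) with ht
  have hgt : g * t * g⁻¹ * t = 1 := by
    rw [ht, hsigW _ (fun l hl => by simpa using List.all_eq_true.mp sig_check.2 l hl), ← ev_append,
      ev_eq_of_sameT T (by norm_num) (show LR.length = 9 from rfl) sig_check.1, ev_nil]
  have htx : t * x = x * t := Subgroup.mem_centralizer_singleton_iff.1 (A.mem_centR _)
  have hk : ∀ r : List Nat, (∀ l ∈ r, l < 4) →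
      ev LG (subW kG r) = ev LC (subW [[9], [5], [7], [8]] r) := by
    intro r
    induction r with
    | nil => simp [subW]
    | cons l r ih =>
      intro h
      have e : ∀ (ws : List (List Nat)), subW ws (l :: r) = ws.getD l [] ++ subW ws r := fun ws => rfl
      rw [e, e, ev_append, ev_append, ih fun m hm => h m (by simp [hm])]
      congr 1
      have := h l (by simp)
      interval_cases l <;> simp [kG, hLG, hLC, LGof, LCof, fl]
  set i := ev LC (subW [[9], [5], [7], [8]] invX) with hi
  have hi_eq : i = g * x := by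
    rw [hi, hLC, B.eqC invX_check.1, show ([5, 8, 5, 7, 5, 8, 5, 7, 5, 7] : List Nat) =
      [5, 8, 5, 7, 5, 8, 5, 7, 5] ++ [7] from rfl, ev_append]
    simp [hgdef, gEl, LCof, fl]
  have hT : ev LG (tG 2) = t := by rw [tG, hLG, A.ev_expR]
  have happ : ∀ u v : List Nat, subW kG (u ++ v) = subW kG u ++ subW kG v := fun u v => by simp [subW]
  have hrev : ev LG (subW kG (invX.map ivK).reverse) = i⁻¹ := by
    rw [hk _ (by decide), hi, ← B.evC_inv, hLC]
    refine B.eqC ?_
    decide +kernel
  rw [CfsgLib.J3U.invRel, happ, happ, happ, ev_append, ev_append, ev_append, hrev, hk _ (by decide), ← hi,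
    show subW kG [4] = tG 2 by simp [subW, kG], hT, hi_eq,
    show g * x * t * (g * x)⁻¹ * t = g * (x * t * x⁻¹) * g⁻¹ * t by group, ← htx, mul_inv_cancel_right]
  exact hgt

/-- The relators hold in the group. -/
theorem exists_relsJ (A : Amal z b S w x y) {u : Nat → G} {t : G} {s : Bool} (U : Four z x u t s) :
    ∃ n, (n = 0 ∨ n = 3) ∧ ∀ r ∈ relsJ n, ev (LGof z b S w x y) r = 1 := by
  obtain ⟨e, he, n, hn, hrel⟩ := exists_relsX A U
  obtain ⟨rfl, hn'⟩ := no_case A he hn hrel
  refine ⟨n, hn', fun r hr => ?_⟩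
  rcases List.mem_append.1 hr with h | h
  · exact hrel r h
  · rw [List.mem_singleton.1 h]
    refine A.invRel ?_ (centX A.base U).1
    rw [← A.ev_expR]
    exact hrel _ (by simp [relsX])

/-- The presented simple group inside the group. -/
theorem exists_hom (A : Amal z b S w x y) {u : Nat → G} {t : G} {s : Bool} (U : Four z x u t s) :
    ∃ φ : P →* G, Function.Injective φ ∧ Subgroup.centralizer ({z} : Set G) ≤ φ.range ∧ y ∈ φ.range := by
  classical
  have B := A.base.core
  obtain ⟨n, hn, hrel⟩ := exists_relsJ A U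
  set LG := LGof z b S w x y with hLG
  have hlen : LG.length = 12 := rfl
  let Γ := NumGr 12 (relsJ n)
  obtain ⟨hfin, hcard⟩ := bound (X := Γ) (L := numGens 12 (relsJ n)) hn length_numGens ev_numGens
  rw [closure_numGens] at hfin hcard
  haveI : Finite Γ := Finite.of_equiv _ Subgroup.topEquiv.toEquiv
  rw [Subgroup.card_top] at hcard
  let ψ : Γ →* P := numHom len_LJ (LJ_rels hn)
  let f : Γ →* G := numHom hlen hrel
  have hψ : Function.Surjective ψ := by
    rw [← MonoidHom.range_eq_top, eq_top_iff, ← J3.closure_Lp]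
    refine (Subgroup.closure_le _).mpr ?_
    intro v hv
    obtain ⟨i, -, rfl⟩ := List.mem_map.mp hv
    refine ⟨ev (numGens 12 (relsJ n)) (backW.getD i.val []), ?_⟩
    rw [numHom_ev, LJ_back, fl_numGens]
  have hfl : ∀ l, fl LG l ∈ f.range := fun l => ⟨_, numHom_fl hlen hrel l⟩
  have hevf : ∀ r, ev LG r ∈ f.range := fun r => ⟨_, numHom_ev hlen hrel r⟩
  have hy : y ∈ f.range := hfl 9
  have hC : Subgroup.centralizer ({z} : Set G) ≤ f.range := by
    intro c hc
    obtain ⟨i, -, hci, hl⟩ := B.exC (Subgroup.mem_centralizer_singleton_iff.1 hc)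
    rw [hci, ← subL_LGof z b S w x y, ev_subL hlen]
    exact hevf _
  have hK3 : Nat.card ψ.ker ≤ 3 := by
    have h := ψ.ker.card_mul_index
    rw [Subgroup.index_ker, MonoidHom.range_eq_top.2 hψ, Subgroup.card_top, J3.card_and_injective.1] at h
    omega
  set K := ψ.ker.map f with hK
  have hKc : Nat.card K ≤ 3 := by
    refine le_trans ?_ hK3
    exact Nat.card_le_card_of_surjective (f := fun k : ψ.ker => (⟨f k, k, k.2, rfl⟩ : K))
      fun ⟨g, k, hk, hg⟩ => ⟨⟨k, hk⟩, Subtype.ext hg⟩
  have hKn : ∀ c ∈ f.range, ∀ k ∈ K, c * k * c⁻¹ ∈ K := by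
    rintro _ ⟨c, rfl⟩ _ ⟨k, hk, rfl⟩
    exact ⟨c * k * c⁻¹, (inferInstance : ψ.ker.Normal).conj_mem k hk c, by simp⟩
  have hKbot : ψ.ker ≤ f.ker := by
    intro k hk
    rw [MonoidHom.mem_ker]
    by_contra hne
    set g := f k with hg
    have hgK : g ∈ K := ⟨k, hk, rfl⟩
    obtain ⟨b00, zz, zb, xz, xb, x3, b101, b1z, b11⟩ := B.small
    have hauto := fun (c : G) (hc : c ∈ f.range) => small_auto hKc hgK hne (hKn c hc)
    -- elements of order three fix it
    have hthree : ∀ c : G, c * c * c = 1 → c ∈ f.range → c * g = g * c := by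
      intro c hc3 hc
      rcases hauto c hc with h | ⟨h, h2, h3⟩
      · exact mul_inv_eq_iff_eq_mul.1 h
      · exfalso
        have e2 : c * c * g * (c * c)⁻¹ = g := by
          calc c * c * g * (c * c)⁻¹ = c * (c * g * c⁻¹) * c⁻¹ := by group
            _ = c * (g * g) * c⁻¹ := by rw [h]
            _ = (c * g * c⁻¹) * (c * g * c⁻¹) := by group
            _ = g * (g * g * g) := by rw [h]; group
            _ = g := by rw [h3, mul_one]
        refine h2 ?_
        calc g * g = c * g * c⁻¹ := h.symm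
          _ = c * (c * c * g * (c * c)⁻¹) * c⁻¹ := by rw [e2]
          _ = c * c * c * g * (c * c * c)⁻¹ := by group
          _ = g := by rw [hc3]; group
    have hcomm : ∀ c d : G, c ∈ f.range → d ∈ f.range → (c * d * c⁻¹ * d⁻¹) * g = g * (c * d * c⁻¹ * d⁻¹) := by
      intro c d hc hd
      refine mul_inv_eq_iff_eq_mul.1 ?_
      have hinv : ∀ e : G, e ∈ f.range → e⁻¹ * g * e = e * g * e⁻¹ := by
        intro e he
        rcases hauto e he with h | ⟨h, -, h3⟩
        · rw [h]
          calc e⁻¹ * g * e = e⁻¹ * (e * g * e⁻¹) * e := by rw [h]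
            _ = g := by group
        · have e2 : e * (g * g) * e⁻¹ = g := by
            calc e * (g * g) * e⁻¹ = (e * g * e⁻¹) * (e * g * e⁻¹) := by group
              _ = g * (g * g * g) := by rw [h]; group
              _ = g := by rw [h3, mul_one]
          rw [h]
          calc e⁻¹ * g * e = e⁻¹ * (e * (g * g) * e⁻¹) * e := by rw [e2]
            _ = g * g := by group
      have h2 : ∀ e : G, e ∈ f.range → e * (g * g) * e⁻¹ = (e * g * e⁻¹) * (e * g * e⁻¹) := fun e _ => by group
      rcases hauto c hc with h1 | ⟨h1, -, h3⟩ <;> rcases hauto d hd with h4 | ⟨h4, -, h6⟩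
      all_goals
        rw [show c * d * c⁻¹ * d⁻¹ * g * (c * d * c⁻¹ * d⁻¹)⁻¹ = c * (d * (c⁻¹ * (d⁻¹ * g * d) * c) * d⁻¹) * c⁻¹
          by group, hinv d hd, h4]
      · rw [hinv c hc, h1, h4, h1]
      · rw [show c⁻¹ * (g * g) * c = (c⁻¹ * g * c) * (c⁻¹ * g * c) by group, hinv c hc, h1, h2 d hd, h4,
          show g * g * (g * g) = g * (g * g * g) by group, h6, mul_one, h1]
      · rw [hinv c hc, h1, h2 d hd, h4, h2 c hc, h1, show g * g * (g * g) = g * (g * g * g) by group, h3, mul_one]
      · rw [show c⁻¹ * (g * g) * c = (c⁻¹ * g * c) * (c⁻¹ * g * c) by group, hinv c hc, h1,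
          show g * g * (g * g) = g * (g * g * g) by group, h6, mul_one, h4, h2 c hc, h1,
          show g * g * (g * g) = g * (g * g * g) by group, h3, mul_one]
    have hCel : ∀ l < 9, fl LG l ∈ f.range := fun l _ => hfl l
    have hgz : g * z = z * g := by
      have h9 : z = b 1 * b 0 * (b 1)⁻¹ * (b 0)⁻¹ := by
        rw [inv_eq_of_mul_eq_one_right b00, inv_eq_of_mul_eq_one_right b11, b101, mul_assoc, b00, mul_one]
      rw [h9]
      exact (hcomm (b 1) (b 0) (hCel 1 (by norm_num)) (hCel 0 (by norm_num))).symm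
    obtain ⟨i, hi, hgi, hl⟩ := B.exC hgz
    have hgg : g * g = 1 ∨ g * g * g = 1 := by
      have h3 : orderOf g ≤ 3 := le_trans (Nat.le_of_dvd Nat.card_pos (Subgroup.orderOf_dvd_natCard K hgK)) hKc
      have h0 := orderOf_pos g
      have hp := pow_orderOf_eq_one g
      interval_cases hh : orderOf g
      · exact absurd (by simpa using hp) hne
      · exact Or.inl (by rwa [pow_two] at hp)
      · exact Or.inr (by simpa [pow_succ] using hp)
    have h1 : (eqT (wdC i ++ wdC i) [] || eqT (wdC i ++ wdC i ++ wdC i) []) = true := by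
      rw [Bool.or_eq_true]
      rcases hgg with h | h
      · exact Or.inl (B.neC (by rw [ev_append, ← hgi, ev_nil, h]) (append_lt hl hl) (by simp))
      · exact Or.inr (B.neC (by rw [ev_append, ev_append, ← hgi, ev_nil, h])
          (append_lt (append_lt hl hl) hl) (by simp))
    have h2 : (eqT ([5] ++ wdC i ++ [5]) (wdC i) || eqT ([5] ++ wdC i ++ [5]) (wdC i ++ wdC i)) = true := by
      rw [Bool.or_eq_true]
      have hS : S⁻¹ = S := inv_eq_of_mul_eq_one_right
        (by simpa [LCof, fl] using B.eqC (u := [5, 5]) (v := []) (by decide +kernel))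
      have e5 : ev (LCof z b S w x) [5] = S := by simp [LCof, fl]
      rcases hauto S (hCel 5 (by norm_num)) with h | ⟨h, -, -⟩ <;> rw [hS] at h
      · exact Or.inl (B.neC (by rw [ev_append, ev_append, e5, ← hgi, h])
          (append_lt (append_lt (by simp) hl) (by simp)) hl)
      · exact Or.inr (B.neC (by rw [ev_append, ev_append, e5, ev_append, ← hgi, h])
          (append_lt (append_lt (by simp) hl) (by simp)) (append_lt hl hl))
    have h7 : eqT (wdC i ++ [7]) ([7] ++ wdC i) = true := B.neC (by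
      rw [ev_append, ev_append, ← hgi]
      simpa [LCof, fl] using (hthree x x3 (hCel 7 (by norm_num))).symm) (append_lt hl (by simp))
      (append_lt (by simp) hl)
    have hgb : g * b 0 = b 0 * g := by
      have hy3 : y * y * y = 1 := by rw [← A.base.y3]; simp [pow_succ]
      have := HJT.commute_conj y hgz
      rw [A.base.yz, show y * g * y⁻¹ = g from mul_inv_eq_iff_eq_mul.2 (hthree y hy3 hy)] at this
      exact this
    have h0 : eqT (wdC i ++ [0]) ([0] ++ wdC i) = true := B.neC (by
      rw [ev_append, ev_append, ← hgi]; simpa [LCof, fl] using hgb) (append_lt hl (by simp))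
      (append_lt (by simp) hl)
    have ht := of_allBelow kerTest_all i hi
    unfold kerTest at ht
    rw [h1, h2, h0, h7, cond_true, cond_true, cond_true, cond_true, Bool.or_eq_true] at ht
    rcases ht with h | h <;> have h' := B.of_eq hl (by simp) h <;> rw [← hgi] at h'
    · exact hne (by rw [h', ev_nil])
    · have hgzz : g = z := by simpa [LCof, fl] using h'
      have hy3 : y * y * y = 1 := by rw [← A.base.y3]; simp [pow_succ]
      have := hthree y hy3 hy
      rw [hgzz] at this
      refine B.bne ?_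
      rw [← A.base.yz, this]; group
  let φ : P →* G := ψ.liftOfSurjective hψ ⟨f, hKbot⟩
  have hφ : ∀ k, φ (ψ k) = f k := fun k => ψ.liftOfRightInverse_comp_apply _ _ ⟨f, hKbot⟩ k
  have hrange : f.range ≤ φ.range := by
    rintro _ ⟨k, rfl⟩
    exact ⟨ψ k, hφ k⟩
  refine ⟨φ, ?_, hC.trans hrange, hrange hy⟩
  haveI := J3.isSimple
  rcases Subgroup.Normal.eq_bot_or_eq_top (H := φ.ker) inferInstance with h | h
  · exact (MonoidHom.ker_eq_bot_iff φ).1 h
  · exfalso
    obtain ⟨p, hp⟩ := hrange (hC (Subgroup.mem_centralizer_singleton_iff.2 (rfl : z * z = z * z)))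
    have : p ∈ φ.ker := h ▸ Subgroup.mem_top p
    rw [MonoidHom.mem_ker, hp] at this
    exact B.zne this

end CfsgLib.J3U
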