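import Cfsg.Agent.Coset.J3.Order
import Cfsg.Agent.Solvable.Hall
import Cfsg.Agent.OddEnd.FourteenFinal
import Mathlib.GroupTheory.Sylow

/-!
The presented group of order 50232960 has no subgroup of odd order divisible by both 17 and 19.
-/

set_option autoImplicit false
set_option linter.style.haveILetI false
set_option maxRecDepth 100000

namespace CfsgLib.J3U

open CfsgLib.Coset
open CfsgLib.Coset.J3 (P Lp ρ)

/-- An element of order seventeen fixes two points only. -/
noncomputable def fixTest (i : Nat) : Bool :=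
  cond (Nat.beq (follow (tget J3.Top.Tb) i [0, 2, 1, 2]) i) (Nat.beq i 0 || Nat.beq i 3293) true

theorem fixTest_all : allBelow 13 6156 fixTest = true := by decide +kernel

theorem seventeen_check : checkRels 6156 13 J3.Top.Tb [(List.replicate 17 [0, 2, 1, 2]).flatten] = true := by
  decide +kernel

theorem seventeen_moves : Nat.beq (follow (tget J3.Top.Tb) 1 [0, 2, 1, 2]) 1 = false := by decide +kernel

/-- The chosen element of order seventeen. -/
noncomputable def a17 : P := ev Lp [0, 2, 1, 2]

theorem fix_a17 {i : Fin 6156} (h : ρ a17 i = i) : i.val = 0 ∨ i.val = 3293 := by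
  have hl : ∀ l ∈ ([0, 2, 1, 2] : List Nat), l < (Lp).length := by rw [J3.len_Lp]; decide
  have h1 : follow (tget J3.Top.Tb) i [0, 2, 1, 2] = i := (J3.matches_ρ.fix_iff hl).mp h
  have ht := of_allBelow fixTest_all i.val i.2
  unfold fixTest at ht
  rw [show Nat.beq (follow (tget J3.Top.Tb) i [0, 2, 1, 2]) i = true by rw [h1]; exact Nat.beq_refl _,
    cond_true, Bool.or_eq_true] at ht
  exact ht.imp Nat.eq_of_beq_eq_true Nat.eq_of_beq_eq_true

theorem orderOf_a17 : orderOf a17 = 17 := by
  haveI : Fact (Nat.Prime 17) := ⟨by norm_num⟩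
  refine orderOf_eq_prime ?_ fun h => ?_
  · apply J3.card_and_injective.2
    rw [map_one, a17, pow_ev]
    refine Equiv.ext fun i => ?_
    have h := allList_iff.mp (of_allBelow seventeen_check i i.2) _ (List.mem_singleton_self _)
    have hl : ∀ l ∈ (List.replicate 17 [0, 2, 1, 2]).flatten, l < (Lp).length := by
      rw [J3.len_Lp]; decide +kernel
    exact (J3.matches_ρ.fix_iff hl).mpr (Nat.eq_of_beq_eq_true h)
  · have hl : ∀ l ∈ ([0, 2, 1, 2] : List Nat), l < (Lp).length := by rw [J3.len_Lp]; decide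
    have h1 : ρ a17 (1 : Fin 6156) = 1 := by rw [h, MonoidHom.map_one]; rfl
    have h2 := (J3.matches_ρ.fix_iff hl).mp h1
    have h3 := seventeen_moves
    rw [show ((1 : Fin 6156).val) = 1 from rfl] at h2
    rw [h2] at h3
    exact absurd h3 (by decide)

/-- Elements of orders seventeen and nineteen do not commute. -/
theorem no_commute {a b : P} (ha : orderOf a = 17) (hb : orderOf b = 19) : a * b ≠ b * a := by
  haveI := J3.card_le.1
  haveI : Fact (Nat.Prime 17) := ⟨by norm_num⟩
  intro hab
  have hsyl : ∀ c : P, orderOf c = 17 → ∃ S : Sylow 17 P, (S : Subgroup P) = Subgroup.zpowers c := by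
    intro c hc
    refine ⟨Sylow.ofCard (Subgroup.zpowers c) ?_, rfl⟩
    rw [Nat.card_zpowers, hc, J3.card_and_injective.1]
    rw [show Nat.factorization 50232960 17 = 1 from ?_, pow_one]
    have h : (50232960 : ℕ) = 17 * 2954880 := by norm_num
    rw [h, Nat.factorization_mul (by norm_num) (by norm_num), Finsupp.add_apply,
      Nat.Prime.factorization_self (by norm_num), Nat.factorization_eq_zero_of_not_dvd (by norm_num)]
  obtain ⟨Sa, hSa⟩ := hsyl a ha
  obtain ⟨S0, hS0⟩ := hsyl a17 orderOf_a17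
  obtain ⟨g, hg⟩ := MulAction.exists_smul_eq P Sa S0
  have hmem : a17 ∈ Subgroup.zpowers (g * a * g⁻¹) := by
    have h1 : a17 ∈ ((g • Sa : Sylow 17 P) : Subgroup P) := by
      rw [hg, hS0]; exact Subgroup.mem_zpowers a17
    rw [Sylow.coe_subgroup_smul, hSa] at h1
    obtain ⟨k, ⟨n, rfl⟩, hk⟩ := h1
    exact ⟨n, by show (g * a * g⁻¹) ^ n = a17; rw [conj_zpow]; exact hk⟩
  set b' := g * b * g⁻¹ with hb'
  have hc : Commute a17 b' := by
    obtain ⟨n, hn⟩ := hmem
    rw [← hn]
    refine Commute.zpow_left ?_ n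
    show g * a * g⁻¹ * (g * b * g⁻¹) = g * b * g⁻¹ * (g * a * g⁻¹)
    rw [show g * a * g⁻¹ * (g * b * g⁻¹) = g * (a * b) * g⁻¹ by group, hab]; group
  have hb19 : orderOf b' = 19 := by rw [hb', ← MulAut.conj_apply, MulEquiv.orderOf_eq, hb]
  let p₀ : Fin 6156 := ⟨0, by decide⟩
  have hfix0 : ρ a17 p₀ = p₀ := by
    have hl : ∀ l ∈ ([0, 2, 1, 2] : List Nat), l < (Lp).length := by rw [J3.len_Lp]; decide
    refine (J3.matches_ρ.fix_iff hl).mpr ?_
    show follow (tget J3.Top.Tb) 0 [0, 2, 1, 2] = 0
    exact Nat.eq_of_beq_eq_true (by decide +kernel)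
  have hperm : ∀ i : Fin 6156, ρ a17 i = i → ρ a17 (ρ b' i) = ρ b' i := fun i hi => by
    calc ρ a17 (ρ b' i) = ρ (a17 * b') i := (congrArg (fun e => e i) (map_mul ρ a17 b')).symm
      _ = ρ (b' * a17) i := by rw [hc.eq]
      _ = ρ b' (ρ a17 i) := congrArg (fun e => e i) (map_mul ρ b' a17)
      _ = ρ b' i := by rw [hi]
  set q := ρ b' p₀ with hq
  have hb0 : ρ b' p₀ = p₀ := by
    by_contra hne
    have hq' : q.val = 3293 := (fix_a17 (hperm p₀ hfix0)).resolve_left fun h => hne (Fin.ext h)
    have hq2 : ρ b' q = p₀ := by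
      rcases fix_a17 (hperm q (hperm p₀ hfix0)) with h | h
      · exact Fin.ext h
      · exfalso
        refine hne ((ρ b').injective ?_)
        exact Fin.ext (h.trans hq'.symm)
    have heven : ∀ n : ℕ, ((ρ b') ^ (2 * n)) p₀ = p₀ := by
      intro n
      induction n with
      | zero => simp
      | succ n ih =>
        rw [show 2 * (n + 1) = 2 + 2 * n by ring, pow_add, Equiv.Perm.mul_apply, ih, pow_two,
          Equiv.Perm.mul_apply, ← hq, hq2]
    have h19 : ((ρ b') ^ 19) p₀ = p₀ := by
      rw [← map_pow, ← hb19, pow_orderOf_eq_one, map_one]; rfl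
    rw [show 19 = 1 + 2 * 9 from rfl, pow_add, Equiv.Perm.mul_apply, heven, pow_one] at h19
    exact hne h19
  have hbH : b' ∈ J3.H := by
    rw [J3.index_and_eq.2]
    exact hb0
  have hdvd := Subgroup.orderOf_dvd_natCard J3.H hbH
  have hcard : Nat.card J3.H = 8160 := by
    have h := J3.H.card_mul_index
    rw [J3.index_and_eq.1, J3.card_and_injective.1] at h
    omega
  rw [hb19, hcard] at hdvd
  norm_num at hdvd

/-- No odd order subgroup of size at least 26163. -/
theorem odd_lt (D : Subgroup P) (hodd : Odd (Nat.card D)) : Nat.card D < 26163 := by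
  haveI := J3.card_le.1
  haveI : Fact (Nat.Prime 17) := ⟨by norm_num⟩
  haveI : Fact (Nat.Prime 19) := ⟨by norm_num⟩
  by_contra hlt
  push Not at hlt
  have hdvd : Nat.card D ∣ 392445 := by
    have h := Subgroup.card_subgroup_dvd_card D
    rw [J3.card_and_injective.1, show 50232960 = 128 * 392445 from rfl] at h
    exact (Nat.Coprime.pow_right 7 hodd.coprime_two_right).dvd_of_dvd_mul_left h
  have h323 : 323 ∣ Nat.card D := by
    rcases Nat.eq_zero_or_pos (Nat.card D) with h | h
    · omega
    obtain ⟨m, hm⟩ := hdvd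
    have hm15 : m ≤ 15 := by nlinarith
    interval_cases m <;> omega
  haveI := CfsgLib.OddEnd.odd_solvable D hodd
  obtain ⟨b, hb⟩ := h323
  have hcop : Nat.Coprime 323 b := by
    have hb' : 323 * b ∣ 392445 := hb ▸ hdvd
    have h2 : b ∣ 1215 := Nat.dvd_of_mul_dvd_mul_left (by norm_num : 0 < 323) hb'
    exact Nat.Coprime.coprime_dvd_right h2 (by norm_num)
  obtain ⟨K, hK, -⟩ := CfsgLib.Hall.hall (G := D) hb hcop
  obtain ⟨u, hu⟩ := exists_prime_orderOf_dvd_card' (G := K) 17 (by rw [hK]; norm_num)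
  obtain ⟨v, hv⟩ := exists_prime_orderOf_dvd_card' (G := K) 19 (by rw [hK]; norm_num)
  have hn : ∀ (p : ℕ) [Fact p.Prime] (c : K), orderOf c = p → 323 = p * (323 / p) →
      (∀ n, n ∣ 323 / p → n % p = 1 % p → n = 1) → Nat.factorization 323 p = 1 →
      (Subgroup.zpowers c).Normal := by
    intro p hp c hc h1 h2 h3
    haveI := hp
    let Sp : Sylow p K := Sylow.ofCard (Subgroup.zpowers c) (by rw [Nat.card_zpowers, hc, hK, h3, pow_one])
    have hi : (Sp : Subgroup K).index = 323 / p := by
      have h := (Subgroup.zpowers c).card_mul_index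
      rw [Nat.card_zpowers, hc, hK, h1] at h
      show (Subgroup.zpowers c).index = 323 / p
      exact Nat.eq_of_mul_eq_mul_left hp.out.pos h
    have hone : Nat.card (Sylow p K) = 1 :=
      h2 _ (hi ▸ Sp.card_dvd_index) (card_sylow_modEq_one p K)
    haveI : Subsingleton (Sylow p K) := (Nat.card_eq_one_iff_unique.1 hone).1
    exact Sp.normal_of_subsingleton
  have hu' : orderOf u = 17 := hu
  have N17 := hn 17 u hu (by norm_num) (fun n h1 h2 => by
    norm_num at h1
    rcases (Nat.dvd_prime (by norm_num : Nat.Prime 19)).1 h1 with rfl | rfl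
    · rfl
    · norm_num at h2) (by
    rw [show 323 = 17 * 19 from rfl, Nat.factorization_mul (by norm_num) (by norm_num), Finsupp.add_apply,
      Nat.Prime.factorization_self (by norm_num), Nat.factorization_eq_zero_of_not_dvd (by norm_num)])
  have N19 := hn 19 v hv (by norm_num) (fun n h1 h2 => by
    norm_num at h1
    rcases (Nat.dvd_prime (by norm_num : Nat.Prime 17)).1 h1 with rfl | rfl
    · rfl
    · norm_num at h2) (by
    rw [show 323 = 19 * 17 from rfl, Nat.factorization_mul (by norm_num) (by norm_num), Finsupp.add_apply,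
      Nat.Prime.factorization_self (by norm_num), Nat.factorization_eq_zero_of_not_dvd (by norm_num)])
  have hdisj : Disjoint (Subgroup.zpowers u) (Subgroup.zpowers v) :=
    disjoint_iff.2 (Subgroup.inf_eq_bot_of_coprime (by rw [Nat.card_zpowers, Nat.card_zpowers, hu, hv]; norm_num))
  have hcomm := Subgroup.commute_of_normal_of_disjoint _ _ N17 N19 hdisj u v (Subgroup.mem_zpowers u)
    (Subgroup.mem_zpowers v)
  refine no_commute (a := ((u : D) : P)) (b := ((v : D) : P)) ?_ ?_
    (congrArg (fun e : K => ((e : D) : P)) hcomm.eq)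
  · rw [Subgroup.orderOf_coe, Subgroup.orderOf_coe, hu]
  · rw [Subgroup.orderOf_coe, Subgroup.orderOf_coe, hv]

end CfsgLib.J3U
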