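import Cfsg.Agent.J2U.Pre

/-!
With one class of involutions the centraliser of `z` has an involution outside its extraspecial subgroup.
-/

set_option autoImplicit false
set_option linter.style.haveILetI false

namespace CfsgLib.J3U

open CfsgLib.Extra2 CfsgLib.HJT

variable {G : Type*} [Group G] {z : G} {Q : Subgroup G} {a : Fin 5 → G} {π : G → Equiv.Perm (Fin 5)}

theorem comm_vec : ∀ σ : Equiv.Perm (Fin 5), IsInv5 σ → ∀ k, σ k = k →
    ∃ v : V5, Ev v ∧ v k = 0 ∧ v + act σ v = sing k := by decide +kernel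

theorem comm_range : ∀ σ : Equiv.Perm (Fin 5), σ 0 = 0 → (σ = 1 ∨ IsInv5 σ) →
    ∀ v : V5, Ev v → v 0 = 0 → v + act σ v = 0 ∨ v + act σ v = sing 0 := by decide +kernel

theorem sq_vec : ∀ k : Fin 5, ∃ v : V5, Ev v ∧ v k = 0 ∧ wt v = 1 := by decide

theorem dot_comm' (u v : V5) : dot u v = dot v u := by simp [dot, mul_comm]

theorem sum_in_four {z b c : G} (hz : z * z = 1) (hb : b * b = 1) (hzb : z * b = b * z)
    (h : c = 1 ∨ c = z ∨ c = b ∨ c = z * b) : c * c = 1 := by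
  rcases h with rfl | rfl | rfl | rfl
  · simp
  · exact hz
  · exact hb
  · rw [mul_assoc, ← mul_assoc b, ← hzb, mul_assoc z b b, hb, mul_one, hz]

variable (L : PreLoc z Q a π)

include L

theorem psi_inv {x : G} (hx : x ∈ Q) : Frame.psi a x⁻¹ = Frame.psi a x := by
  have h := L.frame.psi_mul (inv_mem hx) hx
  rw [inv_mul_cancel, Frame.psi_one] at h
  exact CharTwo.add_eq_zero.1 h.symm

theorem psi_comm {e q : G} (he : e ∈ Cz z) (hq : q ∈ Q) :
    e * q * e⁻¹ * q⁻¹ ∈ Q ∧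
      Frame.psi a (e * q * e⁻¹ * q⁻¹) = Frame.psi a q + act (π e) (Frame.psi a q) := by
  have h1 := L.norm e he q hq
  refine ⟨mul_mem h1 (inv_mem hq), ?_⟩
  rw [L.frame.psi_mul h1 (inv_mem hq), L.psi_conj he hq, psi_inv L hq, add_comm]

theorem comm_of_bit {x u : G} {k : Fin 5} (hx : x ∈ Q) (hu : u ∈ Q) (hku : Frame.psi a u = sing k)
    (h : Frame.psi a x k = 0) : x * u = u * x := by
  have hcb : cb x u = 0 := by
    rw [L.frame.cb_eq_dot hx hu, hku, dot_comm', dot_sing _ (L.frame.psi_ev hx), h]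
  rw [cb_spec L.frame.gen hx hu, hcb, zp_zero, one_mul]

theorem bit_of_comm {x u : G} {k : Fin 5} (hx : x ∈ Q) (hu : u ∈ Q) (hku : Frame.psi a u = sing k)
    (h : x * u = u * x) : Frame.psi a x k = 0 := by
  rw [← dot_sing _ (L.frame.psi_ev hx) k, dot_comm', ← hku, ← L.frame.cb_eq_dot hx hu]
  exact cb_eq L.frame.gen hx hu (by rw [zp_zero, one_mul, h])

theorem comm_hits {e u : G} {k : Fin 5} (he : e ∈ Cz z) (heQ : e ∉ Q) (he2 : e * e ∈ Q)
    (heu : e * u = u * e) (hu : u ∈ Q) (hku : Frame.psi a u = sing k) :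
    ∃ q ∈ Q, q * u = u * q ∧ (e * q * e⁻¹ * q⁻¹ = u ∨ e * q * e⁻¹ * q⁻¹ = z * u) := by
  have hσk : π e k = k := by
    have h := L.psi_conj he hu
    rw [mul_inv_eq_iff_eq_mul.2 heu, hku, act_sing] at h
    exact (sing_inj _ _ h).symm
  obtain ⟨v, hv, hvk, hv'⟩ := comm_vec _ (L.pi_invol he heQ he2) k hσk
  obtain ⟨q, hq, hqv⟩ := L.frame.psi_surj le_rfl L.frame.mem hv
  refine ⟨q, hq, comm_of_bit L hq hu hku (by rw [hqv, hvk]), ?_⟩
  obtain ⟨hm, hp⟩ := psi_comm L he hq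
  exact L.frame.eq_or_of_psi_eq hm hu (by rw [hp, hqv, hv', hku])

/-- There is an involution outside `Q`. -/
theorem exists_outer (hone : ∀ x y : G, orderOf x = 2 → orderOf y = 2 → IsConj x y) :
    ∃ s ∈ Cz z, s * s = 1 ∧ s ∉ Q := by
  by_contra hno
  push Not at hno
  have hQ := L.frame.gen
  have hzz := L.zsq
  have hb0 : Frame.psi a (a 0) = sing 0 := L.frame.psi_a 0
  have hb2 : a 0 * a 0 = 1 := L.frame.invol 0
  have hb1 : a 0 ≠ 1 := fun h => by
    rw [h, Frame.psi_one] at hb0; exact sing_ne_zero 0 hb0.symm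
  have hbz : a 0 ≠ z := fun h => by
    rw [h, L.psi_z] at hb0; exact sing_ne_zero 0 hb0.symm
  have hzbc : z * a 0 = a 0 * z := ((hQ.comm_z _ (L.frame.mem 0)).eq).symm
  obtain ⟨g, hg⟩ := isConj_iff.1 (hone z (a 0) L.ord_z (orderOf_two_iff.2 ⟨hb2, hb1⟩))
  set s := g⁻¹ * z * g with hs
  have hsC : s ∈ Cz z := by
    refine Loc.memC.2 ?_
    have h := commute_conj g⁻¹ hzbc
    rw [← hg, show g⁻¹ * (g * z * g⁻¹) * g⁻¹⁻¹ = z by group, inv_inv] at h
    exact h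
  have hs2 : s * s = 1 := by rw [hs, show g⁻¹ * z * g * (g⁻¹ * z * g) = g⁻¹ * (z * z) * g by group, hzz]; group
  have hsQ : s ∈ Q := hno s hsC hs2
  obtain ⟨k, hk⟩ : ∃ k, Frame.psi a s = sing k := by
    rcases L.frame.invol_cases hsQ hs2 with e | e | ⟨k, e | e⟩
    · exfalso
      apply L.zne
      calc z = g * s * g⁻¹ := by rw [hs]; group
        _ = 1 := by rw [e]; group
    · exfalso
      apply hbz
      calc a 0 = g * z * g⁻¹ := hg.symm
        _ = g * s * g⁻¹ := by rw [e]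
        _ = z := by rw [hs]; group
    · exact ⟨k, by rw [e, L.frame.psi_a]⟩
    · exact ⟨k, by rw [e, L.frame.psi_mul hQ.mem (L.frame.mem k), L.psi_z, zero_add, L.frame.psi_a]⟩
  -- the two sides
  have hQC : ∀ q ∈ Q, q * z = z * q := fun q hq => Loc.memC.1 (L.le hq)
  have side' : ∀ q ∈ Q, q * s = s * q → g * q * g⁻¹ ∈ Cz z ∧ g * q * g⁻¹ * a 0 = a 0 * (g * q * g⁻¹) ∧
      (g * q * g⁻¹ * (g * q * g⁻¹) = 1 ∨ g * q * g⁻¹ * (g * q * g⁻¹) = a 0) := by
    intro q hq hqs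
    refine ⟨Loc.memC.2 ?_, ?_, ?_⟩
    · have h := commute_conj g hqs
      rwa [show g * s * g⁻¹ = z by rw [hs]; group] at h
    · have h := commute_conj g (hQC q hq)
      rwa [hg] at h
    · rcases hQ.square q hq with h | h
      · left; rw [show g * q * g⁻¹ * (g * q * g⁻¹) = g * (q * q) * g⁻¹ by group, h]; group
      · right; rw [show g * q * g⁻¹ * (g * q * g⁻¹) = g * (q * q) * g⁻¹ by group, h, hg]
  let F := fun e d : G => e * d * e⁻¹ * d⁻¹
  have inFour : ∀ q ∈ Q, q * s = s * q → ∀ d ∈ Q, d * a 0 = a 0 * d →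
      F (g * q * g⁻¹) d = 1 ∨ F (g * q * g⁻¹) d = z ∨ F (g * q * g⁻¹) d = a 0 ∨
        F (g * q * g⁻¹) d = z * a 0 := by
    intro q hq hqs d hd hdb
    obtain ⟨he, heb, he2⟩ := side' q hq hqs
    obtain ⟨hm, hp⟩ := psi_comm L he hd
    have hσ : π (g * q * g⁻¹) 0 = 0 := by
      have h := L.psi_conj he (L.frame.mem 0)
      rw [mul_inv_eq_iff_eq_mul.2 heb, hb0, act_sing] at h
      exact (sing_inj _ _ h).symm
    have hσ2 : π (g * q * g⁻¹) = 1 ∨ IsInv5 (π (g * q * g⁻¹)) := by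
      by_cases h : g * q * g⁻¹ ∈ Q
      · exact Or.inl ((L.pi_ker _ he).2 h)
      · refine Or.inr (L.pi_invol he h ?_)
        rcases he2 with e | e <;> rw [e]
        exacts [one_mem Q, L.frame.mem 0]
    rcases comm_range _ hσ hσ2 _ (L.frame.psi_ev hd) (bit_of_comm L hd (L.frame.mem 0) hb0 hdb) with h | h
    · rcases L.frame.psi_eq_zero hm (hp.trans h) with e | e
      · exact Or.inl e
      · exact Or.inr (Or.inl e)
    · rcases L.frame.eq_or_of_psi_eq hm (L.frame.mem 0) (by rw [hp, h, hb0]) with e | e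
      · exact Or.inr (Or.inr (Or.inl e))
      · exact Or.inr (Or.inr (Or.inr e))
  -- a pair giving the first component
  obtain ⟨v, hv, hvk, hwv⟩ := sq_vec k
  obtain ⟨q₁, hq₁, hq₁v⟩ := L.frame.psi_surj le_rfl L.frame.mem hv
  have hq₁s := comm_of_bit L hq₁ hsQ hk (by rw [hq₁v, hvk])
  obtain ⟨he₁, he₁b, -⟩ := side' q₁ hq₁ hq₁s
  have he₁2 : g * q₁ * g⁻¹ * (g * q₁ * g⁻¹) = a 0 := by
    have h : q₁ * q₁ = z := by rw [L.frame.sq_eq hq₁, hq₁v, hwv, zp_one]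
    rw [show g * q₁ * g⁻¹ * (g * q₁ * g⁻¹) = g * (q₁ * q₁) * g⁻¹ by group, h, hg]
  have he₁Q : g * q₁ * g⁻¹ ∉ Q := fun h => by
    rcases hQ.square _ h with e | e <;> rw [he₁2] at e
    exacts [hb1 e, hbz e]
  obtain ⟨d₁, hd₁, hd₁b, hc₁⟩ :=
    comm_hits L he₁ he₁Q (he₁2 ▸ L.frame.mem 0) he₁b (L.frame.mem 0) hb0
  -- a pair giving the second component
  obtain ⟨v', hv', hv'0, hwv'⟩ := sq_vec 0
  obtain ⟨d₂, hd₂, hd₂v⟩ := L.frame.psi_surj le_rfl L.frame.mem hv'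
  have hd₂b := comm_of_bit L hd₂ (L.frame.mem 0) hb0 (by rw [hd₂v, hv'0])
  have he₂ : g⁻¹ * d₂ * g ∈ Cz z := by
    refine Loc.memC.2 ?_
    have h := commute_conj g⁻¹ hd₂b
    rw [← hg, show g⁻¹ * (g * z * g⁻¹) * g⁻¹⁻¹ = z by group, inv_inv] at h
    exact h
  have he₂s : g⁻¹ * d₂ * g * s = s * (g⁻¹ * d₂ * g) := by
    rw [hs, show g⁻¹ * d₂ * g * (g⁻¹ * z * g) = g⁻¹ * (d₂ * z) * g by group, hQC d₂ hd₂]; group
  have he₂2 : g⁻¹ * d₂ * g * (g⁻¹ * d₂ * g) = s := by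
    have h : d₂ * d₂ = z := by rw [L.frame.sq_eq hd₂, hd₂v, hwv', zp_one]
    rw [show g⁻¹ * d₂ * g * (g⁻¹ * d₂ * g) = g⁻¹ * (d₂ * d₂) * g by group, h]
  have he₂Q : g⁻¹ * d₂ * g ∉ Q := fun h => by
    rcases hQ.square _ h with e | e <;> rw [he₂2] at e <;> rw [e] at hk
    · rw [Frame.psi_one] at hk; exact sing_ne_zero k hk.symm
    · rw [L.psi_z] at hk; exact sing_ne_zero k hk.symm
  obtain ⟨q₂, hq₂, hq₂s, hc₂⟩ := comm_hits L he₂ he₂Q (he₂2 ▸ hsQ) he₂s hsQ hk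
  obtain ⟨he₂', he₂b', -⟩ := side' q₂ hq₂ hq₂s
  have hc₂' : F (g * q₂ * g⁻¹) d₂ = z ∨ F (g * q₂ * g⁻¹) d₂ = z * a 0 := by
    set c := g⁻¹ * d₂ * g * q₂ * (g⁻¹ * d₂ * g)⁻¹ * q₂⁻¹ with hc
    have hF : F (g * q₂ * g⁻¹) d₂ = g * c⁻¹ * g⁻¹ := by rw [hc]; simp only [F]; group
    rcases hc₂ with e | e
    · left
      rw [hF, e, inv_eq_of_mul_eq_one_right hs2, hs]; group
    · right
      have hcc : (z * s)⁻¹ = s * z := by
        rw [mul_inv_rev, inv_eq_of_mul_eq_one_right hs2, inv_eq_of_mul_eq_one_right hzz]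
      rw [hF, e, hcc, show g * (s * z) * g⁻¹ = (g * s * g⁻¹) * (g * z * g⁻¹) by group, hg, hs]
      group
  -- combine
  obtain ⟨q, hq, hqs, d, hd, hdb, hfin⟩ : ∃ q ∈ Q, q * s = s * q ∧ ∃ d ∈ Q, d * a 0 = a 0 * d ∧
      F (g * q * g⁻¹) d = z * a 0 := by
    rcases hc₁ with h11 | h11
    swap
    · exact ⟨q₁, hq₁, hq₁s, d₁, hd₁, hd₁b, h11⟩
    rcases hc₂' with h22 | h22
    swap
    · exact ⟨q₂, hq₂, hq₂s, d₂, hd₂, hd₂b, h22⟩
    have hq12 : q₁ * q₂ * s = s * (q₁ * q₂) := ((show Commute q₁ s from hq₁s).mul_left hq₂s).eq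
    have hd12 : d₁ * d₂ * a 0 = a 0 * (d₁ * d₂) := ((show Commute d₁ (a 0) from hd₁b).mul_left hd₂b).eq
    have addR : ∀ q ∈ Q, q * s = s * q → ∀ d ∈ Q, d * a 0 = a 0 * d → ∀ d' ∈ Q, d' * a 0 = a 0 * d' →
        F (g * q * g⁻¹) (d * d') = F (g * q * g⁻¹) d * F (g * q * g⁻¹) d' := by
      intro q hq hqs d hd hdb d' hd' hdb'
      have hc : d * F (g * q * g⁻¹) d' = F (g * q * g⁻¹) d' * d := by
        rcases inFour q hq hqs d' hd' hdb' with e | e | e | e <;> rw [e]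
        · simp
        · exact hQC d hd
        · exact hdb
        · exact ((show Commute d z from hQC d hd).mul_right hdb).eq
      calc F (g * q * g⁻¹) (d * d')
          = (g * q * g⁻¹ * d * (g * q * g⁻¹)⁻¹ * d⁻¹) * (d * F (g * q * g⁻¹) d') * d⁻¹ := by
            simp only [F]; group
        _ = F (g * q * g⁻¹) d * F (g * q * g⁻¹) d' := by rw [hc]; simp only [F]; group
    have addL : ∀ q ∈ Q, q * s = s * q → ∀ q' ∈ Q, q' * s = s * q' → ∀ d ∈ Q, d * a 0 = a 0 * d →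
        F (g * (q * q') * g⁻¹) d = F (g * q' * g⁻¹) d * F (g * q * g⁻¹) d := by
      intro q hq hqs q' hq' hqs' d hd hdb
      obtain ⟨he, heb, -⟩ := side' q hq hqs
      have hc : g * q * g⁻¹ * F (g * q' * g⁻¹) d = F (g * q' * g⁻¹) d * (g * q * g⁻¹) := by
        rcases inFour q' hq' hqs' d hd hdb with e | e | e | e <;> rw [e]
        · simp
        · exact Loc.memC.1 he
        · exact heb
        · exact ((show Commute (g * q * g⁻¹) z from Loc.memC.1 he).mul_right heb).eq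
      calc F (g * (q * q') * g⁻¹) d
          = (g * q * g⁻¹ * F (g * q' * g⁻¹) d) * (d * (g * q * g⁻¹)⁻¹ * d⁻¹) := by simp only [F]; group
        _ = _ := by rw [hc]; simp only [F]; group
    have hzb' : a 0 * (z * a 0) = z := by rw [← mul_assoc, ← hzbc, mul_assoc, hb2, mul_one]
    rcases inFour q₁ hq₁ hq₁s d₂ hd₂ hd₂b with h12 | h12 | h12 | h12
    · rcases inFour q₂ hq₂ hq₂s d₁ hd₁ hd₁b with h21 | h21 | h21 | h21
      · refine ⟨q₁ * q₂, mul_mem hq₁ hq₂, hq12, d₁ * d₂, mul_mem hd₁ hd₂, hd12, ?_⟩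
        rw [addL q₁ hq₁ hq₁s q₂ hq₂ hq₂s _ (mul_mem hd₁ hd₂) hd12, addR q₂ hq₂ hq₂s d₁ hd₁ hd₁b d₂ hd₂ hd₂b,
          addR q₁ hq₁ hq₁s d₁ hd₁ hd₁b d₂ hd₂ hd₂b, h21, h22]
        rw [show F (g * q₁ * g⁻¹) d₁ = a 0 from h11, h12, one_mul, mul_one]
      · refine ⟨q₁ * q₂, mul_mem hq₁ hq₂, hq12, d₁, hd₁, hd₁b, ?_⟩
        rw [addL q₁ hq₁ hq₁s q₂ hq₂ hq₂s d₁ hd₁ hd₁b, h21]
        rw [show F (g * q₁ * g⁻¹) d₁ = a 0 from h11]
      · refine ⟨q₂, hq₂, hq₂s, d₁ * d₂, mul_mem hd₁ hd₂, hd12, ?_⟩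
        rw [addR q₂ hq₂ hq₂s d₁ hd₁ hd₁b d₂ hd₂ hd₂b, h21, h22, hzbc]
      · exact ⟨q₂, hq₂, hq₂s, d₁, hd₁, hd₁b, h21⟩
    · refine ⟨q₁, hq₁, hq₁s, d₁ * d₂, mul_mem hd₁ hd₂, hd12, ?_⟩
      rw [addR q₁ hq₁ hq₁s d₁ hd₁ hd₁b d₂ hd₂ hd₂b, h12, show F (g * q₁ * g⁻¹) d₁ = a 0 from h11, hzbc]
    · refine ⟨q₁ * q₂, mul_mem hq₁ hq₂, hq12, d₂, hd₂, hd₂b, ?_⟩
      rw [addL q₁ hq₁ hq₁s q₂ hq₂ hq₂s d₂ hd₂ hd₂b, h22, h12]
    · exact ⟨q₁, hq₁, hq₁s, d₂, hd₂, hd₂b, h12⟩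
  obtain ⟨he, heb, he2⟩ := side' q hq hqs
  set e := g * q * g⁻¹ with hedef
  simp only [F] at hfin
  have hne : z * a 0 ≠ 1 := fun h => hbz (by
    calc a 0 = z * (z * a 0) := by rw [← mul_assoc, hzz, one_mul]
      _ = z := by rw [h, mul_one])
  have hd2 : d * d = z := by
    refine (hQ.square d hd).resolve_left fun h => hne ?_
    rw [← hfin]
    rcases L.frame.invol_cases hd h with e' | e' | ⟨i, hi⟩
    · rw [e']; group
    · rw [e', Loc.memC.1 he]; group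
    · have h0 := bit_of_comm L hd (L.frame.mem 0) hb0 hdb
      have hpd : Frame.psi a d = sing i := by
        rcases hi with e' | e'
        · rw [e', L.frame.psi_a]
        · rw [e', L.frame.psi_mul hQ.mem (L.frame.mem i), L.psi_z, zero_add, L.frame.psi_a]
      rw [hpd] at h0
      have hi0 : i = 0 := by
        by_contra hh
        simp [sing, Ne.symm hh] at h0
      subst hi0
      rcases hi with e' | e' <;> rw [e']
      · rw [heb]; group
      · have hc : Commute e (z * a 0) := (show Commute e z from Loc.memC.1 he).mul_right heb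
        rw [hc.eq]; group
  have hee : e * e = a 0 := by
    refine he2.resolve_left fun h => hne ?_
    have hq2 : q * q = 1 := by
      calc q * q = g⁻¹ * (e * e) * g := by rw [hedef]; group
        _ = 1 := by rw [h]; group
    rw [← hfin]
    rcases L.frame.invol_cases hq hq2 with e' | e' | ⟨i, hi⟩
    · rw [hedef, e']; group
    · have hce : e * d = d * e := by rw [hedef, e', hg, hdb]
      rw [hce]; group
    · have h0 := bit_of_comm L hq hsQ hk hqs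
      have hpd : Frame.psi a q = sing i := by
        rcases hi with e' | e'
        · rw [e', L.frame.psi_a]
        · rw [e', L.frame.psi_mul hQ.mem (L.frame.mem i), L.psi_z, zero_add, L.frame.psi_a]
      rw [hpd] at h0
      have hik : i = k := by
        by_contra hh
        simp [sing, Ne.symm hh] at h0
      rcases L.frame.eq_or_of_psi_eq hq hsQ (by rw [hpd, hik, hk]) with e' | e'
      · have he' : e = z := by rw [hedef, e', hs]; group
        rw [he', ← hQC d hd]; group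
      · have he' : e = a 0 * z := by
          rw [hedef, e', show g * (z * s) * g⁻¹ = (g * z * g⁻¹) * (g * s * g⁻¹) by group, hg, hs]; group
        have hc : Commute d (a 0 * z) := (show Commute d (a 0) from hdb).mul_right (hQC d hd)
        rw [he', ← hc.eq]; group
  have hout : d * e * (d * e) = 1 := by
    calc d * e * (d * e) = d * (e * d * e⁻¹ * d⁻¹) * d * (e * e) := by group
      _ = d * (z * a 0) * d * a 0 := by rw [hfin, hee]
      _ = z * a 0 * (d * d) * a 0 := by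
          rw [((show Commute d z from hQC d hd).mul_right hdb).eq]; group
      _ = 1 := by rw [hd2, hzbc, mul_assoc (a 0), hzz, mul_one, hb2]
  have hdeQ : d * e ∈ Q := hno _ (mul_mem (L.le hd) he) hout
  have heQ : e ∈ Q := by simpa using mul_mem (inv_mem hd) hdeQ
  rcases hQ.square e heQ with h | h <;> rw [hee] at h
  exacts [hb1 h, hbz h]

end CfsgLib.J3U
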