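import Cfsg.Agent.J2U.Amal
import Cfsg.Agent.J3U.Center
import Cfsg.Agent.J3U.Outer

/-!
Normalised generators of the centraliser of the involution in a group with one class of involutions.
-/

set_option autoImplicit false
set_option linter.style.haveILetI false
set_option maxRecDepth 100000

namespace CfsgLib.J3U

open CfsgLib.Coset CfsgLib.Extra2 CfsgLib.HJT CfsgLib.J2U

variable {G : Type*} [Group G]

/-- The generators of the centraliser with their relators. -/
structure Core (z : G) (b : Fin 5 → G) (S w x : G) : Prop where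
  relC : ∀ u ∈ relsC, ev (LCof z b S w x) u = 1
  gen : Subgroup.closure {v | v ∈ LCof z b S w x} = Subgroup.centralizer ({z} : Set G)
  cardC : Nat.card (Subgroup.centralizer ({z} : Set G)) = 1920
  zne : z ≠ 1
  bne : b 0 ≠ z
  x3 : orderOf x = 3

variable {z : G} {Q : Subgroup G} {a : Fin 5 → G} {π : G → Equiv.Perm (Fin 5)}

section
variable (L : PreLoc z Q a π)
include L

theorem pi_pow' {c : G} (hc : c ∈ Cz z) : ∀ j : ℕ, π (c ^ j) = π c ^ j
  | 0 => by simpa using L.pi_one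
  | j + 1 => by rw [pow_succ, pow_succ, L.pi_mul _ (pow_mem hc j) _ hc, pi_pow' hc j]

theorem psi_zero_sq' {g q : G} (hg : g ∈ Cz z) (hσ : IsInv5 (π g)) (hg2 : g * g = 1) (hq : q ∈ Q) :
    ((q * g) * (q * g) = 1 ∨ (q * g) * (q * g) = z) → (q * g) * (q * g) = 1 := by
  intro h
  have hQ := L.frame.gen
  have hgq : g * q * g⁻¹ ∈ Q := L.norm g hg q hq
  have he : (q * g) * (q * g) = q * (g * q * g⁻¹) := by
    calc (q * g) * (q * g) = q * (g * q * g⁻¹) * (g * g) := by group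
      _ = _ := by rw [hg2, mul_one]
  have h0 : Frame.psi a (q * (g * q * g⁻¹)) = 0 := by
    rcases h with h | h <;> rw [he] at h <;> rw [h]
    · exact Frame.psi_one
    · exact L.psi_z
  rw [L.frame.psi_mul hq hgq, L.psi_conj hg hq, CharTwo.add_eq_zero] at h0
  rw [he, L.fixed_conj hg hσ (Or.inl hg2) hq h0.symm, ← mul_assoc, zp_comm hQ hq, mul_assoc,
    L.frame.sq_eq hq, ← zp_add L.zsq, CharTwo.add_self_eq_zero, zp_zero]

theorem sq_lemma' {s₀ : G} (hs₀ : s₀ ∈ Cz z) (hs₀2 : s₀ * s₀ = 1) (hs₀Q : s₀ ∉ Q)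
    {g : G} (hg : g ∈ Cz z) (hgQ : g ∉ Q) (h2 : g * g = 1 ∨ g * g = z) : g * g = 1 := by
  have hσ := L.pi_invol hg hgQ (by rcases h2 with h | h <;> rw [h]; exacts [one_mem Q, L.frame.gen.mem])
  obtain ⟨c₀, hc₀, hcs⟩ := inv5_conj _ (L.pi_invol hs₀ hs₀Q (hs₀2 ▸ one_mem Q)) _ hσ
  obtain ⟨c, hc, rfl⟩ := L.pi_surj c₀ hc₀
  have hs : c * s₀ * c⁻¹ ∈ Cz z := mul_mem (mul_mem hc hs₀) (inv_mem hc)
  have hsπ : π (c * s₀ * c⁻¹) = π g := by rw [L.pi_conj hc hs₀, hcs]
  have hs2 : c * s₀ * c⁻¹ * (c * s₀ * c⁻¹) = 1 := by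
    rw [show c * s₀ * c⁻¹ * (c * s₀ * c⁻¹) = c * (s₀ * s₀) * c⁻¹ by group, hs₀2]; group
  have hq := L.mem_of_pi_eq hg hs hsπ.symm
  have := psi_zero_sq' L hs (hsπ ▸ hσ) hs2 hq (by rwa [inv_mul_cancel_right])
  rwa [inv_mul_cancel_right] at this

/-- An element fixing five involutions of a frame is central. -/
theorem central_of_fix' {b : Fin 5 → G} (hbQ : ∀ j, b j ∈ Q)
    (hψ : ∀ j, Frame.psi a (b j) = sing j) {c : G} (hc : c ∈ Cz z)
    (hfix : ∀ j, c * b j * c⁻¹ = b j) : c = 1 ∨ c = z := by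
  have hπ : π c = 1 := by
    ext1 j
    refine sing_inj _ _ ?_
    have h := L.psi_conj hc (hbQ j)
    rw [hfix, hψ, act_sing] at h
    exact h.symm
  have hQc : c ∈ Q := (L.pi_ker c hc).1 hπ
  refine L.frame.gen.center_iff c hQc fun q hq => ?_
  have hmem : q ∈ Subgroup.centralizer ({c} : Set G) := by
    refine L.frame.mem_of_gens (Subgroup.mem_centralizer_singleton_iff.2 (Loc.memC.1 hc).symm) (fun j => ?_) hq
    have hb : b j * c = c * b j := (mul_inv_eq_iff_eq_mul.1 (hfix j)).symm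
    rcases L.frame.eq_or_of_psi_eq (hbQ j) (L.frame.mem j) ((hψ j).trans (L.frame.psi_a _).symm) with e | e
    · exact Subgroup.mem_centralizer_singleton_iff.2 (e ▸ hb)
    · have h2 : a j = z * b j := by rw [e, ← mul_assoc, L.zsq, one_mul]
      rw [Subgroup.mem_centralizer_singleton_iff, h2, mul_assoc, hb, ← mul_assoc, ← Loc.memC.1 hc, mul_assoc]
  exact (Subgroup.mem_centralizer_singleton_iff.1 hmem).symm

set_option maxHeartbeats 2000000 in
theorem exists_core {s₀ : G} (hs₀ : s₀ ∈ Cz z) (hs₀2 : s₀ * s₀ = 1) (hs₀Q : s₀ ∉ Q) :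
    ∃ b S w x, Core z b S w x := by
  classical
  haveI : Fact (Nat.Prime 3) := ⟨Nat.prime_three⟩
  have hgen := L.frame.gen
  have hpsic : ∀ {c u : G} {i : Fin 5}, c ∈ Cz z → u ∈ Q → Frame.psi a u = sing i →
      Frame.psi a (c * u * c⁻¹) = sing (π c i) := fun {c u i} hc hu h => by
    rw [L.psi_conj hc hu, h, act_sing]
  -- the element of order three
  have hQ4 : ∀ q ∈ Q, q ^ 4 = 1 := fun q hq => by
    rw [show q ^ 4 = (q * q) * (q * q) by simp [pow_succ, mul_assoc]]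
    rcases hgen.square q hq with h | h <;> rw [h] <;> simp [L.zsq]
  obtain ⟨x, hxC, hπx, hx3⟩ : ∃ x ∈ Cz z, π x = σR ∧ x ^ 3 = 1 := by
    obtain ⟨x₀, hx₀, hπ₀⟩ := L.pi_surj σR (by decide)
    refine ⟨x₀ ^ 4, pow_mem hx₀ 4, by rw [pi_pow' L hx₀, hπ₀]; decide, ?_⟩
    rw [← pow_mul, show 4 * 3 = 3 * 4 from rfl, pow_mul]
    refine hQ4 _ ((L.pi_ker _ (pow_mem hx₀ 3)).1 ?_)
    rw [pi_pow' L hx₀, hπ₀]; decide
  have hxord : orderOf x = 3 := orderOf_eq_prime hx3 fun e => by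
    rw [e, L.pi_one] at hπx; exact absurd hπx (by decide)
  have hxxx : x * x * x = 1 := by rw [← hx3]; simp [pow_succ, mul_assoc]
  have hfix3 : ∀ u ∈ Q, ∀ k, Frame.psi a u = sing k → σR k = k → x * u * x⁻¹ = u := by
    intro u hu k hku hσ
    rcases L.frame.eq_or_of_psi_eq (L.norm x hxC _ hu) hu (by rw [hpsic hxC hu hku, hπx, hσ, hku]) with e | e
    · exact e
    · exfalso
      have h3 : x ^ 3 * u * (x ^ 3)⁻¹ = z * u := by
        rw [show x ^ 3 * u * (x ^ 3)⁻¹ = x * (x * (x * u * x⁻¹) * x⁻¹) * x⁻¹ by simp [pow_succ, mul_assoc], e,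
          L.conj_zmul hxC, e, ← mul_assoc z z, L.zsq, one_mul, e]
      rw [hx3] at h3
      simp at h3
      exact L.zne h3
  -- the five involutions
  obtain ⟨s0, s1, s2, s3, s4, w0, w1, w2, w3, w4, r0, r1, r2, r3, r4⟩ := perm_table
  set b₁ := a 1 with hb₁
  set b₂ := x * b₁ * x⁻¹ with hb₂
  set b₃ := x * b₂ * x⁻¹ with hb₃
  have hb₁Q : b₁ ∈ Q := L.frame.mem 1
  have hb₂Q : b₂ ∈ Q := L.norm x hxC _ hb₁Q
  have hb₃Q : b₃ ∈ Q := L.norm x hxC _ hb₂Q
  have hb₄Q : a 4 ∈ Q := L.frame.mem 4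
  have p₁ : Frame.psi a b₁ = sing 1 := L.frame.psi_a 1
  have p₂ : Frame.psi a b₂ = sing 2 := by rw [hb₂, hpsic hxC hb₁Q p₁, hπx, r1]
  have p₃ : Frame.psi a b₃ = sing 3 := by rw [hb₃, hpsic hxC hb₂Q p₂, hπx, r2]
  obtain ⟨f, hfQ, hff, hfne, hψf, hprod⟩ :
      ∃ f : G, f ∈ Q ∧ f * f = 1 ∧ f ≠ z ∧ Frame.psi a f = sing 0 ∧ f * b₁ * b₂ * b₃ * a 4 = z := by
    have h0 : Frame.psi a (a 0 * b₁ * b₂ * b₃ * a 4) = 0 := by
      rw [L.frame.psi_mul (mul_mem (mul_mem (mul_mem (L.frame.mem 0) hb₁Q) hb₂Q) hb₃Q) hb₄Q,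
        L.frame.psi_mul (mul_mem (mul_mem (L.frame.mem 0) hb₁Q) hb₂Q) hb₃Q,
        L.frame.psi_mul (mul_mem (L.frame.mem 0) hb₁Q) hb₂Q, L.frame.psi_mul (L.frame.mem 0) hb₁Q,
        L.frame.psi_a, p₁, p₂, p₃, L.frame.psi_a]
      decide
    have hne : ∀ u, Frame.psi a u = sing (0 : Fin 5) → u ≠ z := fun u h e => by
      rw [e, L.psi_z] at h; exact sing_ne_zero 0 h.symm
    rcases L.frame.psi_eq_zero (mul_mem (mul_mem (mul_mem (mul_mem (L.frame.mem 0) hb₁Q) hb₂Q) hb₃Q) hb₄Q)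
      h0 with h | h
    · have hψ' : Frame.psi a (z * a 0) = sing 0 := by
        rw [L.frame.psi_mul hgen.mem (L.frame.mem 0), L.psi_z, zero_add, L.frame.psi_a]
      refine ⟨z * a 0, mul_mem hgen.mem (L.frame.mem 0), ?_, hne _ hψ', hψ', ?_⟩
      · rw [show z * a 0 * (z * a 0) = z * (a 0 * z) * a 0 by group, (hgen.comm_z _ (L.frame.mem 0)).eq,
          ← mul_assoc, L.zsq, one_mul, L.frame.invol]
      · rw [show z * a 0 * b₁ * b₂ * b₃ * a 4 = z * (a 0 * b₁ * b₂ * b₃ * a 4) by group, h, mul_one]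
    · exact ⟨a 0, L.frame.mem 0, L.frame.invol 0, hne _ (L.frame.psi_a 0), L.frame.psi_a 0, h⟩
  let b : Fin 5 → G := ![f, b₁, b₂, b₃, a 4]
  have hbQ : ∀ j, b j ∈ Q := by intro j; fin_cases j <;> simp [b, hfQ, hb₁Q, hb₂Q, hb₃Q, hb₄Q]
  have hψ : ∀ j, Frame.psi a (b j) = sing j := by
    intro j; fin_cases j <;> simp [b, hψf, p₁, p₂, p₃, L.frame.psi_a]
  have hsqc : ∀ (c : G) (u : G), u * u = 1 → (c * u * c⁻¹) * (c * u * c⁻¹) = 1 := fun c u h => by
    rw [show c * u * c⁻¹ * (c * u * c⁻¹) = c * (u * u) * c⁻¹ by group, h]; group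
  have hb2 : ∀ j, b j * b j = 1 := by
    have h1 : b₁ * b₁ = 1 := L.frame.invol 1
    intro j
    fin_cases j
    · exact hff
    · exact h1
    · exact hsqc _ _ h1
    · exact hsqc _ _ (hsqc _ _ h1)
    · exact L.frame.invol 4
  have hcb : ∀ p q, p ≠ q → cb (b p) (b q) = 1 := fun p q hpq => by
    rw [L.frame.cb_eq_dot (hbQ p) (hbQ q), hψ, hψ]
    exact (sing_add_not _ _ hpq).2
  have hswap : ∀ p q, p ≠ q → b p * b q = z * (b q * b p) := fun p q hpq => by
    have := cb_spec hgen (hbQ p) (hbQ q)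
    rwa [hcb p q hpq, zp_one] at this
  have ax3 : x * b₃ * x⁻¹ = b₁ := by
    rw [hb₃, hb₂, show x * (x * (x * b₁ * x⁻¹) * x⁻¹) * x⁻¹ = x ^ 3 * b₁ * (x ^ 3)⁻¹ by simp [pow_succ, mul_assoc], hx3]; group
  have actx : ∀ j, x * b j * x⁻¹ = b (σR j) := by
    intro j
    fin_cases j
    · simpa [r0, b] using hfix3 f hfQ 0 hψf r0
    · simp [r1, b, hb₂]
    · simp [r2, b, hb₃]
    · simpa [r3, b] using ax3
    · simpa [r4, b] using hfix3 _ hb₄Q 4 (L.frame.psi_a 4) r4
  -- the involution `S`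
  obtain ⟨S₀, hS₀C, hS₀a⟩ : ∃ S₀ ∈ Cz z, ∀ j, S₀ * b j * S₀⁻¹ = b (σS j) := by
    have hsgn : Equiv.Perm.sign σS = 1 := sign_σS
    obtain ⟨c, hc, hcπ⟩ := L.pi_surj _ hsgn
    have hcj : ∀ j, ∃ e : ZMod 2, c * b j * c⁻¹ = zp z e * b (σS j) := by
      intro j
      rcases L.frame.eq_or_of_psi_eq (L.norm c hc _ (hbQ j)) (hbQ (σS j))
        (by rw [hpsic hc (hbQ j) (hψ j), hψ, hcπ]) with e | e
      · exact ⟨0, by rw [e, zp_zero, one_mul]⟩
      · exact ⟨1, by rw [e, zp_one]⟩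
    choose ε hε using hcj
    have key : ∀ (u : G) (s s' : ZMod 2) (p : Fin 5), u ∈ Q →
        zp z s * u * (zp z s' * b p) = zp z (s + s') * (u * b p) := fun u s s' p hu => by
      calc zp z s * u * (zp z s' * b p) = zp z s * (u * zp z s') * b p := by group
        _ = _ := by rw [zp_comm hgen hu, zp_add L.zsq]; group
    have hsum : ε 0 + ε 1 + ε 2 + ε 3 + ε 4 = 0 := by
      have hP : b 0 * b 1 * b 2 * b 3 * b 4 = z := by simpa [b] using hprod
      have h1 : c * (b 0 * b 1 * b 2 * b 3 * b 4) * c⁻¹ = z := by rw [hP, L.conj_z hc]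
      rw [show c * (b 0 * b 1 * b 2 * b 3 * b 4) * c⁻¹ = (c * b 0 * c⁻¹) * (c * b 1 * c⁻¹) *
        (c * b 2 * c⁻¹) * (c * b 3 * c⁻¹) * (c * b 4 * c⁻¹) by group, hε, hε, hε, hε, hε, s0, s1, s2, s3, s4,
        key _ _ _ _ (hbQ 1), key _ _ _ _ (mul_mem (hbQ 1) (hbQ 0)),
        key _ _ _ _ (mul_mem (mul_mem (hbQ 1) (hbQ 0)) (hbQ 2)),
        key _ _ _ _ (mul_mem (mul_mem (mul_mem (hbQ 1) (hbQ 0)) (hbQ 2)) (hbQ 4))] at h1
      have hre : b 1 * b 0 * b 2 * b 4 * b 3 = z := by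
        have hm : b 0 * b 1 * b 2 ∈ Q := mul_mem (mul_mem (hbQ 0) (hbQ 1)) (hbQ 2)
        calc b 1 * b 0 * b 2 * b 4 * b 3 = z * (b 0 * b 1) * b 2 * (b 4 * b 3) := by
              rw [← hswap 1 0 (by decide)]; group
          _ = z * (b 0 * b 1) * b 2 * (z * (b 3 * b 4)) := by rw [hswap 4 3 (by decide)]
          _ = z * ((b 0 * b 1 * b 2) * z) * (b 3 * b 4) := by group
          _ = z * (z * (b 0 * b 1 * b 2)) * (b 3 * b 4) := by rw [(hgen.comm_z _ hm).eq]
          _ = b 0 * b 1 * b 2 * b 3 * b 4 := by rw [← mul_assoc z z, L.zsq]; group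
          _ = z := hP
      rw [hre] at h1
      exact zp_inj L.zne ((mul_eq_right.1 h1).trans (zp_zero z).symm)
    let v : V5 := fun p => ε (σS⁻¹ p)
    have hv : Ev v := by
      show ∑ p, v p = 0
      have : ∑ p, v p = ∑ j, ε j := Equiv.sum_comp σS⁻¹ ε
      rw [this, Fin.sum_univ_five]; exact hsum
    obtain ⟨q, hq, hqv⟩ := L.frame.psi_surj le_rfl L.frame.mem hv
    have hqb : ∀ j, q * b (σS j) * q⁻¹ = zp z (ε j) * b (σS j) := by
      intro j
      have h1 : cb q (b (σS j)) = ε j := by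
        rw [cb_comm, L.frame.cb_eq_dot (hbQ _) hq, hψ, hqv, dot_sing v hv]
        simp [v]
      rw [cb_spec hgen hq (hbQ _), h1]; group
    refine ⟨q * c, mul_mem (L.le hq) hc, fun j => ?_⟩
    rw [← conj_assoc, hε, show q * (zp z (ε j) * b (σS j)) * q⁻¹ =
      (q * zp z (ε j)) * b (σS j) * q⁻¹ by group, zp_comm hgen hq, mul_assoc, mul_assoc,
      ← mul_assoc q, hqb, ← mul_assoc, ← zp_add L.zsq, CharTwo.add_self_eq_zero, zp_zero, one_mul]
  have hσS2 : ∀ j, σS (σS j) = j := by decide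
  have hzcomm : ∀ c ∈ Cz z, z * c = c * z := fun c hc => (Loc.memC.1 hc).symm
  have hbC : ∀ j, b j ∈ Cz z := fun j => L.le (hbQ j)
  have hzb : ∀ j, z * b j * z⁻¹ = b j := fun j => mul_inv_eq_iff_eq_mul.2 (hzcomm _ (hbC j))
  have hS₀2 : S₀ * S₀ = 1 := by
    have hc : S₀ * S₀ ∈ Cz z := mul_mem hS₀C hS₀C
    have hQn : S₀ ∉ Q := fun h => by
      have h0 := hpsic hS₀C (hbQ 0) (hψ 0)
      rw [(L.pi_ker S₀ hS₀C).2 h, hS₀a, hψ, s0] at h0
      exact absurd (sing_inj _ _ h0) (by decide)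
    exact sq_lemma' L hs₀ hs₀2 hs₀Q hS₀C hQn (central_of_fix' L hbQ hψ hc fun j => by
      rw [← conj_assoc, hS₀a, hS₀a, hσS2])
  obtain ⟨S, hSC, hS2, hSa, hS5⟩ : ∃ S ∈ Cz z, S * S = 1 ∧ (∀ j, S * b j * S⁻¹ = b (σS j)) ∧
      (S * x) ^ 5 = 1 := by
    have h := central_of_fix' L hbQ hψ (c := (S₀ * x) ^ 5) (pow_mem (mul_mem hS₀C hxC) 5) fun j => by
      have e1 : ∀ j, (S₀ * x) * b j * (S₀ * x)⁻¹ = b ((σS * σR) j) := fun j => by
        rw [← conj_assoc, actx, hS₀a]; rfl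
      have e : ∀ (n : ℕ) j, (S₀ * x) ^ n * b j * ((S₀ * x) ^ n)⁻¹ = b (((σS * σR) ^ n) j) := by
        intro n
        induction n with
        | zero => intro j; simp
        | succ n ih => intro j; rw [pow_succ', ← conj_assoc, ih, e1]; rw [pow_succ' (σS * σR)]; rfl
      rw [e, show (σS * σR) ^ 5 = 1 by decide]; rfl
    rcases h with h | h
    · exact ⟨S₀, hS₀C, hS₀2, hS₀a, h⟩
    · refine ⟨z * S₀, mul_mem (Loc.memC.2 rfl) hS₀C, ?_, fun j => ?_, ?_⟩
      · rw [show z * S₀ * (z * S₀) = z * (S₀ * z) * S₀ by group, ← hzcomm S₀ hS₀C,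
          ← mul_assoc, L.zsq, one_mul, hS₀2]
      · rw [← conj_assoc, hS₀a, hzb]
      · rw [mul_assoc, (show Commute z (S₀ * x) from hzcomm _ (mul_mem hS₀C hxC)).mul_pow, h,
          show z ^ 5 = z * z * (z * z) * z by simp [pow_succ, mul_assoc], L.zsq]
        simp [L.zsq]
  -- the four-group element
  have hT := tableA hS2 hxxx hS5
  have calcA : ∀ u v : List Nat, sameT TA.Tb 3 u v = true → ev (LAof S x) u = ev (LAof S x) v := fun u v h =>
    ev_eq_of_sameT hT (by norm_num) (show (LAof S x).length = 3 from rfl) h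
  set w := ev (LAof S x) [2, 0, 2, 0, 1, 0, 1] with hwdef
  have hwC : w ∈ Cz z := by
    simp only [hwdef, LAof, fl, ev_cons, ev_nil, mul_one, List.getD_eq_getElem?_getD, List.getElem?_cons_succ,
      List.getElem?_cons_zero, Option.getD_some]
    exact mul_mem (inv_mem hxC) (mul_mem hSC (mul_mem (inv_mem hxC) (mul_mem hSC (mul_mem hxC (mul_mem hSC hxC)))))
  have hw2 : w * w = 1 := by
    have := calcA ([2, 0, 2, 0, 1, 0, 1] ++ [2, 0, 2, 0, 1, 0, 1]) [] (by decide +kernel)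
    rwa [ev_append, ← hwdef, ev_nil] at this
  have winv : w⁻¹ = w := inv_eq_of_mul_eq_one_right hw2
  have hword : ev (LCof z b S w x) [6, 8, 5, 8, 5, 7, 5, 7] = 1 := by
    have he : ev (LCof z b S w x) [6, 8, 5, 8, 5, 7, 5, 7] = w * ev (LAof S x) [2, 0, 2, 0, 1, 0, 1] := by
      simp [LCof, LAof, fl]
    rw [he, ← hwdef, hw2]
  have hxw3 : x * w * (x * w) * (x * w) = 1 := by
    have := calcA ([1] ++ [2, 0, 2, 0, 1, 0, 1] ++ ([1] ++ [2, 0, 2, 0, 1, 0, 1]) ++ ([1] ++ [2, 0, 2, 0, 1, 0, 1]))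
      [] (by decide +kernel)
    simp only [ev_append, ← hwdef, ev_nil] at this
    simpa [LAof, fl] using this
  have actw : ∀ j, w * b j * w⁻¹ = b (σW j) := by
    have hperm : ∀ j, (permW [8, 5, 8, 5, 7, 5, 7]) j = σW j := by decide
    intro j
    have step : ∀ (c u : G) (σ τ : Equiv.Perm (Fin 5)), (∀ j, c * b j * c⁻¹ = b (σ j)) →
        (∀ j, u * b j * u⁻¹ = b (τ j)) → ∀ j, c * u * b j * (c * u)⁻¹ = b ((σ * τ) j) :=
      fun c u σ τ hc hu j => by rw [← conj_assoc, hu, hc]; rfl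
    have axi : ∀ j, x⁻¹ * b j * x⁻¹⁻¹ = b (σR⁻¹ j) := fun j => by
      have h := actx (σR⁻¹ j)
      rw [show σR (σR⁻¹ j) = j from Equiv.apply_symm_apply σR j] at h
      rw [← h]; group
    have := step _ _ _ _ axi (step _ _ _ _ hSa (step _ _ _ _ axi (step _ _ _ _ hSa (step _ _ _ _ actx
      (step _ _ _ _ hSa actx))))) j
    rw [← hperm j]
    simpa [hwdef, LAof, fl, permW, permC, mul_assoc] using this
  have A : Act z b S w x := ⟨hzb, hSa, actw, actx⟩
  have hrel : ∀ u ∈ relsC, ev (LCof z b S w x) u = 1 := by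
    have hP : b 0 * b 1 * b 2 * b 3 * b 4 = z := by simpa [b] using hprod
    have hzz := L.zsq
    have hzc : ∀ c ∈ Cz z, z * (c * (z * c⁻¹)) = 1 := fun c hc => by
      rw [← mul_assoc c, ← hzcomm c hc, mul_assoc, mul_inv_cancel, mul_one, hzz]
    have binv : ∀ j, (b j)⁻¹ = b j := fun j => inv_eq_of_mul_eq_one_right (hb2 j)
    have Sinv : S⁻¹ = S := inv_eq_of_mul_eq_one_right hS2
    have hz2 : ∀ p q, p ≠ q → b p * (b q * (b p * (b q * z))) = 1 := fun p q hpq => by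
      calc b p * (b q * (b p * (b q * z))) = (b p * b q) * (b p * b q) * z := by group
        _ = z * (b q * b p) * (b p * b q) * z := by nth_rewrite 1 [hswap p q hpq]; rfl
        _ = z * (b q * (b p * b p) * b q) * z := by group
        _ = 1 := by rw [hb2, mul_one, hb2, mul_one, hzz]
    have hact : ∀ (c ci : G) (σ : Equiv.Perm (Fin 5)), ci = c⁻¹ → (∀ j, c * b j * c⁻¹ = b (σ j)) →
        ∀ j, c * (b j * (ci * b (σ j))) = 1 := fun c ci σ hci h j => by
      rw [hci, show c * (b j * (c⁻¹ * b (σ j))) = c * b j * c⁻¹ * b (σ j) by group, h, hb2]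
    have gS := hact S S σS Sinv.symm hSa
    have gw := hact w w σW winv.symm actw
    have gx := hact x x⁻¹ σR rfl actx
    intro u hu
    simp only [relsC, List.mem_cons, List.not_mem_nil, or_false] at hu
    repeat' rcases hu with rfl | hu
    all_goals simp only [ev_cons, ev_nil, mul_one, LCof, fl, List.getD_eq_getElem?_getD,
      List.length_cons, List.length_nil, List.getElem?_cons_succ, List.getElem?_cons_zero,
      Option.getD_some, zero_add, Nat.reduceAdd]
    all_goals first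
      | exact mul_inv_cancel _
      | exact inv_mul_cancel _
      | exact hb2 _
      | exact hS2
      | exact hw2
      | exact hzz
      | exact hz2 _ _ (by decide)
      | (have h := hzc _ (hbC 0); rw [binv] at h; exact h)
      | (have h := hzc _ (hbC 1); rw [binv] at h; exact h)
      | (have h := hzc _ (hbC 2); rw [binv] at h; exact h)
      | (have h := hzc _ (hbC 3); rw [binv] at h; exact h)
      | (have h := hzc _ (hbC 4); rw [binv] at h; exact h)
      | (have h := hzc _ hSC; rw [Sinv] at h; exact h)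
      | (have h := hzc _ hwC; rw [winv] at h; exact h)
      | exact hzc _ hxC
      | (simp only [← mul_assoc]; rw [hP, hzz])
      | (have h := gS 0; rw [s0] at h; exact h)
      | (have h := gS 1; rw [s1] at h; exact h)
      | (have h := gS 2; rw [s2] at h; exact h)
      | (have h := gS 3; rw [s3] at h; exact h)
      | (have h := gS 4; rw [s4] at h; exact h)
      | (have h := gw 0; rw [w0] at h; exact h)
      | (have h := gw 1; rw [w1] at h; exact h)
      | (have h := gw 2; rw [w2] at h; exact h)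
      | (have h := gw 3; rw [w3] at h; exact h)
      | (have h := gw 4; rw [w4] at h; exact h)
      | (have h := gx 0; rw [r0] at h; exact h)
      | (have h := gx 1; rw [r1] at h; exact h)
      | (have h := gx 2; rw [r2] at h; exact h)
      | (have h := gx 3; rw [r3] at h; exact h)
      | (have h := gx 4; rw [r4] at h; exact h)
      | (simpa [mul_assoc] using hxxx)
      | (simpa [mul_assoc] using hxw3)
      | (simpa [pow_succ, mul_assoc] using hS5)
      | (simpa [LCof, fl, mul_assoc] using hword)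
  -- generation
  have hspan : Subgroup.closure {v | v ∈ LCof z b S w x} = Cz z := by
    apply le_antisymm
    · rw [Subgroup.closure_le]
      intro v hv
      simp only [LCof, List.mem_cons, List.not_mem_nil, or_false, Set.mem_setOf_eq] at hv
      rcases hv with rfl | rfl | rfl | rfl | rfl | rfl | rfl | rfl | rfl | rfl
      exacts [hbC 0, hbC 1, hbC 2, hbC 3, hbC 4, hSC, hwC, hxC, inv_mem hxC, Loc.memC.2 rfl]
    · intro c hc
      set H := Subgroup.closure {v | v ∈ LCof z b S w x} with hH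
      have hmem : ∀ v ∈ LCof z b S w x, v ∈ H := fun v hv => Subgroup.subset_closure hv
      have hzH : z ∈ H := hmem z (by simp [LCof])
      have hbH : ∀ j, b j ∈ H := fun j => hmem _ (by fin_cases j <;> simp [LCof])
      have hQH : ∀ q ∈ Q, q ∈ H := fun q hq => by
        refine L.frame.mem_of_gens hzH (fun p => ?_) hq
        rcases L.frame.eq_or_of_psi_eq (L.frame.mem p) (hbQ p) (by rw [L.frame.psi_a, hψ]) with e | e
        · rw [e]; exact hbH p
        · rw [e]; exact mul_mem hzH (hbH p)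
      have hsgn : Equiv.Perm.sign (π c) = 1 := L.pi_sign c hc
      obtain ⟨u, hu, hup⟩ := exists_alt_word hsgn
      have hul : ∀ m ∈ altW u, 5 ≤ m := by
        intro m hm
        obtain ⟨p, hp, rfl⟩ := List.mem_map.1 hm
        rcases lt_or_ge p 3 with h | h
        · interval_cases p <;> norm_num
        · rw [List.getD_eq_default _ _ (by simpa using h)]; norm_num
      set e := ev (LCof z b S w x) (altW u) with he
      have hall : ∀ v : List Nat, ev (LCof z b S w x) v ∈ Cz z ⊓ H := by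
        intro v
        induction v with
        | nil => exact one_mem _
        | cons p v ih =>
          rw [ev_cons]
          refine mul_mem ?_ ih
          rcases lt_or_ge p 10 with h | h
          · interval_cases p
            exacts [⟨hbC 0, hbH 0⟩, ⟨hbC 1, hbH 1⟩, ⟨hbC 2, hbH 2⟩, ⟨hbC 3, hbH 3⟩, ⟨hbC 4, hbH 4⟩,
              ⟨hSC, hmem _ (by simp [LCof, fl])⟩, ⟨hwC, hmem _ (by simp [LCof, fl])⟩,
              ⟨hxC, hmem _ (by simp [LCof, fl])⟩, ⟨(Cz z).inv_mem hxC, hmem _ (by simp [LCof, fl])⟩,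
              ⟨Loc.memC.2 rfl, hzH⟩]
          · rw [fl_of_le _ (by simpa [LCof] using h)]; exact one_mem _
      have heC := (hall (altW u)).1
      have hπe : π e = π c := by
        ext1 p
        refine sing_inj _ _ ?_
        have h1 := hpsic heC (hbQ p) (hψ p)
        rw [A.conj_word _ hul p, hψ, hup] at h1
        exact h1.symm
      have := hQH _ (L.mem_of_pi_eq hc heC hπe.symm)
      simpa using mul_mem this (hall (altW u)).2
  exact ⟨b, S, w, x, hrel, hspan, L.cardC, L.zne, hfne, hxord⟩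

end

end CfsgLib.J3U
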