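import Cfsg.Agent.J3U.Center
import Cfsg.Agent.J3U.Outer
import Cfsg.Agent.J3U.Setup
import Cfsg.Agent.J3U.Amal
import Cfsg.Agent.J3U.FourExists
import Cfsg.Agent.J3U.Hom
import Cfsg.Agent.J3U.NoPair
import Cfsg.Agent.J3U.Embed
import Cfsg.Agent.J3Local.Cent

/-!
A finite simple group with one class of involutions and a centraliser `2^{1+4}.A₅` is the presented group `P`.
-/

set_option autoImplicit false
set_option linter.style.haveILetI false

namespace CfsgLib.J3U

open CfsgLib.Coset
open CfsgLib.Coset.J3 (P)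

variable {G : Type*} [Group G] [Finite G] [IsSimpleGroup G]

/-- A simple group with one class of involutions and the local data of `J₃` type is the presented group. -/
theorem isoP_of_pre (hone : ∀ x y : G, orderOf x = 2 → orderOf y = 2 → IsConj x y) {z : G} {Q : Subgroup G}
    {a : Fin 5 → G} {π : G → Equiv.Perm (Fin 5)} (L : HJT.PreLoc z Q a π) : Nonempty (P ≃* G) := by
  obtain ⟨s₀, hs, hs2, hsQ⟩ := exists_outer L hone
  obtain ⟨b, S, w, x, B⟩ := exists_core L hs hs2 hsQ
  obtain ⟨y, A₀⟩ := exists_base B hone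
  obtain ⟨y', A⟩ := exists_amal A₀
  obtain ⟨u, t, s, U⟩ := exists_four A.base hone
  obtain ⟨φ, hφ, hC, -⟩ := exists_hom A U
  haveI := J3Local.finite_P
  have hH : φ.range = ⊤ := by
    refine eq_top_of_centralizer_le φ.range L.ord_z hone hC (fun v hv hv2 => ?_) (fun D hD hodd => ?_)
    · obtain ⟨p, rfl⟩ := hv
      obtain ⟨q, hq⟩ := hC (Subgroup.mem_centralizer_singleton_iff.2 (rfl : z * z = z * z))
      have hq2 : orderOf q = 2 := by rw [← orderOf_injective φ hφ q, hq]; exact L.ord_z
      have hp2 : orderOf p = 2 := by rw [← orderOf_injective φ hφ p]; exact hv2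
      obtain ⟨c, hc⟩ := isConj_iff.1 ((J3Local.isConj_involution hq2).symm.trans (J3Local.isConj_involution hp2))
      exact ⟨φ c, ⟨c, rfl⟩, by rw [← hq, ← map_inv, ← map_mul, ← map_mul, hc]⟩
    · have e : Nat.card (D.comap φ) = Nat.card D := by
        rw [← Subgroup.card_map_of_injective hφ, Subgroup.map_comap_eq_self hD]
      have hlt := odd_lt (D.comap φ) (by rwa [e])
      rw [e] at hlt
      rw [L.cardC, show Nat.card φ.range = 50232960 by
        rw [← Nat.card_congr (MonoidHom.ofInjective hφ).toEquiv, J3.card_and_injective.1]]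
      calc Nat.card D * 1920 < 26163 * 1920 := Nat.mul_lt_mul_of_pos_right hlt (by norm_num)
        _ = 50232960 := by norm_num
  exact ⟨MulEquiv.ofBijective φ ⟨hφ, MonoidHom.range_eq_top.1 hH⟩⟩

/-- A simple group with one class of involutions and a centraliser `2^{1+4}.A₅` is the presented group. -/
theorem isoP (hone : ∀ x y : G, orderOf x = 2 → orderOf y = 2 → IsConj x y) (t : G) (ht : orderOf t = 2)
    (E : Subgroup (Subgroup.centralizer ({t} : Set G))) [E.Normal] (hE : Nat.card E = 32)
    (hX : Cfsg.IsExtraspecial 2 E)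
    (e : (Subgroup.centralizer ({t} : Set G)) ⧸ E ≃* alternatingGroup (Fin 5)) : Nonempty (P ≃* G) := by
  obtain ⟨R, a, π, L, -⟩ := HJT.exists_pre t ht _ rfl E (cq_of_simple t ht E hE hX e) hX
    (by rw [hE]; norm_num) e ⟨1, by rw [HJT.card_alt5], by
      rw [Subgroup.card_eq_one, eq_bot_iff]
      intro w hw
      exact Subgroup.mem_bot.2 (HJT.alt5_center fun h => (Subgroup.mem_center_iff.1 hw h).symm)⟩
  exact isoP_of_pre hone L

end CfsgLib.J3U
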