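import Cfsg.Agent.Coset.J3.Order
import Cfsg.Agent.PrimeGraphU34.Field
import Cfsg.Agent.Classical.SmallPSL
import Mathlib.GroupTheory.SemidirectProduct

/-!
The subgroup of index 6156 of the presented group of order 50232960 is `SL(2,16)` extended by the field
automorphism of order two.
-/

set_option autoImplicit false
set_option maxRecDepth 100000

namespace CfsgLib.J3U.SL16

open Matrix CfsgLib.Coset
open Cfsg.Agent.PrimeGraphU34 (F16)
open CfsgLib.Coset.J3 (P Lp H)

local notation "SL" => Matrix.SpecialLinearGroup (Fin 2) F16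

/-- The field automorphism of order two. -/
def σ : F16 →+* F16 where
  toFun x := x * x * (x * x)
  map_one' := by decide +kernel
  map_mul' := fun x y => by ring
  map_zero' := by decide +kernel
  map_add' := by decide +kernel

theorem σσ : ∀ x : F16, σ (σ x) = x := by decide +kernel

/-- The induced automorphism of the special linear group. -/
def σSL : MulAut SL :=
  MonoidHom.toMulEquiv (Matrix.SpecialLinearGroup.map σ) (Matrix.SpecialLinearGroup.map σ)
    (MonoidHom.ext fun g => Subtype.ext (Matrix.ext fun i j => σσ _))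
    (MonoidHom.ext fun g => Subtype.ext (Matrix.ext fun i j => σσ _))

theorem σSL_sq : σSL * σSL = 1 :=
  MulEquiv.ext fun g => Subtype.ext (Matrix.ext fun i j => σσ _)

/-- The action of the group of order two. -/
def φ : Multiplicative (ZMod 2) →* MulAut SL where
  toFun k := if k = 1 then 1 else σSL
  map_one' := by simp
  map_mul' := by
    have h : ∀ k : Multiplicative (ZMod 2), k = 1 ∨ k = Multiplicative.ofAdd 1 := by decide
    have e : (Multiplicative.ofAdd (1 : ZMod 2)) ≠ 1 := by decide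
    have ee : (Multiplicative.ofAdd (1 : ZMod 2)) * Multiplicative.ofAdd 1 = 1 := by decide
    intro x y
    rcases h x with rfl | rfl <;> rcases h y with rfl | rfl
    · simp
    · simp
    · simp
    · rw [ee, if_pos rfl, if_neg e, σSL_sq]

/-- The semilinear group. -/
abbrev Γ : Type := SL ⋊[φ] Multiplicative (ZMod 2)

/-- A matrix of determinant one from codes. -/
def mk (a b c d : Nat) (h : F16.of a * F16.of d - F16.of b * F16.of c = 1) : SL :=
  ⟨!![F16.of a, F16.of b; F16.of c, F16.of d], by rw [Matrix.det_fin_two_of]; exact h⟩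

/-- The images of the three generators. -/
def LΓ : List Γ :=
  [⟨mk 0 1 1 0 (by decide +kernel), 1⟩, ⟨mk 0 6 7 0 (by decide +kernel), 1⟩,
   ⟨mk 8 7 0 15 (by decide +kernel), Multiplicative.ofAdd 1⟩]

/-- Words for the upper transvections. -/
def upWords : List (List Nat) := [[], [0, 1, 0, 2, 1, 2, 1, 0, 2, 1, 2, 1, 2, 0, 2, 1, 0],
  [0, 2, 1, 2, 0, 1, 0, 2, 1, 2, 0], [0, 1, 2, 0, 1, 0, 2, 1, 2, 0, 1, 0, 2, 1, 2, 1, 2],
  [0, 1, 0, 2, 1, 2, 0, 1, 0, 2, 1, 2, 1, 2, 0, 1, 2], [0, 1, 2, 1, 0, 2],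
  [1, 2, 1, 2, 1, 2, 0, 1, 2, 1, 2, 1, 2], [0, 2, 1, 2, 1, 0, 2, 1, 2, 1, 2, 0, 2], [1, 0, 2, 0, 1, 2],
  [0, 1, 0, 2, 1, 2, 0, 1, 0, 2, 1, 2, 0, 2, 1, 0, 2], [0, 2, 1, 2, 0, 1, 0, 2, 1, 2, 0, 1, 0, 2, 0, 1, 2],
  [0, 1, 2, 0, 1, 0, 2, 1, 2, 1, 2, 0, 1, 2, 1, 2, 1], [0, 1, 0, 2, 1, 2, 0, 1, 0, 2, 1, 2, 0, 1, 0],
  [0, 1, 2, 0, 1, 2, 0, 1], [1, 2, 1, 2, 0, 1, 0, 2, 1, 2, 1],
  [0, 2, 1, 2, 0, 1, 0, 2, 1, 2, 1, 2, 0, 1, 2, 0, 1]]

theorem det_up (t : F16) : (!![1, t; 0, 1] : Matrix (Fin 2) (Fin 2) F16).det = 1 := by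
  simp [Matrix.det_fin_two_of]

/-- The upper transvection. -/
def up (t : F16) : SL := ⟨!![1, t; 0, 1], det_up t⟩

/-- Entrywise comparison of two elements. -/
def same (g h : Γ) : Bool :=
  decide (g.right = h.right) && decide (g.left.1 0 0 = h.left.1 0 0) && decide (g.left.1 0 1 = h.left.1 0 1) &&
    decide (g.left.1 1 0 = h.left.1 1 0) && decide (g.left.1 1 1 = h.left.1 1 1)

theorem eq_of_same {g h : Γ} (e : same g h = true) : g = h := by
  simp only [same, Bool.and_eq_true, decide_eq_true_eq] at e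
  refine SemidirectProduct.ext (Subtype.ext (Matrix.ext fun i j => ?_)) e.1.1.1.1
  fin_cases i <;> fin_cases j
  · exact e.1.1.1.2
  · exact e.1.1.2
  · exact e.1.2
  · exact e.2

theorem rels_Γ : ∀ w ∈ CfsgLib.Coset.J3.K.lrels, ev LΓ w = 1 := by
  have h : (CfsgLib.Coset.J3.K.lrels.all fun w => same (ev LΓ w) 1) = true := by decide +kernel
  exact fun w hw => eq_of_same (List.all_eq_true.mp h w hw)

theorem ups_Γ : ∀ t : F16, ev LΓ (upWords.getD t.val.val []) = SemidirectProduct.inl (up t) := by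
  have h : ∀ t : F16, same (ev LΓ (upWords.getD t.val.val [])) (SemidirectProduct.inl (up t)) = true := by
    decide +kernel
  exact fun t => eq_of_same (h t)

/-- The hom from the three-generator presentation. -/
abbrev Hp : Type := NumGr 3 CfsgLib.Coset.J3.K.lrels

/-- The map to the semilinear group. -/
noncomputable def ψ : Hp →* Γ := numHom (L := LΓ) rfl rels_Γ

theorem ψ_surjective : Function.Surjective ψ := by
  rw [← MonoidHom.range_eq_top]
  set R := ψ.range with hR
  have hev : ∀ w, ev LΓ w ∈ R := fun w => ⟨ev (numGens 3 CfsgLib.Coset.J3.K.lrels) w, numHom_ev rfl rels_Γ w⟩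
  have hU : ∀ t, SemidirectProduct.inl (up t) ∈ R := fun t => ups_Γ t ▸ hev _
  set W : SL := mk 0 1 1 0 (by decide +kernel) with hW
  have hWm : SemidirectProduct.inl W ∈ R := by
    have h := hev [0]
    rwa [ev_cons, ev_nil, mul_one, show fl LΓ 0 = SemidirectProduct.inl W from eq_of_same (by decide +kernel)] at h
  have hlow : ∀ t, SemidirectProduct.inl (W * up t * W) ∈ R := fun t => by
    rw [map_mul, map_mul]; exact mul_mem (mul_mem hWm (hU t)) hWm
  have lowval : ∀ t, (W * up t * W).1 = !![1, 0; t, 1] := fun t => by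
    rw [Matrix.SpecialLinearGroup.coe_mul, Matrix.SpecialLinearGroup.coe_mul]
    ext i j
    fin_cases i <;> fin_cases j <;>
      simp [hW, mk, up, Matrix.SpecialLinearGroup.coe_mul, Matrix.mul_apply, Fin.sum_univ_two, F16.of_zero,
        show F16.of 1 = 1 from rfl]
  have two : ∀ x : F16, -x = x := fun _ => rfl
  have main : ∀ g : SL, g.1 1 0 ≠ 0 → SemidirectProduct.inl g ∈ R := by
    intro g hc
    have hd : g.1 0 0 * g.1 1 1 - g.1 0 1 * g.1 1 0 = 1 := by rw [← Matrix.det_fin_two]; exact g.2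
    have e : g = up ((g.1 0 0 - 1) / g.1 1 0) * (W * up (g.1 1 0) * W) * up ((g.1 1 1 - 1) / g.1 1 0) := by
      refine Subtype.ext ?_
      rw [Matrix.SpecialLinearGroup.coe_mul, Matrix.SpecialLinearGroup.coe_mul, lowval]
      simp only [up, Matrix.mul_fin_two]
      ext i j
      fin_cases i <;> fin_cases j <;> simp <;> field_simp <;>
        first
          | ring1
          | linear_combination -hd
          | linear_combination hd
    rw [e, map_mul, map_mul]
    exact mul_mem (mul_mem (hU _) (hlow _)) (hU _)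
  have hSL : ∀ g : SL, SemidirectProduct.inl g ∈ R := by
    intro g
    by_cases hc : g.1 1 0 = 0
    · have ha : g.1 0 0 ≠ 0 := fun ha => by
        have hd : g.1 0 0 * g.1 1 1 - g.1 0 1 * g.1 1 0 = 1 := by rw [← Matrix.det_fin_two]; exact g.2
        rw [ha, hc] at hd; simp at hd
      have h1 := main (W * up 1 * W * g) (by
        rw [Matrix.SpecialLinearGroup.coe_mul, lowval]
        simpa [Matrix.mul_apply, Fin.sum_univ_two, hc] using ha)
      rw [map_mul] at h1
      exact (mul_mem_cancel_left (hlow 1)).1 h1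
    · exact main g hc
  refine eq_top_iff.2 fun g _ => ?_
  rw [← SemidirectProduct.inl_left_mul_inr_right g]
  refine mul_mem (hSL _) ?_
  rcases (by decide : ∀ k : Multiplicative (ZMod 2), k = 1 ∨ k = Multiplicative.ofAdd 1) g.right with h | h <;>
    rw [h]
  · rw [map_one]; exact one_mem _
  · have h2 := hev [2]
    rw [ev_cons, ev_nil, mul_one, ← SemidirectProduct.inl_left_mul_inr_right (fl LΓ 2)] at h2
    exact (mul_mem_cancel_left (hSL _)).1 h2

theorem le_card_SL {F : Type*} [Field F] [Fintype F] (hF : Fintype.card F = 16) :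
    4080 ≤ Nat.card (Matrix.SpecialLinearGroup (Fin 2) F) := by
  have h := CfsgLib.Linear.Small.card_psl_two hF
  rw [show Nat.gcd 2 (16 - 1) = 1 by decide, one_mul] at h
  have h2 : Nat.card (Matrix.ProjectiveSpecialLinearGroup (Fin 2) F) ≤
      Nat.card (Matrix.SpecialLinearGroup (Fin 2) F) :=
    Nat.card_le_card_of_surjective _ Quotient.mk''_surjective
  omega

theorem le_card_Γ : 8160 ≤ Nat.card Γ := by
  have h := le_card_SL F16.card_eq
  rw [Nat.card_congr SemidirectProduct.equivProd, Nat.card_prod,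
    show Nat.card (Multiplicative (ZMod 2)) = 2 by simp]
  omega

theorem card_Hp : Finite Hp ∧ Nat.card Hp ≤ 8160 := by
  have hlen : (numGens 3 CfsgLib.Coset.J3.K.lrels).length = 3 := length_numGens
  have hinv : ∀ x, fl (numGens 3 CfsgLib.Coset.J3.K.lrels) (id x) =
      (fl (numGens 3 CfsgLib.Coset.J3.K.lrels) x)⁻¹ := fun x => by
    rw [id, inv_eq_of_mul_eq_one_right (sq_numGens (by decide +kernel) x)]
  have ht : TableOK (numGens 3 CfsgLib.Coset.J3.K.lrels) (⊥ : Subgroup Hp) CfsgLib.Coset.J3.K.E id 8160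
      CfsgLib.Coset.J3.K.Rep CfsgLib.Coset.J3.K.Tb :=
    tableOK_of_check hinv CfsgLib.Coset.J3.K.hR (hlen.symm ▸ CfsgLib.Coset.J3.K.hdefs)
      (hlen.symm ▸ CfsgLib.Coset.J3.K.hsteps) (hlen.symm ▸ CfsgLib.Coset.J3.K.htable) ev_numGens
      (fun u hu => by simp [CfsgLib.Coset.J3.K.subs] at hu)
  obtain ⟨hf, hc⟩ := ht.finite_card_le (by norm_num) bot_le inferInstance (m := 1) (by simp)
  rw [closure_numGens] at hf hc
  rw [Subgroup.card_top] at hc
  exact ⟨Finite.of_equiv _ Subgroup.topEquiv.toEquiv, by simpa using hc⟩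

/-- The subgroup of index 6156 is the semilinear group. -/
theorem nonempty_equiv : Nonempty (H ≃* Γ) := by
  obtain ⟨hfin, hcard⟩ := card_Hp
  have hP := CfsgLib.Coset.J3.card_le.1
  have hrel : ∀ w ∈ CfsgLib.Coset.J3.K.lrels, ev [fl Lp 0, fl Lp 1, fl Lp 2] w = 1 := by
    intro w hw
    have hc : checkLevel CfsgLib.Coset.J3.rels 4 [0, 1, 2] [] CfsgLib.Coset.J3.K.lrels
        CfsgLib.Coset.J3.K.subs = true := by decide +kernel
    exact level_rels CfsgLib.Coset.J3.len_Lp hc ev_numGens w hw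
  let π : Hp →* P := numHom (L := [fl Lp 0, fl Lp 1, fl Lp 2]) rfl hrel
  have hr : π.range = H := by
    rw [range_numHom, H, show CfsgLib.Coset.J3.Top.subs = [0, 1, 2].map (fun l => [l]) from rfl,
      genW_singletons, genBy]
    rfl
  have hH : Nat.card H = 8160 := by
    have h := Subgroup.index_mul_card H
    rw [CfsgLib.Coset.J3.index_and_eq.1, CfsgLib.Coset.J3.card_and_injective.1] at h
    omega
  have hπc : Nat.card π.range = 8160 := by rw [hr]; exact hH
  have e1 : Function.Bijective π.rangeRestrict :=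
    Function.Surjective.bijective_of_nat_card_le π.rangeRestrict_surjective (by rw [hπc]; exact hcard)
  haveI : Finite Γ := Finite.of_surjective ψ ψ_surjective
  have e2 : Function.Bijective ψ :=
    Function.Surjective.bijective_of_nat_card_le ψ_surjective (hcard.trans le_card_Γ)
  exact ⟨((MulEquiv.ofBijective _ e1).trans (MulEquiv.subgroupCongr hr)).symm.trans (MulEquiv.ofBijective _ e2)⟩

/-- The subgroup of index 6156 has a subgroup of index two isomorphic to `SL(2,16)`. -/
theorem exists_sl16 : ∃ N : Subgroup H, N.Normal ∧ N.index = 2 ∧ Nonempty (N ≃* SL) := by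
  obtain ⟨e⟩ := nonempty_equiv
  let p : H →* Multiplicative (ZMod 2) := SemidirectProduct.rightHom.comp e.toMonoidHom
  refine ⟨p.ker, inferInstance, ?_, ⟨?_⟩⟩
  · rw [Subgroup.index_ker, MonoidHom.range_eq_top.2, Subgroup.card_top]
    · simp
    · exact SemidirectProduct.rightHom_surjective.comp e.surjective
  · refine (MulEquiv.ofBijective (SemidirectProduct.inl.codRestrict
      (SemidirectProduct.rightHom : Γ →* _).ker (fun n => by simp)) ⟨?_, ?_⟩ |>.trans ?_).symm
    · exact fun a b h => SemidirectProduct.inl_injective (congrArg Subtype.val h)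
    · rintro ⟨g, hg⟩
      refine ⟨g.left, Subtype.ext ?_⟩
      rw [MonoidHom.mem_ker] at hg
      exact SemidirectProduct.ext rfl (hg.symm)
    · exact (e.symm.subgroupMap _).trans (MulEquiv.subgroupCongr (by
        ext g; exact Subgroup.mem_map_equiv))

end CfsgLib.J3U.SL16
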