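import Cfsg.Agent.J3U.CentR
import Cfsg.Agent.J3U.TabDefs

/-!
The element of order five normalising the subgroup of order sixteen, as a word, and the relators it gives.
-/

set_option autoImplicit false
set_option linter.style.haveILetI false
set_option maxRecDepth 100000

namespace CfsgLib.J3U

open CfsgLib.Coset CfsgLib.J2U

universe uT

/-- The letters of the dihedral group as conjugators. -/
def dR : List (List Nat) := [[], [0], [1], [2], [1, 2], [2, 1], [0, 1], [0, 2]]

/-- An element of order five inverted by the involution is conjugate to a power of the chosen one. -/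
noncomputable def tTest (Tb Par : Nat → Nat) (e i : Nat) : Bool :=
  cond (Nat.beq i 0) true
    (cond (Nat.beq (follow (tget Tb) 0 (List.replicate 5 (wdR Par i)).flatten) 0)
      (cond (Nat.beq (follow (tget Tb) 0 ([0] ++ wdR Par i ++ [0] ++ wdR Par i)) 0)
        (dR.any fun d => ([1, 2, 3, 4] : List Nat).any fun k =>
          Nat.beq (follow (tget Tb) 0 (List.replicate k (d ++ wdR Par i ++ (d.map ivR).reverse)).flatten)
            (follow (tget Tb) 0 (twR e))) true) true)

theorem tTest_zero : allBelow 11 1080 (tTest TR0.Tb TR0.Par 0) = true := by decide +kernel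

theorem tTest_one : allBelow 11 1080 (tTest TR1.Tb TR1.Par 1) = true := by decide +kernel

theorem tTest_two : allBelow 11 1080 (tTest TR2.Tb TR2.Par 2) = true := by decide +kernel

/-- The involutions of an invariant four-group of the centraliser without fixed points. -/
noncomputable def vTest (i : Nat) : Bool :=
  cond (eqT (wdC i ++ wdC i) []) (cond (eqT (wdC i ++ [7]) ([7] ++ wdC i)) true
    (cond (eqT (wdC i ++ ([7] ++ wdC i ++ [8])) ([7] ++ wdC i ++ [8] ++ wdC i))
      (cond (eqT (wdC i ++ ([7] ++ wdC i ++ [8]) ++ ([7, 7] ++ wdC i ++ [8, 8])) [])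
        ([0, 2, 4, 6].any fun n => (List.range 3).any fun j =>
          eqT (List.replicate j 7 ++ wdC i ++ List.replicate j 8) (vCases.getD n ([], 0)).1) true) true)) true

theorem vTest_all : allBelow 11 1920 vTest = true := by decide +kernel

theorem vCases_lt : (vCases.all fun p => allList (fun l => Nat.blt l 10) p.1 && !p.1.contains 9) = true := by
  decide +kernel

theorem vCases_pair : ∀ n ∈ [0, 2, 4, 6], (vCases.getD (n + 1) ([], 0)).1 = (vCases.getD n ([], 0)).1 ∧
    (vCases.getD n ([], 0)).2 = 1 ∧ (vCases.getD (n + 1) ([], 0)).2 = 2 := by decide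

/-- The action of a power of the element of order five. -/
def imP : Nat → List Nat
  | 0 => [1, 2, 4, 8]
  | k + 1 => comp4 (imP k) [10, 7, 2, 1]

/-- The action of a power of the fixed element. -/
def imS (s : Bool) : Nat → List Nat
  | 0 => [1, 2, 4, 8]
  | k + 1 => comp4 (imS s k) (cond s [2, 3, 12, 4] [3, 1, 8, 12])

theorem twist_eq : ∀ s : Bool, ∀ k ∈ [1, 2, 3, 4], ∃ b ∈ [1, 2], ∀ m < 16,
    Nat.xor (Nat.xor m (lin4 (imP k) (lin4 (imS s b) m))) (lin4 (imP k) (lin4 (imP k) m)) = 0 := by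
  decide +kernel

theorem imP_ok : ∀ k ∈ [0, 1, 2, 3, 4], (imP k).length = 4 ∧ ∀ a ∈ imP k, a < 16 := by decide

theorem imS_ok : ∀ s : Bool, ∀ k ∈ [0, 1, 2], (imS s k).length = 4 ∧ ∀ a ∈ imS s k, a < 16 := by decide

theorem fixed_four : ∀ s : Bool, ∀ j < 3, lin4 [8, 4, 2, 1] (lin4 (imS s j) 9) = lin4 (imS s j) 9 ∧
    lin4 (imS s j) 9 ≠ 0 := by decide

theorem nine_orbit : ∀ s : Bool, lin4 (imS s 1) 9 ≠ 9 ∧
    Nat.xor (Nat.xor 9 (lin4 (imS s 1) 9)) (lin4 (imS s 2) 9) = 0 := by decide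

theorem relsA_inv : ((List.range 12).all fun a => relsA.contains [a, ivG a]) = true := by decide +kernel

variable {G : Type uT} [Group G]

namespace Coord

variable {u : Nat → G} (hu : Coord u)

include hu

theorem actU_pow {g : G} {im : List Nat} (him : ∀ a ∈ im, a < 16) (hl : im.length = 4) (h : ActU u g im)
    (f : Nat → List Nat) (h0 : f 0 = [1, 2, 4, 8]) (hf : ∀ k, f (k + 1) = comp4 (f k) im) :
    ∀ k, ActU u (g ^ k) (f k) ∧ ∀ a ∈ f k, a < 16 := by
  intro k
  induction k with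
  | zero => rw [pow_zero, h0]; exact ⟨hu.actU_one, by decide⟩
  | succ k ih =>
    rw [pow_succ, hf]
    refine ⟨hu.actU_mul ih.2 him hl ih.1 h, fun a ha => ?_⟩
    obtain ⟨c, -, rfl⟩ := List.mem_map.1 ha
    exact lin4_lt _ ih.2 c

end Coord

variable [Finite G] {z : G} {b : Fin 5 → G} {S w x y : G}

theorem ev_toG (z : G) (b : Fin 5 → G) (S w x y : G) : ∀ c : List Nat, (∀ l ∈ c, l < 9) →
    ev (LGof z b S w x y) c = ev (LCof z b S w x) c := by
  intro c
  induction c with
  | nil => simp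
  | cons l c ih =>
    intro h
    rw [ev_cons, ev_cons, ih fun m hm => h m (by simp [hm])]
    have := h l (by simp)
    congr 1
    interval_cases l <;> rfl

theorem twR_lt (e : Nat) : ∀ l ∈ twR e, l < 9 := by
  rcases lt_or_ge e 3 with h | h
  · interval_cases e <;> decide
  · intro l hl
    rw [twR, List.getD_eq_default _ _ (by simpa using h)] at hl
    simp at hl; omega

/-- The relators of one of the candidates hold. -/
theorem exists_relsX (A : Amal z b S w x y) {u₀ : Nat → G} {t₀ : G} {s : Bool} (U₀ : Four z x u₀ t₀ s) :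
    ∃ e < 3, ∃ n < 8, ∀ r ∈ relsX e n, ev (LGof z b S w x y) r = 1 := by
  classical
  obtain ⟨e, he, hq⟩ := exists_qFour A U₀
  set LR := LRof z b y (vEl z b S w x y) x with hLR
  have hcard := (centX A.base U₀).1
  obtain ⟨Tb, Par, E, Rep, T, hinj, hsurj, hpath, htest⟩ : ∃ Tb Par E Rep : Nat → Nat,
      TableOK LR (⊥ : Subgroup G) E ivR 1080 Rep Tb ∧
      (∀ i < 1080, ∀ j < 1080, ev LR (wdR Par i) = ev LR (wdR Par j) → i = j) ∧
      (∀ g : G, g * x = x * g → ∃ i < 1080, g = ev LR (wdR Par i)) ∧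
      checkPath Tb Par 30 1080 9 11 = true ∧ allBelow 11 1080 (tTest Tb Par e) = true := by
    interval_cases e
    · obtain ⟨h1, h2, h3⟩ := A.centR checks_zero.{uT} hq hcard
      exact ⟨_, _, _, _, h1, h2, h3, checks_zero.{uT}.path, tTest_zero⟩
    · obtain ⟨h1, h2, h3⟩ := A.centR checks_one.{uT} hq hcard
      exact ⟨_, _, _, _, h1, h2, h3, checks_one.{uT}.path, tTest_one⟩
    · obtain ⟨h1, h2, h3⟩ := A.centR checks_two.{uT} hq hcard
      exact ⟨_, _, _, _, h1, h2, h3, checks_two.{uT}.path, tTest_two⟩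
  have feq : ∀ p q : List Nat, (∀ l ∈ p, l < 9) → (∀ l ∈ q, l < 9) → ev LR p = ev LR q →
      follow (tget Tb) 0 p = follow (tget Tb) 0 q := by
    intro p q hp hq' h
    have hpn := follow_lt T p 0 (by norm_num) hp
    have hqn := follow_lt T q 0 (by norm_num) hq'
    obtain ⟨hlp, hfp⟩ := checkPath_iff hpath hpn
    obtain ⟨hlq, hfq⟩ := checkPath_iff hpath hqn
    refine hinj _ hpn _ hqn ?_
    rw [wdR, wdR, ev_eq_of_follow T (by norm_num) hlp hp (by rw [hfp]),
      ev_eq_of_follow T (by norm_num) hlq hq' (by rw [hfq]), h]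
  obtain ⟨i, hi, hti⟩ := hsurj t₀ U₀.tx
  obtain ⟨hli, -⟩ := checkPath_iff hpath hi
  have hl9 : LR.length = 9 := rfl
  have hrep : ∀ (k : Nat) (p : List Nat), (∀ l ∈ p, l < 9) → ∀ l ∈ (List.replicate k p).flatten, l < 9 := by
    intro k p hp l hl
    obtain ⟨q, hq', hlq⟩ := List.mem_flatten.mp hl
    rw [List.eq_of_mem_replicate hq'] at hlq
    exact hp l hlq
  have beq_of : ∀ p : List Nat, (∀ l ∈ p, l < 9) → ev LR p = 1 → Nat.beq (follow (tget Tb) 0 p) 0 = true := by
    intro p hp h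
    rw [feq p [] hp (by simp) (by rw [h, ev_nil]), follow_nil]; rfl
  have ht := of_allBelow htest i hi
  unfold tTest at ht
  have hb0 : Nat.beq i 0 = false := by
    cases hh : Nat.beq i 0
    · rfl
    · exfalso
      refine U₀.tne ?_
      rw [hti, Nat.eq_of_beq_eq_true hh]
      have h0 := checkPath_iff hpath (show 0 < 1080 by norm_num)
      exact (ev_eq_of_follow T (by norm_num) h0.1 (v := []) (by simp) (h0.2.trans (follow_nil _ _).symm)).trans
        (ev_nil _)
  have hfl0 : fl LR 0 = z := rfl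
  have h5 : Nat.beq (follow (tget Tb) 0 (List.replicate 5 (wdR Par i)).flatten) 0 = true :=
    beq_of _ (hrep 5 _ hli) (by rw [ev_flatten_replicate, ← hti]; exact U₀.t5)
  have hz : Nat.beq (follow (tget Tb) 0 ([0] ++ wdR Par i ++ [0] ++ wdR Par i)) 0 = true :=
    beq_of _ (List.forall_mem_append.mpr ⟨List.forall_mem_append.mpr ⟨List.forall_mem_append.mpr
      ⟨by simp, hli⟩, by simp⟩, hli⟩) (by
      rw [ev_append, ev_append, ev_append, ev_cons, ev_nil, mul_one, hfl0, ← hti, U₀.ztz, inv_mul_cancel])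
  rw [hb0, h5, hz, cond_false, cond_true, cond_true] at ht
  obtain ⟨dw, hdw, hdk⟩ := List.any_eq_true.mp ht
  obtain ⟨k, hk, hkeq⟩ := List.any_eq_true.mp hdk
  have hdwl : ∀ l ∈ dw, l < 3 := (show ∀ d ∈ dR, ∀ l ∈ d, l < 3 by decide) dw hdw
  have hdwl9 : ∀ l ∈ dw, l < 9 := fun l hl => lt_trans (hdwl l hl) (by norm_num)
  have hdwi : ∀ l ∈ (dw.map ivR).reverse, l < 9 := fun l hl => by
    obtain ⟨q, hq', rfl⟩ := List.mem_map.mp (List.mem_reverse.mp hl)
    exact ivR_lt q (hdwl9 q hq')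
  set d := ev LR dw with hd
  set t := d * t₀ * d⁻¹ with ht'
  have hT : ev LR (twR e) = t ^ k := by
    rw [ev_eq_of_follow T (u := twR e)
      (v := (List.replicate k (dw ++ wdR Par i ++ (dw.map ivR).reverse)).flatten) (by norm_num) (twR_lt e)
      (hrep k _ (List.forall_mem_append.mpr ⟨List.forall_mem_append.mpr ⟨hdwl9, hli⟩, hdwi⟩))
      (Nat.eq_of_beq_eq_true hkeq).symm, ev_flatten_replicate, ev_append, ev_append, ev_inv_word T.inv,
      ← hd, ← hti, ← ht']
  obtain ⟨zdC, zdX⟩ : z * d = d * z ∧ x * d = d * x := by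
    have B := A.base.core
    have e1 : ∀ l < 3, Commute z (fl LR l) ∧ Commute x (fl LR l) := by
      intro l hl
      have h1 : b 0 * z = z * b 0 := by simpa [LCof, fl] using B.eqC (u := [0, 9]) (v := [9, 0]) (by decide +kernel)
      have h4 : b 4 * z = z * b 4 := by simpa [LCof, fl] using B.eqC (u := [4, 9]) (v := [9, 4]) (by decide +kernel)
      have h5 : b 4 * x = x * b 4 := by simpa [LCof, fl] using B.eqC (u := [4, 7]) (v := [7, 4]) (by decide +kernel)
      interval_cases l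
      exacts [⟨Commute.refl z, B.small.2.2.2.1⟩, ⟨h1.symm, B.small.2.2.2.2.1⟩, ⟨h4.symm, h5.symm⟩]
    have : ∀ p : List Nat, (∀ l ∈ p, l < 3) → Commute z (ev LR p) ∧ Commute x (ev LR p) := by
      intro p
      induction p with
      | nil => intro _; simp
      | cons l p ih =>
        intro h
        rw [ev_cons]
        have h1 := e1 l (h l (by simp))
        have h2 := ih fun m hm => h m (by simp [hm])
        exact ⟨h1.1.mul_right h2.1, h1.2.mul_right h2.2⟩
    exact ⟨(this dw hdwl).1.eq, (this dw hdwl).2.eq⟩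
  let u : Nat → G := fun m => d * u₀ m * d⁻¹
  have hu : Coord u :=
    ⟨fun i hi j hj => by
      show d * u₀ i * d⁻¹ * (d * u₀ j * d⁻¹) = d * u₀ (Nat.xor i j) * d⁻¹
      rw [← U₀.coord.mul i hi j hj]; group,
     fun i hi h => U₀.coord.inj i hi (conj_eq_one_iff.1 h)⟩
  have hdz : d * z * d⁻¹ = z := mul_inv_eq_iff_eq_mul.2 zdC.symm
  have hdx : d * x * d⁻¹ = x := mul_inv_eq_iff_eq_mul.2 zdX.symm
  have aZ : ActU u z [8, 4, 2, 1] := hdz ▸ actU_conj d U₀.actZ
  have aX : ActU u x (cond s [2, 3, 12, 4] [3, 1, 8, 12]) := hdx ▸ actU_conj d U₀.actX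
  have aT : ActU u t [10, 7, 2, 1] := actU_conj d U₀.actT
  have aXp := hu.actU_pow (by cases s <;> decide) (by cases s <;> rfl) aX (imS s) rfl fun k => rfl
  have aTp := hu.actU_pow (by decide) rfl aT imP rfl fun k => rfl
  -- the invariant four-group
  have hlin : ∀ j, lin4 (imS s j) 9 < 16 := fun j => lin4_lt _ (aXp j).2 9
  have hfixz : ∀ j < 3, u (lin4 (imS s j) 9) * z = z * u (lin4 (imS s j) 9) := by
    intro j hj
    have h := aZ _ (hlin j)
    rw [(fixed_four s j hj).1] at h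
    exact (mul_inv_eq_iff_eq_mul.1 h).symm
  have hx9 : ∀ j, x ^ j * u 9 * (x ^ j)⁻¹ = u (lin4 (imS s j) 9) := fun j => (aXp j).1 9 (by norm_num)
  have h09 : lin4 (imS s 0) 9 = 9 := by cases s <;> rfl
  have hu9z : u 9 * z = z * u 9 := by have := hfixz 0 (by norm_num); rwa [h09] at this
  have B := A.base.core
  set LC := LCof z b S w x with hLC
  obtain ⟨p, hp, hup, hlp⟩ := B.exC hu9z
  have hv := of_allBelow vTest_all p hp
  have lt7 : ∀ j (p : List Nat), (∀ l ∈ p, l < 10) →
      ∀ l ∈ List.replicate j 7 ++ p ++ List.replicate j 8, l < 10 := fun j p hp =>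
    append_lt (append_lt (fun l hl => by rw [(List.mem_replicate.1 hl).2]; norm_num) hp)
      (fun l hl => by rw [(List.mem_replicate.1 hl).2]; norm_num)
  have hxj : ∀ j, ev LC (List.replicate j 7) = x ^ j ∧ ev LC (List.replicate j 8) = (x ^ j)⁻¹ := by
    intro j
    induction j with
    | zero => simp
    | succ j ih =>
      rw [List.replicate_succ, List.replicate_succ, ev_cons, ev_cons, ih.1, ih.2, pow_succ']
      refine ⟨rfl, ?_⟩
      show x⁻¹ * (x ^ j)⁻¹ = (x * x ^ j)⁻¹
      rw [← mul_inv_rev, ← pow_succ, pow_succ']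
  have hsq : eqT (wdC p ++ wdC p) [] = true :=
    B.neC (by rw [ev_append, ← hup, ev_nil]; exact hu.self (by norm_num)) (append_lt hlp hlp) (by simp)
  have hncomm : eqT (wdC p ++ [7]) ([7] ++ wdC p) = false := by
    cases hh : eqT (wdC p ++ [7]) ([7] ++ wdC p)
    · rfl
    · exfalso
      have h := B.of_eq (append_lt hlp (by simp)) (append_lt (by simp) hlp) hh
      rw [ev_append, ev_append, ← hup] at h
      have h7 : ev LC [7] = x := by simp [hLC, LCof, fl]
      rw [← hLC, h7] at h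
      refine (nine_orbit s).1 (hu.eq_iff (hlin 1) (by norm_num) ?_)
      rw [← hx9 1, pow_one, ← h]; group
  have hw1 : ev LC ([7] ++ wdC p ++ [8]) = u (lin4 (imS s 1) 9) := by
    rw [show ([7] : List Nat) = List.replicate 1 7 from rfl, show ([8] : List Nat) = List.replicate 1 8 from rfl,
      ev_append, ev_append, (hxj 1).1, (hxj 1).2, ← hup, hx9]
  have hw2 : ev LC ([7, 7] ++ wdC p ++ [8, 8]) = u (lin4 (imS s 2) 9) := by
    rw [show ([7, 7] : List Nat) = List.replicate 2 7 from rfl, show ([8, 8] : List Nat) = List.replicate 2 8 from rfl,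
      ev_append, ev_append, (hxj 2).1, (hxj 2).2, ← hup, hx9]
  have hcc : eqT (wdC p ++ ([7] ++ wdC p ++ [8])) ([7] ++ wdC p ++ [8] ++ wdC p) = true :=
    B.neC (by rw [ev_append, ev_append _ ([7] ++ wdC p ++ [8]) (wdC p), ← hLC, hw1, ← hup]; exact hu.comm (by norm_num) (hlin 1))
      (append_lt hlp (lt7 1 _ hlp)) (append_lt (lt7 1 _ hlp) hlp)
  have hpr : eqT (wdC p ++ ([7] ++ wdC p ++ [8]) ++ ([7, 7] ++ wdC p ++ [8, 8])) [] = true :=
    B.neC (by
      rw [ev_append, ev_append _ (wdC p) ([7] ++ wdC p ++ [8]), ← hLC, hw1, hw2, ← hup, ev_nil, hu.mul 9 (by norm_num) _ (hlin 1),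
        hu.mul _ (lin4_lt_aux 9 (by norm_num) _ (hlin 1)) _ (hlin 2), (nine_orbit s).2, hu.zero])
      (append_lt (append_lt hlp (lt7 1 _ hlp)) (lt7 2 _ hlp)) (by simp)
  unfold vTest at hv
  rw [hsq, hncomm, hcc, hpr, cond_true, cond_false, cond_true, cond_true] at hv
  obtain ⟨n, hn, hnj⟩ := List.any_eq_true.mp hv
  obtain ⟨j, hj, hje⟩ := List.any_eq_true.mp hnj
  rw [List.mem_range] at hj
  have hn8 : n + 1 < 8 := by simp at hn; omega
  have hvc : ∀ l ∈ (vCases.getD n ([], 0)).1, l < 10 ∧ l ≠ 9 := by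
    have hlen : vCases.length = 8 := rfl
    have h := List.all_eq_true.mp vCases_lt _
      (List.getElem_mem (show n < vCases.length by omega))
    simp only [Bool.and_eq_true, Bool.not_eq_true'] at h
    rw [List.getD_eq_getElem _ _ (show n < vCases.length by omega)]
    intro l hl
    refine ⟨lt_of_check h.1 l hl, fun e9 => ?_⟩
    rw [e9] at hl
    exact Bool.noConfusion ((List.contains_iff_mem.mpr hl).symm.trans h.2)
  set m := lin4 (imS s j) 9 with hm
  have hum : ev LC (vCases.getD n ([], 0)).1 = u m := by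
    rw [← B.of_eq (lt7 j _ hlp) (fun l hl => (hvc l hl).1) hje, ev_append, ev_append, ← hLC, (hxj j).1,
      (hxj j).2, ← hup, hx9]
  -- the relator
  obtain ⟨bb, hbb, hid⟩ := twist_eq s k hk
  have hk5 : k ∈ [0, 1, 2, 3, 4] := by simp at hk ⊢; omega
  obtain ⟨nn, hnn, hnu, hnb⟩ : ∃ nn < 8, (vCases.getD nn ([], 0)).1 = (vCases.getD n ([], 0)).1 ∧
      (vCases.getD nn ([], 0)).2 = bb := by
    obtain ⟨p1, p2, p3⟩ := vCases_pair n hn
    simp at hbb
    rcases hbb with rfl | rfl
    exacts [⟨n, by omega, rfl, p2⟩, ⟨n + 1, hn8, p1, p3⟩]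
  refine ⟨e, he, nn, hnn, ?_⟩
  have hiv := inv_of_rels (show (LGof z b S w x y).length = 12 from rfl) A.relA relsA_inv ivG_out
  set LG := LGof z b S w x y with hLG
  have hTG : ev LG (tG e) = t ^ k := by rw [tG, hLG, A.ev_expR, ← hLR, hT]
  have hTi : ev LG (invG (tG e)) = (t ^ k)⁻¹ := by rw [invG, ev_inv_word hiv, hTG]
  have h7 : ∀ i, ev LG (List.replicate i 7) = x ^ i ∧ ev LG (List.replicate i 8) = (x ^ i)⁻¹ := fun i =>
    ⟨by rw [hLG, ev_toG z b S w x y _ (fun l hl => by rw [(List.mem_replicate.1 hl).2]; norm_num)]; exact (hxj i).1,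
     by rw [hLG, ev_toG z b S w x y _ (fun l hl => by rw [(List.mem_replicate.1 hl).2]; norm_num)]; exact (hxj i).2⟩
  have hvG : ev LG (vCases.getD nn ([], 0)).1 = u m := by
    rw [hnu, hLG, ev_toG z b S w x y _ fun l hl => by have := hvc l hl; omega]
    exact hum
  have hrW : ev LG (rWord e nn) = 1 := by
    have hbb' : bb ∈ [0, 1, 2] := by simp at hbb ⊢; omega
    have hm16 : m < 16 := hlin j
    have l1 : lin4 (imS s bb) m < 16 := lin4_lt _ (aXp bb).2 m
    have l2 : lin4 (imP k) m < 16 := lin4_lt _ (aTp k).2 m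
    have a1 : t ^ k * x ^ bb * u m * (x ^ bb)⁻¹ * (t ^ k)⁻¹ = u (lin4 (imP k) (lin4 (imS s bb) m)) := by
      rw [← (aTp k).1 _ l1, ← (aXp bb).1 m hm16]; group
    have a2 : t ^ k * t ^ k * u m * (t ^ k)⁻¹ * (t ^ k)⁻¹ = u (lin4 (imP k) (lin4 (imP k) m)) := by
      rw [← (aTp k).1 _ l2, ← (aTp k).1 m hm16]; group
    simp only [rWord, ev_append, hnb, (h7 bb).1, (h7 bb).2, hTG, hTi, hvG]
    calc u m * t ^ k * x ^ bb * u m * (x ^ bb)⁻¹ * t ^ k * u m * (t ^ k)⁻¹ * (t ^ k)⁻¹
        = u m * (t ^ k * x ^ bb * u m * (x ^ bb)⁻¹ * (t ^ k)⁻¹) *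
          (t ^ k * t ^ k * u m * (t ^ k)⁻¹ * (t ^ k)⁻¹) := by group
      _ = 1 := by
        rw [a1, a2, hu.mul m (hlin j) _ (lin4_lt _ (aTp k).2 _),
          hu.mul _ (lin4_lt_aux m (hlin j) _ (lin4_lt _ (aTp k).2 _)) _ (lin4_lt _ (aTp k).2 _),
          hid m (hlin j), hu.zero]
  have h11 : ev LG [11] = z := by simp [hLG, LGof, fl]
  have htx : Commute t x := by
    have := HJT.commute_conj d U₀.tx
    rwa [hdx] at this
  have hztz : z * t * z = t⁻¹ := by
    calc z * t * z = (d * z * d⁻¹) * (d * t₀ * d⁻¹) * (d * z * d⁻¹) := by rw [hdz]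
      _ = d * (z * t₀ * z) * d⁻¹ := by group
      _ = t⁻¹ := by rw [U₀.ztz, ht']; group
  intro r hr
  simp only [relsX, List.mem_append, List.mem_cons, List.not_mem_nil, or_false] at hr
  rcases hr with hr | rfl | rfl | rfl | rfl | rfl
  · exact A.relA r hr
  · rw [hLG, A.ev_expR]; exact hq
  · exact hrW
  · rw [ev_flatten_replicate, hTG, ← pow_mul, mul_comm, pow_mul, ht', conj_pow, U₀.t5]; simp
  · rw [ev_append, ev_append, ev_append, hTG, hTi, show ([7] : List Nat) = List.replicate 1 7 from rfl,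
      show ([8] : List Nat) = List.replicate 1 8 from rfl, (h7 1).1, (h7 1).2, pow_one,
      (htx.pow_left k).eq]
    group
  · have hz2 : z * z = 1 := B.small.2.1
    have hzi : z⁻¹ = z := inv_eq_of_mul_eq_one_right hz2
    rw [ev_append, ev_append, h11, hTG]
    have hzp : ∀ g : G, z * g ^ k * z = (z * g * z) ^ k := fun g => by
      have := (conj_pow (i := k) (a := z) (b := g)).symm
      rwa [hzi] at this
    calc z * t ^ k * (z * t ^ k) = (z * t * z⁻¹) ^ k * t ^ k := by rw [hzi, ← hzp, ← mul_assoc]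
      _ = 1 := by rw [hzi, hztz, inv_pow, inv_mul_cancel]

end CfsgLib.J3U
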