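import Cfsg.Agent.J3U.Conj

/-!
An element of order three permuting the involutions of a four-group, with normalised action on its centraliser.
-/

set_option autoImplicit false
set_option linter.style.haveILetI false
set_option maxRecDepth 100000

namespace CfsgLib.J3U

open CfsgLib.Coset CfsgLib.J2U
open CfsgLib.HJT (orderOf_two_iff)

variable {G : Type*} [Group G] {z : G} {b : Fin 5 → G} {S w x : G}

/-- The core together with the element moving the involution. -/
structure Base (z : G) (b : Fin 5 → G) (S w x y : G) : Prop where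
  core : Core z b S w x
  y3 : y ^ 3 = 1
  yx : y * x = x * y
  yw : y * w = w * y
  yz : y * z * y⁻¹ = b 0
  yb : y * b 0 * y⁻¹ = z * b 0
  y_d : y * (b 1 * b 2) * y⁻¹ = ev (LCof z b S w x) [1, 4, 8, 6, 7]

namespace Core

variable (B : Core z b S w x)

include B

theorem tableC : TableOK (LCof z b S w x) (⊥ : Subgroup G) TC.E ivC 1920 TC.Rep TC.Tb :=
  tableOK_of_check (inv_of_rels (show (LCof z b S w x).length = 10 from rfl) B.relC invC_table ivC_out)
    TC.hR TC.hdefs TC.hsteps TC.htable B.relC (by simp [TC.subs])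

theorem card_span : 1920 ≤ Nat.card (Subgroup.closure {v | v ∈ LCof z b S w x} : Subgroup G) := by
  rw [B.gen, B.cardC]

theorem eqC {u v : List Nat} (h : sameT TC.Tb 10 u v = true) :
    ev (LCof z b S w x) u = ev (LCof z b S w x) v :=
  ev_eq_of_sameT B.tableC (by norm_num) rfl h

theorem of_eq {u v : List Nat} (hu : ∀ l ∈ u, l < 10) (hv : ∀ l ∈ v, l < 10) (h : eqT u v = true) :
    ev (LCof z b S w x) u = ev (LCof z b S w x) v :=
  ev_eq_of_follow B.tableC (by norm_num) hu hv (Nat.eq_of_beq_eq_true h)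

theorem exC {c : G} (hc : c * z = z * c) :
    ∃ i < 1920, c = ev (LCof z b S w x) (wdC i) ∧ ∀ l ∈ wdC i, l < 10 := by
  have hc' : c ∈ Subgroup.closure {v | v ∈ LCof z b S w x} := by
    rw [B.gen]; exact Subgroup.mem_centralizer_singleton_iff.2 hc
  obtain ⟨i, hi, he⟩ := exists_path B.tableC (by norm_num) (fuel := 30) (dn := 11) path_ok hc'
  exact ⟨i, hi, he, (checkPath_iff path_ok hi).1⟩

theorem neC {u v : List Nat} (h : ev (LCof z b S w x) u = ev (LCof z b S w x) v)
    (hu : ∀ l ∈ u, l < 10) (hv : ∀ l ∈ v, l < 10) : eqT u v = true := by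
  have := follow_eq_of_ev B.tableC (by norm_num) B.card_span (u := u) (v := v) hu hv h
  simp [eqT, this]

theorem evC_inv (u : List Nat) :
    ev (LCof z b S w x) (invC u) = (ev (LCof z b S w x) u)⁻¹ :=
  ev_inv_word (inv_of_rels (show (LCof z b S w x).length = 10 from rfl) B.relC invC_table ivC_out) u

theorem evC_mem {u : List Nat} : ev (LCof z b S w x) u * z = z * ev (LCof z b S w x) u := by
  refine Subgroup.mem_centralizer_singleton_iff.1 (B.gen ▸ ?_)
  induction u with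
  | nil => exact one_mem _
  | cons l u ih =>
    rw [ev_cons]
    refine mul_mem ?_ ih
    rcases lt_or_ge l 10 with h | h
    · refine Subgroup.subset_closure ?_
      show fl _ l ∈ LCof z b S w x
      rw [fl, List.getD_eq_getElem _ _ (show l < (LCof z b S w x).length from h)]
      exact List.getElem_mem _
    · rw [fl_of_le _ (show (LCof z b S w x).length ≤ l from h)]; exact one_mem _

theorem small : b 0 * b 0 = 1 ∧ z * z = 1 ∧ z * b 0 = b 0 * z ∧ x * z = z * x ∧ x * b 0 = b 0 * x ∧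
    x * x * x = 1 ∧ b 1 * b 0 * b 1 = z * b 0 ∧ b 1 * z = z * b 1 ∧ b 1 * b 1 = 1 := by
  have e := fun u v (h : sameT TC.Tb 10 u v = true) => B.eqC (u := u) (v := v) h
  refine ⟨?_, ?_, ?_, ?_, ?_, ?_, ?_, ?_, ?_⟩
  · simpa [LCof, fl] using e [0, 0] [] (by decide +kernel)
  · simpa [LCof, fl] using e [9, 9] [] (by decide +kernel)
  · simpa [LCof, fl] using e [9, 0] [0, 9] (by decide +kernel)
  · simpa [LCof, fl] using e [7, 9] [9, 7] (by decide +kernel)
  · simpa [LCof, fl] using e [7, 0] [0, 7] (by decide +kernel)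
  · simpa [LCof, fl, mul_assoc] using e [7, 7, 7] [] (by decide +kernel)
  · simpa [LCof, fl, mul_assoc] using e [1, 0, 1] [9, 0] (by decide +kernel)
  · simpa [LCof, fl] using e [1, 9] [9, 1] (by decide +kernel)
  · simpa [LCof, fl] using e [1, 1] [] (by decide +kernel)

end Core

theorem conj_lt (c : List Nat) (i : List Nat) (hc : ∀ l ∈ c, l < 10) (hi : ∀ l ∈ i, l < 10) :
    ∀ l ∈ c ++ i ++ invC c, l < 10 := by
  intro l hl
  simp only [List.mem_append, invC, List.mem_reverse, List.mem_map] at hl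
  rcases hl with (h | h) | ⟨a, ha, rfl⟩
  · exact hc l h
  · exact hi l h
  · have := hc a ha; interval_cases a <;> decide

theorem append_lt {u v : List Nat} (hu : ∀ l ∈ u, l < 10) (hv : ∀ l ∈ v, l < 10) :
    ∀ l ∈ u ++ v, l < 10 := fun l hl => (List.mem_append.1 hl).elim (hu l) (hv l)

theorem lt_of_check {w : List Nat} (h : allList (fun l => Nat.blt l 10) w = true) : ∀ l ∈ w, l < 10 :=
  fun l hl => Nat.blt_eq.mp (allList_iff.mp h l hl)

theorem lists_lt : ((conjThree ++ conjThreeD ++ conjInv ++ candF ++ threeD).all fun w =>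
    allList (fun l => Nat.blt l 10) w) = true := by decide +kernel

theorem mem_lt {w : List Nat} (h : w ∈ conjThree ++ conjThreeD ++ conjInv ++ candF ++ threeD) :
    ∀ l ∈ w, l < 10 := lt_of_check (List.all_eq_true.mp lists_lt w h)

variable [Finite G]

/-- An element swapping the two involutions. -/
theorem exists_swap (B : Core z b S w x) (hone : ∀ u v : G, orderOf u = 2 → orderOf v = 2 → IsConj u v) :
    ∃ h : G, h * z * h⁻¹ = b 0 ∧ h * b 0 * h⁻¹ = z := by
  obtain ⟨b00, zz, zb, xz, xb, x3, -, -, -⟩ := B.small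
  set L := LCof z b S w x with hL
  have b01 : b 0 ≠ 1 := fun e => by
    have := B.neC (u := [0]) (v := []) (by simpa [LCof, fl] using e) (by simp) (by simp)
    exact absurd this (by decide +kernel)
  obtain ⟨g, hg⟩ := isConj_iff.1 (hone z (b 0) (orderOf_two_iff.2 ⟨zz, B.zne⟩) (orderOf_two_iff.2 ⟨b00, b01⟩))
  have hgi : g⁻¹ * b 0 * g = z := by rw [← hg]; group
  have hsz : g⁻¹ * z * g * z = z * (g⁻¹ * z * g) := by
    have h := HJT.commute_conj g⁻¹ zb
    simpa [inv_inv, hgi] using h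
  have htz : g⁻¹ * x * g * z = z * (g⁻¹ * x * g) := by
    have h := HJT.commute_conj g⁻¹ xb
    simpa [inv_inv, hgi] using h
  have hst : g⁻¹ * z * g * (g⁻¹ * x * g) = g⁻¹ * x * g * (g⁻¹ * z * g) := by
    have h := HJT.commute_conj g⁻¹ xz.symm
    simpa [inv_inv] using h
  obtain ⟨i, hi, hti, hl⟩ := B.exC htz
  have h3 : eqT (wdC i ++ wdC i ++ wdC i) [] = true := B.neC (by
    rw [ev_append, ev_append, ← hti, ev_nil,
      show g⁻¹ * x * g * (g⁻¹ * x * g) * (g⁻¹ * x * g) = g⁻¹ * (x * x * x) * g by group, x3]; group)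
    (append_lt (append_lt hl hl) hl) (by simp)
  have ht := of_allBelow threeTest_all i hi
  unfold threeTest at ht
  rw [h3, cond_true, Bool.or_eq_true] at ht
  rcases ht with ht | ht
  · exfalso
    have h := B.of_eq hl (by simp) ht
    rw [← hti, ev_nil] at h
    have hx1 : x = 1 := by
      calc x = g * (g⁻¹ * x * g) * g⁻¹ := by group
        _ = 1 := by rw [h]; group
    have := B.x3
    rw [hx1, orderOf_one] at this
    norm_num at this
  obtain ⟨c, hc, hcx⟩ := List.any_eq_true.mp ht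
  have hcl := mem_lt (w := c) (by simp [hc])
  set C₁ := ev L c with hC₁
  set t := g⁻¹ * x * g with htdef
  set s := g⁻¹ * z * g with hsdef
  have hcx' : (C₁ * t * C₁⁻¹) = x ∨ (C₁ * t * C₁⁻¹) = x⁻¹ := by
    rw [Bool.or_eq_true] at hcx
    rcases hcx with h | h <;> have h' := B.of_eq (conj_lt c _ hcl hl) (by simp) h <;>
      rw [ev_append, ev_append, B.evC_inv, ← hL, ← hC₁, ← hti] at h'
    · exact Or.inl (by simpa [hL, LCof, fl] using h')
    · exact Or.inr (by simpa [hL, LCof, fl] using h')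
  have hC₁z : C₁ * z = z * C₁ := B.evC_mem
  have hsx : C₁ * s * C₁⁻¹ * x = x * (C₁ * s * C₁⁻¹) := by
    have h := HJT.commute_conj C₁ hst
    rcases hcx' with e | e <;> rw [e] at h
    · exact h
    · simpa using (show Commute (C₁ * s * C₁⁻¹) x⁻¹ from h).inv_right.eq
  have hs'z : C₁ * s * C₁⁻¹ * z = z * (C₁ * s * C₁⁻¹) := by
    have h := HJT.commute_conj C₁ hsz
    rwa [show C₁ * z * C₁⁻¹ = z by rw [hC₁z]; group] at h
  obtain ⟨j, hj, hsj, hlj⟩ := B.exC hs'z
  have ht2 := of_allBelow invTest_all j hj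
  have h2 : eqT (wdC j ++ wdC j) [] = true := B.neC (by
    rw [ev_append, ← hsj, ev_nil, hsdef,
      show C₁ * (g⁻¹ * z * g) * C₁⁻¹ * (C₁ * (g⁻¹ * z * g) * C₁⁻¹) = C₁ * g⁻¹ * (z * z) * g * C₁⁻¹ by group,
      zz]; group) (append_lt hlj hlj) (by simp)
  have h7 : eqT (wdC j ++ [7]) ([7] ++ wdC j) = true := B.neC (by
    rw [ev_append, ev_append, ← hsj]; simpa [hL, LCof, fl] using hsx)
    (append_lt hlj (by simp)) (append_lt (by simp) hlj)
  unfold invTest at ht2
  rw [h2, h7, cond_true, cond_true, Bool.or_eq_true, Bool.or_eq_true] at ht2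
  have hgz : ∀ v, C₁ * s * C₁⁻¹ = v → g * (C₁⁻¹ * v * C₁) * g⁻¹ = z := fun v e => by
    rw [← e, hsdef]; group
  rcases ht2 with (h | h) | h
  · exfalso
    have h' := B.of_eq hlj (by simp) h
    rw [← hsj, ev_nil] at h'
    exact B.zne (by rw [← hgz 1 h']; group)
  · exfalso
    have h' := B.of_eq hlj (by simp) h
    rw [← hsj] at h'
    have hsz' : C₁⁻¹ * z * C₁ = z := by rw [mul_assoc, ← hC₁z]; group
    have h9 := hgz z (by simpa [LCof, fl] using h')
    rw [hsz', hg] at h9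
    exact B.bne h9
  obtain ⟨c', hc', hcb⟩ := List.any_eq_true.mp h
  have hcl' := mem_lt (w := c') (by simp [hc'])
  set C₂ := ev L c' with hC₂
  have hC₂z : C₂ * z = z * C₂ := B.evC_mem
  have hcb' : C₂ * (C₁ * s * C₁⁻¹) * C₂⁻¹ = b 0 := by
    have h' := B.of_eq (conj_lt c' _ hcl' hlj) (by simp) hcb
    rw [ev_append, ev_append, B.evC_inv, ← hL, ← hC₂, ← hsj] at h'
    simpa [hL, LCof, fl] using h'
  refine ⟨g * (C₂ * C₁)⁻¹, ?_, ?_⟩
  · have : (C₂ * C₁)⁻¹ * z * (C₂ * C₁) = z := by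
      rw [mul_assoc, show z * (C₂ * C₁) = C₂ * C₁ * z from (((show Commute C₂ z from hC₂z).mul_left hC₁z).eq).symm]
      group
    calc g * (C₂ * C₁)⁻¹ * z * (g * (C₂ * C₁)⁻¹)⁻¹ = g * ((C₂ * C₁)⁻¹ * z * (C₂ * C₁)) * g⁻¹ := by group
      _ = b 0 := by rw [this, hg]
  · rw [← hcb', hsdef]; group

/-- An element of three-power order with the same action. -/
theorem exists_threePow (B : Core z b S w x) {Y : G} (hz : Y * z * Y⁻¹ = b 0) (hb : Y * b 0 * Y⁻¹ = z * b 0) :
    ∃ Y' : G, Y' * z * Y'⁻¹ = b 0 ∧ Y' * b 0 * Y'⁻¹ = z * b 0 ∧ ∃ k : ℕ, Y' ^ 3 ^ k = 1 := by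
  obtain ⟨b00, zz, zb, -⟩ := B.small
  have hzb' : Y * (z * b 0) * Y⁻¹ = z := by
    rw [show Y * (z * b 0) * Y⁻¹ = (Y * z * Y⁻¹) * (Y * b 0 * Y⁻¹) by group, hz, hb, ← mul_assoc, ← zb,
      mul_assoc, b00, mul_one]
  have hcube : ∀ n : ℕ, Y ^ (3 * n) * z * (Y ^ (3 * n))⁻¹ = z ∧ Y ^ (3 * n) * b 0 * (Y ^ (3 * n))⁻¹ = b 0 := by
    intro n
    induction n with
    | zero => simp
    | succ n ih =>
      rw [show 3 * (n + 1) = 3 + 3 * n by ring, pow_add, show Y ^ 3 = Y * Y * Y by simp [pow_succ]]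
      constructor
      · rw [← HJT.conj_assoc, ih.1, ← HJT.conj_assoc, ← HJT.conj_assoc, hz, hb, hzb']
      · rw [← HJT.conj_assoc, ih.2, ← HJT.conj_assoc, ← HJT.conj_assoc, hb, hzb', hz]
  obtain ⟨k, m, hm, hn⟩ := Nat.exists_eq_pow_mul_and_not_dvd (orderOf_pos Y).ne' 3 (by norm_num)
  obtain ⟨r, hr⟩ : ∃ r, (m * r) % 3 = 1 := by
    have : m % 3 = 1 ∨ m % 3 = 2 := by omega
    rcases this with h | h
    · exact ⟨1, by omega⟩
    · exact ⟨2, by omega⟩
  obtain ⟨n, hn'⟩ : ∃ n, m * r = 3 * n + 1 := ⟨m * r / 3, by omega⟩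
  refine ⟨Y ^ (m * r), ?_, ?_, k, ?_⟩
  · rw [hn', pow_succ, ← HJT.conj_assoc, hz, (hcube n).2]
  · rw [hn', pow_succ, ← HJT.conj_assoc, hb]
    rw [show Y ^ (3 * n) * (z * b 0) * (Y ^ (3 * n))⁻¹ =
      (Y ^ (3 * n) * z * (Y ^ (3 * n))⁻¹) * (Y ^ (3 * n) * b 0 * (Y ^ (3 * n))⁻¹) by group, (hcube n).1,
      (hcube n).2]
  · rw [← pow_mul, show m * r * 3 ^ k = 3 ^ k * m * r by ring, ← hn, pow_mul, pow_orderOf_eq_one, one_pow]

/-- An element of three-power order commuting with the element of order three. -/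
theorem exists_commuting (B : Core z b S w x) {Y : G} (hz : Y * z * Y⁻¹ = b 0) (hb : Y * b 0 * Y⁻¹ = z * b 0)
    {k : ℕ} (hk : Y ^ 3 ^ k = 1) :
    ∃ Y' : G, Y' * z * Y'⁻¹ = b 0 ∧ Y' * b 0 * Y'⁻¹ = z * b 0 ∧ Y' ^ 3 ^ k = 1 ∧ Y' * x = x * Y' := by
  classical
  haveI : Fact (Nat.Prime 3) := ⟨Nat.prime_three⟩
  obtain ⟨b00, zz, zb, xz, xb, x3, -⟩ := B.small
  set L := LCof z b S w x with hL
  let P : G → Prop := fun g => g * z = z * g ∧ g * b 0 = b 0 * g ∧ g * g * g = 1 ∧ g ≠ 1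
  have hP3 : ∀ u v : G, u * v = v * u → ∀ g, g = u * v * u⁻¹ → g = v := fun u v h g e => by
    rw [e, h]; group
  have hlist : ∀ g, P g → ∃ c ∈ conjThreeD, ev L c * g * (ev L c)⁻¹ = x ∨ ev L c * g * (ev L c)⁻¹ = x⁻¹ := by
    rintro g ⟨g1, g2, g3, g4⟩
    obtain ⟨i, hi, hgi, hl⟩ := B.exC g1
    have ht := of_allBelow threeTestD_all i hi
    have h0 : eqT (wdC i ++ [0]) ([0] ++ wdC i) = true := B.neC (by
      rw [ev_append, ev_append, ← hgi]; simpa [hL, LCof, fl] using g2) (append_lt hl (by simp))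
      (append_lt (by simp) hl)
    have h3 : eqT (wdC i ++ wdC i ++ wdC i) [] = true := B.neC (by
      rw [ev_append, ev_append, ← hgi, ev_nil, g3]) (append_lt (append_lt hl hl) hl) (by simp)
    unfold threeTestD at ht
    rw [h0, h3, cond_true, cond_true, Bool.or_eq_true] at ht
    rcases ht with ht | ht
    · exact absurd (hgi.trans ((B.of_eq hl (by simp) ht).trans (ev_nil _))) g4
    obtain ⟨c, hc, hcx⟩ := List.any_eq_true.mp ht
    have hcl := mem_lt (w := c) (by simp [hc])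
    refine ⟨c, hc, ?_⟩
    rw [Bool.or_eq_true] at hcx
    rcases hcx with h | h <;> have h' := B.of_eq (conj_lt c _ hcl hl) (by simp) h <;>
      rw [ev_append, ev_append, B.evC_inv, ← hL, ← hgi] at h'
    · exact Or.inl (by simpa [hL, LCof, fl] using h')
    · exact Or.inr (by simpa [hL, LCof, fl] using h')
  have hD : ∀ i < 32, ev L (threeD.getD i []) * b 0 = b 0 * ev L (threeD.getD i []) ∧
      ∀ j < 32, ev L (threeD.getD i []) = ev L (threeD.getD j []) → i = j := by
    intro i hi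
    have hmem : ∀ i < 32, ∀ l ∈ threeD.getD i [], l < 10 := fun i hi => by
      have hi' : i < threeD.length := lt_of_lt_of_eq hi (show 32 = threeD.length by decide)
      rw [List.getD_eq_getElem _ _ hi']
      exact mem_lt (by simp)
    have h := List.all_eq_true.mp threeD_all i (List.mem_range.mpr hi)
    rw [Bool.and_eq_true] at h
    refine ⟨?_, fun j hj e => ?_⟩
    · have h' := B.of_eq (append_lt (hmem i hi) (by simp)) (append_lt (by simp) (hmem i hi)) h.1
      rw [ev_append, ev_append, ← hL] at h'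
      simpa [hL, LCof, fl] using h'
    · have h2 := List.all_eq_true.mp h.2 j (List.mem_range.mpr hj)
      rw [B.neC e (hmem i hi) (hmem j hj)] at h2
      simpa using h2
  have hDP : ∀ i < 32, P (ev L (threeD.getD i [])) := by
    intro i hi
    have hi' : i < threeD.length := lt_of_lt_of_eq hi (show 32 = threeD.length by decide)
    obtain ⟨c, -, hcg⟩ : ∃ c ∈ conjThreeD, ev L (threeD.getD i []) = (ev L c)⁻¹ * x * ev L c ∨
        ev L (threeD.getD i []) = (ev L c)⁻¹ * x⁻¹ * ev L c := by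
      have hmem : threeD.getD i [] ∈ threeD := by rw [List.getD_eq_getElem _ _ hi']; exact List.getElem_mem _
      simp only [threeD, List.mem_append, List.mem_map] at hmem
      rcases hmem with ⟨c, hc, e⟩ | ⟨c, hc, e⟩ <;> refine ⟨c, hc, ?_⟩ <;>
        rw [show threeD.getD i [] = _ from e.symm, ev_append, ev_append, B.evC_inv] <;>
        simp [hL, LCof, fl]
    refine ⟨B.evC_mem, (hD i hi).1, ?_, ?_⟩
    · rcases hcg with e | e <;> rw [e]
      · rw [show (ev L c)⁻¹ * x * ev L c * ((ev L c)⁻¹ * x * ev L c) * ((ev L c)⁻¹ * x * ev L c) =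
          (ev L c)⁻¹ * (x * x * x) * ev L c by group, x3]; group
      · rw [show (ev L c)⁻¹ * x⁻¹ * ev L c * ((ev L c)⁻¹ * x⁻¹ * ev L c) * ((ev L c)⁻¹ * x⁻¹ * ev L c) =
          (ev L c)⁻¹ * (x * x * x)⁻¹ * ev L c by group, x3]; group
    · intro h1
      have hx1 : x = 1 := by
        rcases hcg with e | e <;> rw [h1] at e
        · calc x = ev L c * ((ev L c)⁻¹ * x * ev L c) * (ev L c)⁻¹ := by group
            _ = 1 := by rw [← e]; group
        · calc x = ev L c * ((ev L c)⁻¹ * x⁻¹ * ev L c)⁻¹ * (ev L c)⁻¹ := by group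
            _ = 1 := by rw [← e]; group
      have := B.x3
      rw [hx1, orderOf_one] at this
      norm_num at this
  let e : Fin 32 → {g : G // P g} := fun i => ⟨ev L (threeD.getD i.1 []), hDP i.1 i.2⟩
  have he : Function.Bijective e := by
    refine ⟨fun i j h => Fin.ext ((hD i.1 i.2).2 j.1 j.2 (congrArg Subtype.val h)), fun g => ?_⟩
    obtain ⟨c, hc, hcg⟩ := hlist g.1 g.2
    obtain ⟨n, hn, hn'⟩ := List.getElem_of_mem hc
    have hlen : conjThreeD.length = 16 := by decide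
    have hN : threeD.length = 32 := by decide
    rcases hcg with h | h
    · refine ⟨⟨n, by omega⟩, Subtype.ext ?_⟩
      show ev L (threeD.getD n []) = g.1
      rw [show threeD.getD n [] = invC c ++ [7] ++ c by
        rw [List.getD_eq_getElem _ _ (by omega)]
        simp [threeD, List.getElem_append_left, hlen, show n < 16 by omega, hn']]
      rw [ev_append, ev_append, B.evC_inv, ← hL, show ev L [7] = x by simp [hL, LCof, fl]]
      calc (ev L c)⁻¹ * x * ev L c = (ev L c)⁻¹ * (ev L c * g.1 * (ev L c)⁻¹) * ev L c := by rw [h]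
        _ = g.1 := by group
    · refine ⟨⟨16 + n, by omega⟩, Subtype.ext ?_⟩
      show ev L (threeD.getD (16 + n) []) = g.1
      rw [show threeD.getD (16 + n) [] = invC c ++ [8] ++ c by
        rw [List.getD_eq_getElem _ _ (by omega)]
        simp [threeD, List.getElem_append_right, hlen, hn']]
      rw [ev_append, ev_append, B.evC_inv, ← hL, show ev L [8] = x⁻¹ by simp [hL, LCof, fl]]
      calc (ev L c)⁻¹ * x⁻¹ * ev L c = (ev L c)⁻¹ * (ev L c * g.1 * (ev L c)⁻¹) * ev L c := by rw [h]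
        _ = g.1 := by group
  haveI : Fintype {g : G // P g} := Fintype.ofBijective e he
  have hcard : Fintype.card {g : G // P g} = 32 := by
    rw [← Fintype.card_of_bijective he, Fintype.card_fin]
  have hYP : ∀ g, P g → P (Y * g * Y⁻¹) := by
    rintro g ⟨g1, g2, g3, g4⟩
    have hzb2 : g * (z * b 0) = z * b 0 * g := ((show Commute g z from g1).mul_right g2).eq
    have hzb' : Y * (z * b 0) * Y⁻¹ = z := by
      rw [show Y * (z * b 0) * Y⁻¹ = (Y * z * Y⁻¹) * (Y * b 0 * Y⁻¹) by group, hz, hb, ← mul_assoc, ← zb,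
        mul_assoc, b00, mul_one]
    refine ⟨?_, ?_, ?_, ?_⟩
    · have := HJT.commute_conj Y hzb2
      rwa [hzb'] at this
    · have := HJT.commute_conj Y g1
      rwa [hz] at this
    · rw [show Y * g * Y⁻¹ * (Y * g * Y⁻¹) * (Y * g * Y⁻¹) = Y * (g * g * g) * Y⁻¹ by group, g3]; group
    · exact fun h => g4 (conj_eq_one_iff.1 h)
  let σ : Equiv.Perm {g : G // P g} := Equiv.ofBijective (fun g => ⟨Y * g.1 * Y⁻¹, hYP g.1 g.2⟩)
    (Finite.injective_iff_bijective.1 fun g g' h => Subtype.ext (by simpa using congrArg Subtype.val h))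
  have hσn : ∀ (n : ℕ) g, ((σ ^ n) g).1 = Y ^ n * g.1 * (Y ^ n)⁻¹ := by
    intro n
    induction n with
    | zero => intro g; simp
    | succ n ih =>
      intro g
      rw [pow_succ', Equiv.Perm.mul_apply]
      show Y * ((σ ^ n) g).1 * Y⁻¹ = _
      rw [ih g, pow_succ']; group
  have hσ : σ ^ 3 ^ k = 1 := by ext g; rw [hσn, hk]; simp
  obtain ⟨g, hg⟩ : ∃ g, σ g = g := by
    by_contra hno
    push Not at hno
    have hm := Equiv.Perm.card_compl_support_modEq hσ
    have hempty : (Equiv.Perm.support σ)ᶜ = ∅ := by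
      ext g; simp [hno g]
    rw [hempty, Finset.card_empty, hcard] at hm
    exact absurd hm (by decide)
  have hYg : Y * g.1 * Y⁻¹ = g.1 := congrArg Subtype.val hg
  obtain ⟨c, hc, hcg⟩ := hlist g.1 g.2
  set C₁ := ev L c
  have hC0 : C₁ * b 0 = b 0 * C₁ := by
    have h : (conjThreeD.all fun c => eqT (c ++ [0]) ([0] ++ c)) = true := by decide +kernel
    have h' := B.of_eq (append_lt (mem_lt (w := c) (by simp [hc])) (by simp))
      (append_lt (by simp) (mem_lt (w := c) (by simp [hc]))) (List.all_eq_true.mp h c hc)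
    rw [ev_append, ev_append] at h'
    simpa [LCof, fl, C₁, hL] using h'
  have hC9 : C₁ * z = z * C₁ := B.evC_mem
  have hCi : ∀ v, C₁ * v = v * C₁ → C₁⁻¹ * v * C₁ = v := fun v h => by rw [mul_assoc, ← h]; group
  refine ⟨C₁ * Y * C₁⁻¹, ?_, ?_, ?_, ?_⟩
  · rw [show C₁ * Y * C₁⁻¹ * z * (C₁ * Y * C₁⁻¹)⁻¹ = C₁ * (Y * (C₁⁻¹ * z * C₁) * Y⁻¹) * C₁⁻¹ by group,
      hCi z hC9, hz, hC0]; group
  · rw [show C₁ * Y * C₁⁻¹ * b 0 * (C₁ * Y * C₁⁻¹)⁻¹ = C₁ * (Y * (C₁⁻¹ * b 0 * C₁) * Y⁻¹) * C₁⁻¹ by group,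
      hCi _ hC0, hb]
    exact mul_inv_eq_iff_eq_mul.2 ((show Commute C₁ z from hC9).mul_right hC0).eq
  · rw [conj_pow, hk]; group
  · have h := HJT.commute_conj C₁ (mul_inv_eq_iff_eq_mul.1 hYg)
    rcases hcg with e | e <;> rw [e] at h
    · exact h
    · simpa using (show Commute (C₁ * Y * C₁⁻¹) x⁻¹ from h).inv_right.eq

theorem exists_base (B : Core z b S w x) (hone : ∀ u v : G, orderOf u = 2 → orderOf v = 2 → IsConj u v) :
    ∃ y, Base z b S w x y := by
  obtain ⟨b00, zz, zb, xz, xb, x3, b101, b1z, b11⟩ := B.small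
  obtain ⟨h, hhz, hhb⟩ := exists_swap B hone
  have b1i : (b 1)⁻¹ = b 1 := inv_eq_of_mul_eq_one_right b11
  have k1 : (b 1 * h) * z * (b 1 * h)⁻¹ = z * b 0 := by rw [← HJT.conj_assoc, hhz, b1i, b101]
  have k2 : (b 1 * h) * b 0 * (b 1 * h)⁻¹ = z := by
    rw [← HJT.conj_assoc, hhb, b1i, b1z, mul_assoc, b11, mul_one]
  set Y₀ := (b 1 * h)⁻¹ with hY₀
  have hY0z : Y₀ * z * Y₀⁻¹ = b 0 := by
    calc Y₀ * z * Y₀⁻¹ = Y₀ * ((b 1 * h) * b 0 * (b 1 * h)⁻¹) * Y₀⁻¹ := by rw [k2]
      _ = b 0 := by rw [hY₀]; group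
  have hY0b : Y₀ * b 0 * Y₀⁻¹ = z * b 0 := by
    have e : b 0 = z * (z * b 0) := by rw [← mul_assoc, zz, one_mul]
    calc Y₀ * b 0 * Y₀⁻¹ = (Y₀ * z * Y₀⁻¹) * (Y₀ * (z * b 0) * Y₀⁻¹) := by
          nth_rewrite 1 [e]; group
      _ = b 0 * z := by rw [hY0z, ← k1, hY₀]; group
      _ = z * b 0 := zb.symm
  obtain ⟨Y₁, h1z, h1b, k, hk⟩ := exists_threePow B hY0z hY0b
  obtain ⟨Y, hYz, hYb, hYk, hYx⟩ := exists_commuting B h1z h1b hk
  set L := LCof z b S w x with hL
  set d := b 1 * b 2 with hd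
  have hYxc : Y * x * Y⁻¹ = x := mul_inv_eq_iff_eq_mul.2 hYx
  have himg : ∀ r : List Nat, ev L (subW sixG r) = 1 → ∀ e f : List Nat, Y * d * Y⁻¹ = ev L e →
      Y * w * Y⁻¹ = ev L f → ev L (subW (sixI e f) r) = 1 := by
    intro r hr e f he hf
    rw [ev_subW] at hr ⊢
    have hmap : (sixI e f).map (ev L) = (sixG.map (ev L)).map fun u => Y * u * Y⁻¹ := by
      simp only [sixI, sixG, List.map_cons, List.map_nil, ev_cons, ev_nil, mul_one, hL, LCof, fl,
        List.getD_eq_getElem?_getD, List.getElem?_cons_succ, List.getElem?_cons_zero, Option.getD_some]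
      rw [← hd, hYz, hYb, hYxc, he, hf, show Y * x⁻¹ * Y⁻¹ = (Y * x * Y⁻¹)⁻¹ by group, hYxc]
      simp [hL, LCof]
    rw [hmap, ev_map_conj, hr]; group
  have hzb' : Y * (z * b 0) * Y⁻¹ = z := by
    rw [show Y * (z * b 0) * Y⁻¹ = (Y * z * Y⁻¹) * (Y * b 0 * Y⁻¹) by group, hYz, hYb, ← mul_assoc, ← zb,
      mul_assoc, b00, mul_one]
  have himC : ∀ v, v * z = z * v → v * b 0 = b 0 * v →
      Y * v * Y⁻¹ * z = z * (Y * v * Y⁻¹) ∧ Y * v * Y⁻¹ * b 0 = b 0 * (Y * v * Y⁻¹) := fun v h1 h2 => by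
    have a1 := HJT.commute_conj Y ((show Commute v z from h1).mul_right h2).eq
    have a2 := HJT.commute_conj Y h1
    rw [hzb'] at a1; rw [hYz] at a2
    exact ⟨a1, a2⟩
  have hwzb : w * z = z * w ∧ w * b 0 = b 0 * w ∧ d * z = z * d ∧ d * b 0 = b 0 * d := by
    refine ⟨?_, ?_, ?_, ?_⟩
    · simpa [LCof, fl] using B.eqC (u := [6, 9]) (v := [9, 6]) (by decide +kernel)
    · simpa [LCof, fl] using B.eqC (u := [6, 0]) (v := [0, 6]) (by decide +kernel)
    · simpa [hd, LCof, fl, mul_assoc] using B.eqC (u := [1, 2, 9]) (v := [9, 1, 2]) (by decide +kernel)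
    · simpa [hd, LCof, fl, mul_assoc] using B.eqC (u := [1, 2, 0]) (v := [0, 1, 2]) (by decide +kernel)
  obtain ⟨hf1, hf0⟩ := himC w hwzb.1 hwzb.2.1
  obtain ⟨he1, he0⟩ := himC d hwzb.2.2.1 hwzb.2.2.2
  obtain ⟨i, hi, hfi, hli⟩ := B.exC hf1
  obtain ⟨j, hj, hej, hlj⟩ := B.exC he1
  rw [← hL] at hfi hej
  have subLt : ∀ e f r : List Nat, (∀ l ∈ e, l < 10) → (∀ l ∈ f, l < 10) → ∀ l ∈ subW (sixI e f) r, l < 10 := by
    intro e f r he hf l hl
    simp only [subW, List.mem_flatMap] at hl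
    obtain ⟨p, -, hp⟩ := hl
    rcases lt_or_ge p 6 with h | h
    · interval_cases p <;> simp [sixI] at hp <;> first | omega | exact he l hp | exact hf l hp
    · rw [List.getD_eq_default _ _ (by simpa [sixI] using h)] at hp; simp at hp
  have relT : ∀ r ∈ relsF ++ relsP, ev L (subW sixG r) = 1 := by
    have h : ((relsF ++ relsP).all fun r => sameT TC.Tb 10 (subW sixG r) []) = true := by decide +kernel
    intro r hr
    rw [hL, B.eqC (List.all_eq_true.mp h r hr), ev_nil]
  have h0i : eqT (wdC i ++ [0]) ([0] ++ wdC i) = true := B.neC (by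
    rw [ev_append, ev_append, ← hL, ← hfi]; simpa [hL, LCof, fl] using hf0) (append_lt hli (by simp))
    (append_lt (by simp) hli)
  have h0j : eqT (wdC j ++ [0]) ([0] ++ wdC j) = true := B.neC (by
    rw [ev_append, ev_append, ← hL, ← hej]; simpa [hL, LCof, fl] using he0) (append_lt hlj (by simp))
    (append_lt (by simp) hlj)
  -- the candidate for the image of the four-group element
  have hft := of_allBelow fTest_all i hi
  have hFr : (relsF.all fun r => eqT (subW (sixI [] (wdC i)) r) []) = true := by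
    refine List.all_eq_true.mpr fun r hr => ?_
    have hno : ∀ e, subW (sixI [] (wdC i)) r = subW (sixI e (wdC i)) r := fun e => by
      simp only [relsF, List.mem_cons, List.not_mem_nil, or_false] at hr
      rcases hr with rfl | rfl <;> simp [subW, sixI]
    refine B.neC ?_ (subLt [] _ r (by simp) hli) (by simp)
    rw [hno (wdC j), ← hL, ev_nil]
    exact himg r (relT r (List.mem_append_left _ hr)) _ _ hej hfi
  unfold fTest at hft
  rw [h0i, hFr, cond_true, cond_true] at hft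
  obtain ⟨f, hfm, hfe⟩ := List.any_eq_true.mp hft
  have hfl := mem_lt (w := f) (by simp [hfm])
  have hfi' : Y * w * Y⁻¹ = ev L f := hfi.trans (B.of_eq hli hfl hfe)
  -- the pair
  have hpt := of_allBelow (List.all_eq_true.mp pTest_all f hfm) j hj
  have hPr : (relsP.all fun r => eqT (subW (sixI (wdC j) f) r) []) = true := by
    refine List.all_eq_true.mpr fun r hr => B.neC ?_ (subLt _ _ r hlj hfl) (by simp)
    rw [← hL, ev_nil]
    exact himg r (relT r (List.mem_append_right _ hr)) _ _ hej hfi'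
  unfold pTest at hpt
  rw [h0j, hPr, cond_true, cond_true] at hpt
  obtain ⟨n, hn, hpair⟩ := List.any_eq_true.mp hpt
  rw [List.mem_range] at hn
  rw [Bool.and_eq_true] at hpair
  have repev : ∀ (v : List Nat), ev L (List.replicate n 7 ++ v ++ List.replicate n 8) =
      x ^ n * ev L v * (x ^ n)⁻¹ := fun v => by
    rw [ev_append, ev_append]
    interval_cases n <;> simp [hL, LCof, fl, pow_succ]
  have repLt : ∀ v : List Nat, (∀ l ∈ v, l < 10) → ∀ l ∈ List.replicate n 7 ++ v ++ List.replicate n 8, l < 10 :=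
    fun v hv => append_lt (append_lt (fun l hl => by rw [(List.mem_replicate.1 hl).2]; norm_num) hv)
      (fun l hl => by rw [(List.mem_replicate.1 hl).2]; norm_num)
  have hed : Y * d * Y⁻¹ = x ^ n * ev L [1, 4, 8, 6, 7] * (x ^ n)⁻¹ := by
    rw [hej, ← repev]; exact B.of_eq hlj (repLt _ (by simp)) hpair.1
  have hfw : Y * w * Y⁻¹ = x ^ n * w * (x ^ n)⁻¹ := by
    have h6 : w = ev L [6] := by simp [hL, LCof, fl]
    rw [hfi', show x ^ n * w * (x ^ n)⁻¹ = x ^ n * ev L [6] * (x ^ n)⁻¹ by rw [← h6], ← repev]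
    exact B.of_eq hfl (repLt _ (by simp)) hpair.2
  set y := (x ^ n)⁻¹ * Y with hy
  have cx : Commute (x ^ n) z := (show Commute x z from xz).pow_left n
  have cb' : Commute (x ^ n) (b 0) := (show Commute x (b 0) from xb).pow_left n
  have fixx : ∀ v, Commute (x ^ n) v → (x ^ n)⁻¹ * v * x ^ n = v := fun v h => by
    rw [mul_assoc, ← h.eq]; group
  have conjy : ∀ v, y * v * y⁻¹ = (x ^ n)⁻¹ * (Y * v * Y⁻¹) * x ^ n := fun v => by rw [hy]; group
  have yx : y * x = x * y :=
    (((show Commute x x from Commute.refl x).pow_left n).inv_left.mul_left hYx).eq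
  have yw : y * w = w * y := by
    refine mul_inv_eq_iff_eq_mul.1 ?_
    rw [conjy, hfw]; group
  have yz : y * z * y⁻¹ = b 0 := by rw [conjy, hYz, fixx _ cb']
  have yb : y * b 0 * y⁻¹ = z * b 0 := by rw [conjy, hYb, fixx _ (cx.mul_right cb')]
  refine ⟨y, B, ?_, yx, yw, yz, yb, by rw [conjy, hed, ← hL]; group⟩
  -- its cube
  have hzby : y * (z * b 0) * y⁻¹ = z := by
    rw [show y * (z * b 0) * y⁻¹ = (y * z * y⁻¹) * (y * b 0 * y⁻¹) by group, yz, yb, ← mul_assoc, ← zb,
      mul_assoc, b00, mul_one]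
  have c3z : y ^ 3 * z = z * y ^ 3 := by
    refine mul_inv_eq_iff_eq_mul.1 ?_
    rw [show y ^ 3 = y * y * y by simp [pow_succ], ← HJT.conj_assoc, ← HJT.conj_assoc, yz, yb, hzby]
  have c3b : y ^ 3 * b 0 = b 0 * y ^ 3 := by
    refine mul_inv_eq_iff_eq_mul.1 ?_
    rw [show y ^ 3 = y * y * y by simp [pow_succ], ← HJT.conj_assoc, ← HJT.conj_assoc, yb, hzby, yz]
  have c3x : y ^ 3 * x = x * y ^ 3 := ((show Commute y x from yx).pow_left 3).eq
  have hpow : y ^ 3 ^ (k + 1) = 1 := by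
    have hx3 : x ^ 3 = 1 := by rw [← x3]; simp [pow_succ]
    have hc : Commute (x ^ n)⁻¹ Y := ((show Commute x Y from hYx.symm).pow_left n).inv_left
    rw [hy, hc.mul_pow, pow_succ, pow_mul Y, hYk, one_pow, mul_one, inv_pow, ← pow_mul,
      show n * (3 ^ k * 3) = 3 * (n * 3 ^ k) by ring, pow_mul, hx3, one_pow, inv_one]
  obtain ⟨p, hp, hyp, hlp⟩ := B.exC c3z
  rw [← hL] at hyp
  have h0p : eqT (wdC p ++ [0]) ([0] ++ wdC p) = true := B.neC (by
    rw [ev_append, ev_append, ← hL, ← hyp]; simpa [hL, LCof, fl] using c3b) (append_lt hlp (by simp))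
    (append_lt (by simp) hlp)
  have h7p : eqT (wdC p ++ [7]) ([7] ++ wdC p) = true := B.neC (by
    rw [ev_append, ev_append, ← hL, ← hyp]; simpa [hL, LCof, fl] using c3x) (append_lt hlp (by simp))
    (append_lt (by simp) hlp)
  have hct := of_allBelow cubeTest_all p hp
  unfold cubeTest at hct
  rw [h0p, h7p, cond_true, cond_true, Bool.and_eq_true] at hct
  have h6 : (y ^ 3) ^ 6 = 1 := by
    have := B.of_eq (append_lt (append_lt (append_lt (append_lt (append_lt hlp hlp) hlp) hlp) hlp) hlp)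
      (by simp) hct.1
    rw [← hL, ev_nil] at this
    simpa [ev_append, ← hyp, pow_succ, mul_assoc] using this
  have h9 : (y ^ 3) ^ 3 = 1 := by
    have h18 : y ^ 18 = 1 := by rw [show (18 : ℕ) = 3 * 6 from rfl, pow_mul]; exact h6
    obtain ⟨m, hm, hm'⟩ := (Nat.dvd_prime_pow Nat.prime_three).1 (orderOf_dvd_of_pow_eq_one hpow)
    have hd18 := orderOf_dvd_of_pow_eq_one h18
    rw [hm'] at hd18
    rw [← pow_mul]
    refine orderOf_dvd_iff_pow_eq_one.1 ?_
    rw [hm']
    rcases lt_or_ge m 3 with h | h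
    · interval_cases m <;> norm_num
    · have : 27 ∣ 18 := (show 27 ∣ 3 ^ m from pow_dvd_pow 3 h).trans hd18
      norm_num at this
  have h3p : eqT (wdC p ++ wdC p ++ wdC p) [] = true := B.neC (by
    rw [ev_append, ev_append, ← hL, ← hyp, ev_nil, ← h9]; simp [pow_succ]) (append_lt (append_lt hlp hlp) hlp)
    (by simp)
  rw [h3p, cond_true] at hct
  have hcases : y ^ 3 = 1 ∨ y ^ 3 = x ∨ y ^ 3 = x⁻¹ := by
    simp only [Bool.or_eq_true] at hct
    rcases hct.2 with (h | h) | h <;> have h' := B.of_eq hlp (by simp) h <;> rw [← hL, ← hyp] at h'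
    · exact Or.inl (by simpa using h')
    · exact Or.inr (Or.inl (by simpa [hL, LCof, fl] using h'))
    · exact Or.inr (Or.inr (by simpa [hL, LCof, fl] using h'))
  have c3w : y ^ 3 * w = w * y ^ 3 := ((show Commute y w from yw).pow_left 3).eq
  rcases hcases with h | h | h
  · exact h
  · exfalso
    rw [h] at c3w
    have := B.neC (u := [7, 6]) (v := [6, 7]) (by simpa [LCof, fl] using c3w) (by simp) (by simp)
    exact absurd this (by decide +kernel)
  · exfalso
    rw [h] at c3w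
    have := B.neC (u := [8, 6]) (v := [6, 8]) (by simpa [LCof, fl] using c3w) (by simp) (by simp)
    exact absurd this (by decide +kernel)

end CfsgLib.J3U
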